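import Cfsg.Agent.Omega.NO1.Gamma.Defs
import Cfsg.Agent.Omega.NoFF.Basic
import Mathlib.GroupTheory.Commutator.Basic
import Mathlib.GroupTheory.Index

/-!
# NO-1' (gamma), `q ≥ 4`: the closing argument (text bb OMEGA #15588 (I5), helper983)

`A₁`, `A₂` subgroups of `G` exchanged by some `s`, `R = A₁ ⊓ A₂ ≠ 1`.
`Adj A₁ A₂ X Y`: the pair `(X, Y)` is conjugate to `(A₁, A₂)`; `Eqv A₁ A₂ X Y`: `X`, `Y` have a common neighbour.

* `Pre A₁ A₂` : `[A₁, A₂] ≤ R`, `C_{A₁}(A₂) ≤ A₂`, `R` is TI, `N(R)` permutes `{A₁, A₂}`;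
* `Bip A₁ A₂` : moreover `G = ⟨N(A₁), N(A₂)⟩`, `quad` (two neighbours `X` of `A₁`, `W` of `A₂` whose points `X ⊓ A₁`, `A₂ ⊓ W` commute are adjacent), `cnt`
  (for neighbours `X` of `A₁`, `Z` of `A₂`, `Y` of `Z` there is a neighbour `W` of `A₂` whose point commutes with
  `X ⊓ A₁` and `Z ⊓ Y`);
* `Bip.false` : impossible;
* `Pre.cnt_of_card` : `cnt` from `|R|² < |A₂|` and `A₂^# ⊆` points;
* `Pre.quad_of_trans` : `quad` from the transitivity of `N(A₁) ∩ N(A₂)` on the commuting pairs of points.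
-/

set_option autoImplicit false

namespace Cfsg.Agent.Omega.NO1.Gamma.BipA

open Subgroup
open Cfsg.Agent.Omega.NoFF.Basic (conj_conj mem_conj conj_le_iff conj_le_centralizer comm_symm comm_mono)
open scoped Pointwise

variable {G : Type*} [Group G]

/-! ### Conjugation -/

theorem conj_inv_conj (g : G) (A : Subgroup G) : MulAut.conj g⁻¹ • (MulAut.conj g • A) = A := by
  rw [conj_conj, inv_mul_cancel, map_one, one_smul]

theorem conj_conj_inv (g : G) (A : Subgroup G) : MulAut.conj g • (MulAut.conj g⁻¹ • A) = A := by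
  rw [conj_conj, mul_inv_cancel, map_one, one_smul]

theorem conj_one (A : Subgroup G) : MulAut.conj (1 : G) • A = A := by
  rw [map_one, one_smul]

theorem conj_inj {g : G} {A B : Subgroup G} (h : MulAut.conj g • A = MulAut.conj g • B) : A = B := by
  have h1 := congrArg (fun C => MulAut.conj g⁻¹ • C) h
  simpa only [conj_inv_conj] using h1

theorem conj_eq_iff {g : G} {A B : Subgroup G} : MulAut.conj g • A = B ↔ A = MulAut.conj g⁻¹ • B := by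
  constructor
  · rintro rfl
    rw [conj_inv_conj]
  · rintro rfl
    rw [conj_conj_inv]

theorem conj_ne_bot {g : G} {A : Subgroup G} (h : A ≠ ⊥) : MulAut.conj g • A ≠ ⊥ := by
  intro h1
  apply h
  apply conj_inj (g := g)
  rw [h1, smul_bot]

/-! ### The relation -/

/-- the pair `(X, Y)` is conjugate to `(A₁, A₂)` -/
def Adj (A₁ A₂ X Y : Subgroup G) : Prop := ∃ g : G, X = MulAut.conj g • A₁ ∧ Y = MulAut.conj g • A₂

/-- `X`, `Y` have a common neighbour. -/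
def Eqv (A₁ A₂ X Y : Subgroup G) : Prop := ∃ Z : Subgroup G, Adj A₁ A₂ X Z ∧ Adj A₁ A₂ Z Y

variable {A₁ A₂ : Subgroup G}

theorem adj_base : Adj A₁ A₂ A₁ A₂ := ⟨1, by rw [conj_one], by rw [conj_one]⟩

theorem Adj.conj {X Y : Subgroup G} (h : Adj A₁ A₂ X Y) (g : G) :
    Adj A₁ A₂ (MulAut.conj g • X) (MulAut.conj g • Y) := by
  obtain ⟨k, rfl, rfl⟩ := h
  exact ⟨g * k, by rw [conj_conj], by rw [conj_conj]⟩

theorem Adj.of_conj {X Y : Subgroup G} {g : G} (h : Adj A₁ A₂ (MulAut.conj g • X) (MulAut.conj g • Y)) :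
    Adj A₁ A₂ X Y := by
  have h1 := h.conj g⁻¹
  rwa [conj_inv_conj, conj_inv_conj] at h1

theorem Eqv.conj {X Y : Subgroup G} (h : Eqv A₁ A₂ X Y) (g : G) :
    Eqv A₁ A₂ (MulAut.conj g • X) (MulAut.conj g • Y) := by
  obtain ⟨Z, h1, h2⟩ := h
  exact ⟨_, h1.conj g, h2.conj g⟩

theorem Adj.symm (hs : ∃ s : G, MulAut.conj s • A₁ = A₂ ∧ MulAut.conj s • A₂ = A₁) {X Y : Subgroup G}
    (h : Adj A₁ A₂ X Y) : Adj A₁ A₂ Y X := by
  obtain ⟨s, h1, h2⟩ := hs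
  obtain ⟨k, rfl, rfl⟩ := h
  exact ⟨k * s, by rw [← conj_conj, h1], by rw [← conj_conj, h2]⟩

/-! ### The hypotheses -/

/-- The pair `(A₁, A₂)`: the local hypotheses. -/
structure Pre (A₁ A₂ : Subgroup G) : Prop where
  ne : A₁ ≠ A₂
  ne_bot : A₁ ⊓ A₂ ≠ ⊥
  swap : ∃ s : G, MulAut.conj s • A₁ = A₂ ∧ MulAut.conj s • A₂ = A₁
  comm : ∀ a ∈ A₁, ∀ b ∈ A₂, a * b * a⁻¹ * b⁻¹ ∈ A₁ ⊓ A₂
  cen : A₁ ⊓ centralizer (A₂ : Set G) ≤ A₂
  ti : ∀ g : G, (MulAut.conj g • (A₁ ⊓ A₂)) ⊓ (A₁ ⊓ A₂) ≠ ⊥ → MulAut.conj g • (A₁ ⊓ A₂) = A₁ ⊓ A₂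
  perm : ∀ g : G, MulAut.conj g • (A₁ ⊓ A₂) = A₁ ⊓ A₂ → MulAut.conj g • A₂ = A₂ → MulAut.conj g • A₁ = A₁

/-- The hypotheses of the closing argument. -/
structure Bip (A₁ A₂ : Subgroup G) : Prop extends Pre A₁ A₂ where
  quad : ∀ X W : Subgroup G, Adj A₁ A₂ X A₁ → Adj A₁ A₂ A₂ W →
    X ⊓ A₁ ≤ centralizer ((A₂ ⊓ W : Subgroup G) : Set G) → Adj A₁ A₂ X W
  cnt : ∀ X Y Z : Subgroup G, Adj A₁ A₂ X A₁ → Adj A₁ A₂ A₂ Z → Adj A₁ A₂ Z Y →
    ∃ W : Subgroup G, Adj A₁ A₂ A₂ W ∧ X ⊓ A₁ ≤ centralizer ((A₂ ⊓ W : Subgroup G) : Set G) ∧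
      A₂ ⊓ W ≤ centralizer ((Z ⊓ Y : Subgroup G) : Set G)
  gen : normalizer (A₁ : Set G) ⊔ normalizer (A₂ : Set G) = ⊤

namespace Pre

variable (h : Pre A₁ A₂)
include h

theorem symm {X Y : Subgroup G} (hXY : Adj A₁ A₂ X Y) : Adj A₁ A₂ Y X := hXY.symm h.swap

theorem eqv_symm {X Y : Subgroup G} (hXY : Eqv A₁ A₂ X Y) : Eqv A₁ A₂ Y X := by
  obtain ⟨Z, h1, h2⟩ := hXY
  exact ⟨Z, h.symm h2, h.symm h1⟩

/-- `[X, Z] ≤ X ⊓ Z` -/
theorem comm' {X Z : Subgroup G} (hXZ : Adj A₁ A₂ X Z) {x z : G} (hx : x ∈ X) (hz : z ∈ Z) :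
    x * z * x⁻¹ * z⁻¹ ∈ X ⊓ Z := by
  obtain ⟨g, rfl, rfl⟩ := hXZ
  rw [mem_conj] at hx hz
  have h1 := h.comm _ hx _ hz
  rw [← Subgroup.smul_inf, mem_conj]
  have e : g⁻¹ * (x * z * x⁻¹ * z⁻¹) * g =
      g⁻¹ * x * g * (g⁻¹ * z * g) * (g⁻¹ * x * g)⁻¹ * (g⁻¹ * z * g)⁻¹ := by group
  rwa [e]

/-- `C_X(Z) ≤ Z` -/
theorem cen' {X Z : Subgroup G} (hXZ : Adj A₁ A₂ X Z) : X ⊓ centralizer (Z : Set G) ≤ Z := by
  obtain ⟨g, rfl, rfl⟩ := hXZ
  rintro x ⟨hx, hxc⟩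
  have hx' : x ∈ MulAut.conj g • A₁ := hx
  rw [mem_conj] at hx' ⊢
  refine h.cen ⟨hx', mem_centralizer_iff.2 ?_⟩
  intro a ha
  have h1 : g * a * g⁻¹ ∈ MulAut.conj g • A₂ := by
    rw [mem_conj]; simpa [mul_assoc] using ha
  have h2 := mem_centralizer_iff.1 hxc _ h1
  have h3 := congrArg (fun t => g⁻¹ * t * g) h2
  simpa [mul_assoc] using h3

/-- Two points are equal or meet trivially. -/
theorem ti' {X Z X' Z' : Subgroup G} (hXZ : Adj A₁ A₂ X Z) (hXZ' : Adj A₁ A₂ X' Z')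
    (hne : (X ⊓ Z) ⊓ (X' ⊓ Z') ≠ ⊥) : X ⊓ Z = X' ⊓ Z' := by
  obtain ⟨g, rfl, rfl⟩ := hXZ
  obtain ⟨k, rfl, rfl⟩ := hXZ'
  rw [← Subgroup.smul_inf, ← Subgroup.smul_inf] at hne ⊢
  have e : MulAut.conj g • (A₁ ⊓ A₂) = MulAut.conj k • (MulAut.conj (k⁻¹ * g) • (A₁ ⊓ A₂)) := by
    rw [conj_conj, mul_inv_cancel_left]
  rw [e] at hne ⊢
  rw [← Subgroup.smul_inf] at hne
  rw [h.ti _ fun h1 => hne (by rw [h1, smul_bot])]

/-- The point determines the second neighbour. -/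
theorem uniq {X Y Z : Subgroup G} (hX : Adj A₁ A₂ X Z) (hY : Adj A₁ A₂ Y Z) (hp : X ⊓ Z = Y ⊓ Z) :
    X = Y := by
  obtain ⟨g, rfl, rfl⟩ := hX
  obtain ⟨k, rfl, hk⟩ := hY
  have h1 : MulAut.conj (g⁻¹ * k) • A₂ = A₂ := by
    rw [← conj_conj, ← hk, conj_inv_conj]
  have h2 : MulAut.conj (g⁻¹ * k) • (A₁ ⊓ A₂) = A₁ ⊓ A₂ := by
    rw [← conj_conj]
    have h3 : MulAut.conj k • (A₁ ⊓ A₂) = MulAut.conj g • (A₁ ⊓ A₂) := by
      rw [Subgroup.smul_inf, Subgroup.smul_inf, ← hk, ← hp]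
    rw [h3, conj_inv_conj]
  have h3 := h.perm _ h2 h1
  rw [← conj_conj, conj_eq_iff, inv_inv] at h3
  exact h3.symm

/-- (i) -/
theorem inf_eq_bot {X Y Z : Subgroup G} (hX : Adj A₁ A₂ X Z) (hY : Adj A₁ A₂ Y Z) (hne : X ≠ Y) :
    X ⊓ Y = ⊥ := by
  have h1 : (X ⊓ Z) ⊓ (Y ⊓ Z) = ⊥ := by
    by_contra h2
    exact hne (h.uniq hX hY (h.ti' hX hY h2))
  rw [eq_bot_iff]
  rintro y ⟨hyX, hyY⟩
  have h2 : y ∈ Z := by
    refine h.cen' hX ⟨hyX, mem_centralizer_iff.2 ?_⟩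
    intro z hz
    have h3 := h.comm' hX hyX hz
    have h4 := h.comm' hY hyY hz
    have h5 : y * z * y⁻¹ * z⁻¹ ∈ (X ⊓ Z) ⊓ (Y ⊓ Z) := ⟨h3, h4⟩
    rw [h1, mem_bot] at h5
    have h6 : y * z = z * y := by
      have := congrArg (fun t => t * (z * y)) h5
      simpa [mul_assoc] using this
    exact h6.symm
  rw [← h1]
  exact ⟨⟨hyX, h2⟩, hyY, h2⟩

/-! ### `cnt` by counting -/

theorem isMulComm (hab : A₁ ≤ centralizer (A₁ : Set G)) {X Z : Subgroup G} (hXZ : Adj A₁ A₂ X Z) {x y : G}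
    (hx : x ∈ X) (hy : y ∈ X) : x * y = y * x := by
  obtain ⟨g, rfl, -⟩ := hXZ
  exact (mem_centralizer_iff.1 (conj_le_centralizer hab hy) x hx)

theorem isMulComm' (hab : A₁ ≤ centralizer (A₁ : Set G)) {X Z : Subgroup G} (hXZ : Adj A₁ A₂ X Z) {x y : G}
    (hx : x ∈ Z) (hy : y ∈ Z) : x * y = y * x := h.isMulComm hab (h.symm hXZ) hx hy

/-- the conjugate of a point by an element which commutes with a nontrivial element of it. -/
theorem conj_mem_point {X Z : Subgroup G} (hXZ : Adj A₁ A₂ X Z) {g r r' : G} (hr : r ∈ X ⊓ Z) (hr1 : r ≠ 1)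
    (hg : g * r = r * g) (hr' : r' ∈ X ⊓ Z) : g * r' * g⁻¹ ∈ X ⊓ Z := by
  have h1 : (MulAut.conj g • X) ⊓ (MulAut.conj g • Z) = X ⊓ Z := by
    refine h.ti' (hXZ.conj g) hXZ fun h2 => hr1 ?_
    have h3 : r ∈ (MulAut.conj g • X ⊓ MulAut.conj g • Z) ⊓ (X ⊓ Z) := by
      refine ⟨?_, hr⟩
      rw [← Subgroup.smul_inf]
      change r ∈ MulAut.conj g • (X ⊓ Z)
      rw [mem_conj]
      have e : g⁻¹ * r * g = r := by
        rw [mul_assoc, ← hg, inv_mul_cancel_left]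
      rwa [e]
    rw [h2, mem_bot] at h3
    exact h3
  rw [← h1, ← Subgroup.smul_inf, mem_conj]
  simpa [mul_assoc] using hr'

/-- An element of `V₁` which commutes with one nontrivial element of the point `V₂ ⊓ W` commutes with the point. -/
theorem comm_point (hab : A₁ ≤ centralizer (A₁ : Set G)) {V₁ V₂ W : Subgroup G} (h1 : Adj A₁ A₂ V₁ V₂)
    (h2 : Adj A₁ A₂ V₂ W) {p r r' : G} (hp : p ∈ V₁) (hr : r ∈ V₂ ⊓ W) (hr1 : r ≠ 1) (hpr : p * r = r * p)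
    (hr' : r' ∈ V₂ ⊓ W) : p * r' = r' * p := by
  by_cases he : V₁ ⊓ V₂ = V₂ ⊓ W
  · have h3 : r' ∈ V₁ ⊓ V₂ := by rw [he]; exact hr'
    exact h.isMulComm hab h1 hp h3.1
  · have h3 : (V₁ ⊓ V₂) ⊓ (V₂ ⊓ W) = ⊥ := by
      by_contra h4
      exact he (h.ti' h1 h2 h4)
    have h4 := h.comm' h1 hp hr'.1
    have h5 : p * r' * p⁻¹ * r'⁻¹ ∈ V₂ ⊓ W :=
      mul_mem (h.conj_mem_point h2 hr hr1 hpr hr') (inv_mem hr')
    have h6 : p * r' * p⁻¹ * r'⁻¹ ∈ (V₁ ⊓ V₂) ⊓ (V₂ ⊓ W) := ⟨h4, h5⟩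
    rw [h3, mem_bot] at h6
    have := congrArg (fun t => t * (r' * p)) h6
    simpa [mul_assoc] using this

/-- `|V₂ : C_{V₂}(P)| ≤ |R|` for a point `P = X ⊓ V₁` of `V₁`. -/
theorem relIndex_le [Finite G] (hab : A₁ ≤ centralizer (A₁ : Set G)) {X V₁ V₂ : Subgroup G}
    (h1 : Adj A₁ A₂ V₁ V₂) (h2 : Adj A₁ A₂ X V₁) :
    (centralizer ((X ⊓ V₁ : Subgroup G) : Set G)).relIndex V₂ ≤ Nat.card (V₁ ⊓ V₂ : Subgroup G) := by
  have hpos : 0 < Nat.card (V₁ ⊓ V₂ : Subgroup G) := Nat.card_pos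
  have hne : X ⊓ V₁ ≠ ⊥ := by
    obtain ⟨g, rfl, rfl⟩ := h2
    rw [← Subgroup.smul_inf]
    exact conj_ne_bot h.ne_bot
  obtain ⟨p, hp, hp1⟩ : ∃ p : G, p ∈ X ⊓ V₁ ∧ p ≠ 1 := by
    obtain ⟨a, ha⟩ := (Subgroup.ne_bot_iff_exists_ne_one).1 hne
    exact ⟨a, a.2, fun h3 => ha (Subtype.ext h3)⟩
  -- the kernel centralises the point
  have hker : ∀ a ∈ V₂, a * (p : G) = p * a → a ∈ centralizer ((X ⊓ V₁ : Subgroup G) : Set G) := by
    intro a ha hap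
    refine mem_centralizer_iff.2 fun p' hp' => ?_
    have h3 : a * p' = p' * a := h.comm_point hab (h.symm h1) (h.symm h2) ha
      (by rw [inf_comm]; exact hp) hp1 hap (by rw [inf_comm]; exact hp')
    exact h3.symm
  let f : V₂ →* (V₁ ⊓ V₂ : Subgroup G) :=
    MonoidHom.mk' (fun a => ⟨p * a * (p : G)⁻¹ * (a : G)⁻¹, h.comm' h1 hp.2 a.2⟩) (by
      intro a b
      apply Subtype.ext
      change (p : G) * (a * b) * (p : G)⁻¹ * ((a : G) * b)⁻¹ =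
        p * a * (p : G)⁻¹ * (a : G)⁻¹ * (p * b * (p : G)⁻¹ * (b : G)⁻¹)
      have h3 : (p : G) * b * (p : G)⁻¹ * (b : G)⁻¹ ∈ V₂ := (h.comm' h1 hp.2 b.2).2
      have h4 := h.isMulComm' hab h1 a.2 h3
      calc (p : G) * (a * b) * (p : G)⁻¹ * ((a : G) * b)⁻¹
          = p * a * (p : G)⁻¹ * ((p * b * (p : G)⁻¹ * (b : G)⁻¹) * (a : G)⁻¹) := by group
        _ = p * a * (p : G)⁻¹ * ((a : G)⁻¹ * (a * (p * b * (p : G)⁻¹ * (b : G)⁻¹)) * (a : G)⁻¹) := by group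
        _ = p * a * (p : G)⁻¹ * ((a : G)⁻¹ * ((p * b * (p : G)⁻¹ * (b : G)⁻¹) * a) * (a : G)⁻¹) := by rw [h4]
        _ = _ := by group)
  have h3 : f.ker ≤ (centralizer ((X ⊓ V₁ : Subgroup G) : Set G)).subgroupOf V₂ := by
    intro a ha
    rw [MonoidHom.mem_ker] at ha
    rw [mem_subgroupOf]
    have h4 : (p : G) * a * (p : G)⁻¹ * (a : G)⁻¹ = 1 := congrArg Subtype.val ha
    refine hker a a.2 ?_
    have := congrArg (fun t => t * ((a : G) * p)) h4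
    simpa [mul_assoc] using this.symm
  calc (centralizer ((X ⊓ V₁ : Subgroup G) : Set G)).relIndex V₂ ≤ f.ker.index :=
        Nat.le_of_dvd (Nat.pos_of_ne_zero Subgroup.index_ne_zero_of_finite) (Subgroup.index_dvd_of_le h3)
    _ = Nat.card f.range := Subgroup.index_ker f
    _ ≤ Nat.card (V₁ ⊓ V₂ : Subgroup G) := Subgroup.card_le_card_group _

/-- `cnt` from `|R|² < |A₂|` if the nontrivial elements of `A₂` are in points. -/
theorem cnt_of_card [Finite G] (hab : A₁ ≤ centralizer (A₁ : Set G))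
    (hc : Nat.card (A₁ ⊓ A₂ : Subgroup G) ^ 2 < Nat.card A₂)
    (cover : ∀ r ∈ A₂, r ≠ 1 → ∃ W : Subgroup G, Adj A₁ A₂ A₂ W ∧ r ∈ W) (X Y Z : Subgroup G)
    (hX : Adj A₁ A₂ X A₁) (hZ : Adj A₁ A₂ A₂ Z) (hY : Adj A₁ A₂ Z Y) :
    ∃ W : Subgroup G, Adj A₁ A₂ A₂ W ∧ X ⊓ A₁ ≤ centralizer ((A₂ ⊓ W : Subgroup G) : Set G) ∧
      A₂ ⊓ W ≤ centralizer ((Z ⊓ Y : Subgroup G) : Set G) := by
  have h1 := h.relIndex_le hab adj_base hX
  have h2 := h.relIndex_le hab (h.symm hZ) (h.symm hY)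
  have h3 : Nat.card (Z ⊓ A₂ : Subgroup G) = Nat.card (A₁ ⊓ A₂ : Subgroup G) := by
    obtain ⟨g, e1, e2⟩ := h.symm hZ
    rw [e1]
    conv_lhs => rw [e2, ← Subgroup.smul_inf]
    exact Nat.card_congr (Subgroup.equivSMul (MulAut.conj g) _).toEquiv.symm
  rw [h3, inf_comm] at h2
  have h4 := Subgroup.relIndex_inf_le (H := centralizer ((X ⊓ A₁ : Subgroup G) : Set G))
    (K := centralizer ((Z ⊓ Y : Subgroup G) : Set G)) (L := A₂)
  have h5 : (centralizer ((X ⊓ A₁ : Subgroup G) : Set G) ⊓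
      centralizer ((Z ⊓ Y : Subgroup G) : Set G)).relIndex A₂ < Nat.card A₂ := by
    refine lt_of_le_of_lt (h4.trans (Nat.mul_le_mul h1 h2)) ?_
    rwa [← pow_two]
  have h6 : ∃ r ∈ A₂, r ≠ 1 ∧ r ∈ centralizer ((X ⊓ A₁ : Subgroup G) : Set G) ∧
      r ∈ centralizer ((Z ⊓ Y : Subgroup G) : Set G) := by
    by_contra hcon
    push Not at hcon
    have h7 : (centralizer ((X ⊓ A₁ : Subgroup G) : Set G) ⊓
        centralizer ((Z ⊓ Y : Subgroup G) : Set G)).subgroupOf A₂ = ⊥ := by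
      rw [eq_bot_iff]
      intro r hr
      rw [mem_subgroupOf] at hr
      rw [mem_bot]
      by_contra hr1
      exact hcon r r.2 (fun h8 => hr1 (Subtype.ext h8)) hr.1 hr.2
    rw [Subgroup.relIndex, h7, Subgroup.index_bot] at h5
    exact lt_irrefl _ h5
  obtain ⟨r, hr, hr1, hr2, hr3⟩ := h6
  obtain ⟨W, hW, hrW⟩ := cover r hr hr1
  refine ⟨W, hW, ?_, ?_⟩
  · intro p hp
    refine mem_centralizer_iff.2 fun r' hr' => ?_
    exact (h.comm_point hab adj_base hW hp.2 ⟨hr, hrW⟩ hr1 (mem_centralizer_iff.1 hr2 p hp) hr').symm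
  · refine comm_symm ?_
    intro p hp
    refine mem_centralizer_iff.2 fun r' hr' => ?_
    exact (h.comm_point hab (h.symm hZ) hW hp.1 ⟨hr, hrW⟩ hr1 (mem_centralizer_iff.1 hr3 p hp) hr').symm

/-- `quad` from the transitivity of `N(A₁) ∩ N(A₂)` on the pairs of commuting points and one example. -/
theorem quad_of_trans {X₀ W₀ : Subgroup G} (hX₀ : Adj A₁ A₂ X₀ A₁) (hW₀ : Adj A₁ A₂ A₂ W₀)
    (h₀ : Adj A₁ A₂ X₀ W₀)
    (tr : ∀ X W : Subgroup G, Adj A₁ A₂ X A₁ → Adj A₁ A₂ A₂ W →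
      X ⊓ A₁ ≤ centralizer ((A₂ ⊓ W : Subgroup G) : Set G) → X ⊓ A₁ ≠ A₁ ⊓ A₂ → A₂ ⊓ W ≠ A₁ ⊓ A₂ →
      ∃ g : G, MulAut.conj g • A₁ = A₁ ∧ MulAut.conj g • A₂ = A₂ ∧
        MulAut.conj g • (X ⊓ A₁) = X₀ ⊓ A₁ ∧ MulAut.conj g • (A₂ ⊓ W) = A₂ ⊓ W₀)
    (X W : Subgroup G) (hX : Adj A₁ A₂ X A₁) (hW : Adj A₁ A₂ A₂ W)
    (hc : X ⊓ A₁ ≤ centralizer ((A₂ ⊓ W : Subgroup G) : Set G)) : Adj A₁ A₂ X W := by
  by_cases h1 : X ⊓ A₁ = A₁ ⊓ A₂
  · have h2 : X = A₂ := h.uniq hX (h.symm adj_base) (by rw [h1, inf_comm])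
    rw [h2]
    exact hW
  by_cases h2 : A₂ ⊓ W = A₁ ⊓ A₂
  · have h3 : W = A₁ := h.uniq (h.symm hW) adj_base (by rw [inf_comm, h2])
    rw [h3]
    exact hX
  obtain ⟨g, e1, e2, e3, e4⟩ := tr X W hX hW hc h1 h2
  have h3 : MulAut.conj g • X = X₀ := by
    refine h.uniq (Z := A₁) ?_ hX₀ ?_
    · have := hX.conj g
      rwa [e1] at this
    · rw [← e3, Subgroup.smul_inf, e1]
  have h4 : MulAut.conj g • W = W₀ := by
    refine h.uniq (Z := A₂) ?_ (h.symm hW₀) ?_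
    · have := (h.symm hW).conj g
      rwa [e2] at this
    · rw [inf_comm W₀, ← e4, Subgroup.smul_inf, e2, inf_comm]
  apply Adj.of_conj (g := g)
  rw [h3, h4]
  exact h₀

end Pre

namespace Bip

variable (h : Bip A₁ A₂)
include h

/-- `quad` for conjugates. -/
theorem quad' {X V₁ V₂ W : Subgroup G} (h1 : Adj A₁ A₂ X V₁) (h2 : Adj A₁ A₂ V₁ V₂) (h3 : Adj A₁ A₂ V₂ W)
    (h4 : X ⊓ V₁ ≤ centralizer ((V₂ ⊓ W : Subgroup G) : Set G)) : Adj A₁ A₂ X W := by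
  obtain ⟨g, rfl, rfl⟩ := h2
  obtain ⟨X', rfl⟩ : ∃ X' : Subgroup G, X = MulAut.conj g • X' := ⟨_, (conj_conj_inv g X).symm⟩
  obtain ⟨W', rfl⟩ : ∃ W' : Subgroup G, W = MulAut.conj g • W' := ⟨_, (conj_conj_inv g W).symm⟩
  refine (h.quad X' W' h1.of_conj h3.of_conj ?_).conj g
  rw [← Subgroup.smul_inf, ← Subgroup.smul_inf] at h4
  have h5 := conj_le_centralizer (g := g⁻¹) h4
  rwa [conj_inv_conj, conj_inv_conj] at h5

/-- (ii) -/
theorem trans {X V Y : Subgroup G} (h1 : Eqv A₁ A₂ X V) (h2 : Eqv A₁ A₂ V Y) : Eqv A₁ A₂ X Y := by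
  obtain ⟨V₁, h3, g, rfl, rfl⟩ := h1
  obtain ⟨Z, h4, h5⟩ := h2
  obtain ⟨X', rfl⟩ : ∃ X' : Subgroup G, X = MulAut.conj g • X' := ⟨_, (conj_conj_inv g X).symm⟩
  obtain ⟨Y', rfl⟩ : ∃ Y' : Subgroup G, Y = MulAut.conj g • Y' := ⟨_, (conj_conj_inv g Y).symm⟩
  obtain ⟨Z', rfl⟩ : ∃ Z' : Subgroup G, Z = MulAut.conj g • Z' := ⟨_, (conj_conj_inv g Z).symm⟩
  have h3 := h3.of_conj
  have h4 := h4.of_conj
  have h5 := h5.of_conj
  obtain ⟨W, h6, h7, h8⟩ := h.cnt X' Y' Z' h3 h4 h5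
  have h9 : Adj A₁ A₂ X' W := h.quad X' W h3 h6 h7
  have h10 : Adj A₁ A₂ W Y' := by
    refine h.quad' (h.toPre.symm h6) h4 h5 ?_
    rw [inf_comm]
    exact h8
  exact Eqv.conj ⟨W, h9, h10⟩ g

/-- **(I5)** -/
theorem false : False := by
  obtain ⟨s, hs1, hs2⟩ := h.swap
  let T : Subgroup G :=
    { carrier := {g | Eqv A₁ A₂ A₂ (MulAut.conj g • A₂)}
      one_mem' := by
        change Eqv A₁ A₂ A₂ (MulAut.conj (1 : G) • A₂)
        rw [conj_one]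
        exact ⟨A₁, h.toPre.symm adj_base, adj_base⟩
      mul_mem' := by
        intro a b ha hb
        change Eqv A₁ A₂ A₂ (MulAut.conj (a * b) • A₂)
        rw [← conj_conj]
        exact h.trans ha (Eqv.conj hb a)
      inv_mem' := by
        intro a ha
        change Eqv A₁ A₂ A₂ (MulAut.conj a⁻¹ • A₂)
        have h1 := Eqv.conj (show Eqv A₁ A₂ A₂ (MulAut.conj a • A₂) from ha) a⁻¹
        rw [conj_inv_conj] at h1
        exact h.toPre.eqv_symm h1 }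
  have hT : T = ⊤ := by
    rw [eq_top_iff, ← h.gen]
    refine sup_le ?_ ?_
    · intro g hg
      have h1 : MulAut.conj g • A₁ = A₁ := conj_eq hg
      have h2 : Adj A₁ A₂ A₁ (MulAut.conj g • A₂) := by
        have h3 := (adj_base (A₁ := A₁) (A₂ := A₂)).conj g
        rwa [h1] at h3
      exact ⟨A₁, h.toPre.symm adj_base, h2⟩
    · intro g hg
      have h1 : MulAut.conj g • A₂ = A₂ := conj_eq hg
      change Eqv A₁ A₂ A₂ (MulAut.conj g • A₂)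
      rw [h1]
      exact ⟨A₁, h.toPre.symm adj_base, adj_base⟩
  have h1 : s ∈ T := by rw [hT]; exact mem_top s
  have h2 : Eqv A₁ A₂ A₂ A₁ := by
    have h3 : Eqv A₁ A₂ A₂ (MulAut.conj s • A₂) := h1
    rwa [hs2] at h3
  obtain ⟨Z, h3, h4⟩ := h2
  apply h.ne_bot
  rw [inf_comm]
  exact h.toPre.inf_eq_bot h3 (h.toPre.symm h4) h.ne.symm
where
  conj_eq {B : Subgroup G} {g : G} (hg : g ∈ normalizer (B : Set G)) : MulAut.conj g • B = B := by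
    ext x
    rw [mem_conj]
    have := (mem_normalizer_iff.1 ((normalizer (B : Set G)).inv_mem hg)) x
    rw [inv_inv] at this
    exact this.symm

end Bip

end Cfsg.Agent.Omega.NO1.Gamma.BipA

namespace Cfsg.Agent.Omega.NO1.Gamma

open Subgroup
open scoped Pointwise
open Cfsg.Agent.Omega.NO1.Beta.Meet (cj cj_inj mem_cj)
open BipA (Adj adj_base conj_conj_inv conj_inv_conj)

variable {G : Type*} [Group G] {R A B : Subgroup G}

namespace Bip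

theorem ne' [Finite G] (h : Bip R A B) : A ≠ B := by
  rintro rfl
  have h1 := h.inf
  have h2 := h.big
  rw [inf_idem] at h1
  rw [h1] at h2
  have h3 : 0 < Nat.card R := Nat.card_pos
  nlinarith

/-- the local hypotheses of `BipA` -/
theorem pre [Finite G] (h : Bip R A B) : BipA.Pre A B where
  ne := h.ne'
  ne_bot := by rw [h.inf]; exact h.ne
  swap := by
    obtain ⟨s, -, h1, h2⟩ := h.swap
    exact ⟨s, h1, h2⟩
  comm := by
    intro a ha b hb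
    rw [h.inf]
    exact h.comm a ha b hb
  cen := by
    rintro x ⟨hx, hx'⟩
    have h1 : x ∈ R := h.cenA x hx fun y hy => (mem_centralizer_iff.1 hx' y hy).symm
    rw [← h.inf] at h1
    exact h1.2
  ti := by
    intro g hg
    rw [h.inf] at hg ⊢
    exact h.ti g (by rwa [inf_comm])
  perm := by
    intro g h1 h2
    rw [h.inf] at h1
    rcases h.nor g h1 with h3 | h3
    · exact h3.1
    · exact absurd (cj_inj (c := g) (h3.1.trans h2.symm)) h.ne'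

/-- the hypotheses of `BipA` -/
theorem bip [Finite G] (h : Bip R A B) : BipA.Bip A B where
  toPre := h.pre
  quad := by
    intro X W hX hW hc
    obtain ⟨s, -, hs1, hs2⟩ := h.swap
    -- `X = cj n B`, `cj n A = A`
    obtain ⟨n, hn1, rfl⟩ : ∃ n : G, cj n A = A ∧ X = cj n B := by
      obtain ⟨k, e1, e2⟩ := hX
      refine ⟨k * s, ?_, ?_⟩
      · rw [Beta.Meet.cj_mul, hs1]
        exact e2.symm
      · rw [Beta.Meet.cj_mul, hs2]
        exact e1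
    obtain ⟨m, hm1, rfl⟩ : ∃ m : G, cj m B = B ∧ W = cj m A := by
      obtain ⟨k, e1, e2⟩ := hW
      refine ⟨k * s, ?_, ?_⟩
      · rw [Beta.Meet.cj_mul, hs2]
        exact e1.symm
      · rw [Beta.Meet.cj_mul, hs1]
        exact e2
    have e1 : cj n B ⊓ A = cj n R := by
      conv_lhs => rw [← hn1]
      rw [← h.inf, inf_comm]
      exact (Subgroup.smul_inf _ _ _).symm
    have e2 : B ⊓ cj m A = cj m R := by
      conv_lhs => rw [← hm1]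
      rw [← h.inf, inf_comm]
      exact (Subgroup.smul_inf _ _ _).symm
    rw [e1, e2] at hc
    by_cases hn : cj n R = R
    · have h1 : cj n B = B := by
        rcases h.nor n hn with h3 | h3
        · exact h3.2
        · exact absurd (hn1.symm.trans h3.1) h.ne'
      rw [h1]
      exact hW
    by_cases hm : cj m R = R
    · have h1 : cj m A = A := by
        rcases h.nor m hm with h3 | h3
        · exact h3.1
        · exact absurd (h3.2.symm.trans hm1) h.ne'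
      rw [h1]
      exact hX
    obtain ⟨g, h1, h2⟩ := h.key m n hm1 hn1 hm hn (by
      intro x hx y hy
      exact mem_centralizer_iff.1 (hc hy) x hx)
    exact h.pre.symm ⟨g, h1, h2⟩
  cnt := by
    refine h.pre.cnt_of_card ?_ ?_ ?_
    · intro x hx
      exact mem_centralizer_iff.2 fun y hy => h.comA y hy x hx
    · rw [h.inf]
      exact h.big
    · intro r hr _
      obtain ⟨g, h1, h2⟩ := h.covB r hr
      refine ⟨cj g⁻¹ A, ?_, ?_⟩
      · have h3 := h.pre.symm ((adj_base (A₁ := A) (A₂ := B)).conj g⁻¹)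
        have h4 : cj g⁻¹ B = B := by
          conv_lhs => rw [← h1]
          exact conj_inv_conj g B
        have h5 : MulAut.conj g⁻¹ • B = B := h4
        rwa [h5] at h3
      · rw [mem_cj, inv_inv]
        rw [← h.inf] at h2
        exact h2.1
  gen := h.gen

/-- **(I5)** of text #15588. -/
theorem false [Finite G] (h : Bip R A B) : False := h.bip.false

end Bip

end Cfsg.Agent.Omega.NO1.Gamma
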