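import Cfsg.Agent.Omega.NO1.Gamma.GinOf
import Cfsg.Agent.Omega.NO1.Gamma.Bip

/-!
# Type (gamma): the contradiction

`Gin0.false : Gin0 → POut → R TI → G = ⟨N(R), N(V)⟩ → G simple → False`.
-/

set_option autoImplicit false
set_option linter.unusedVariables false
set_option linter.unusedSectionVars false

open Subgroup
open scoped Pointwise

namespace Cfsg.Agent.Omega.NO1.Gamma

open Cfsg.Agent.Omega.NO1.Beta.Meet (cj mem_cj conj_mem_cj cj_mul cj_inj cj_eq_of_comm cj_eq_of_mem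
  mem_normalizer_of_cj cj_of_mem_normalizer)

variable {G : Type*} [Group G] {I J : Type*}

theorem POut.transpose {V R A B : Subgroup G} (o : POut V R A B) : POut V R B A where
  perm g hg := by
    rcases o.perm g hg with ⟨h1, h2⟩ | ⟨h1, h2⟩
    · exact Or.inl ⟨h2, h1⟩
    · exact Or.inr ⟨h2, h1⟩
  tran x hx hxR y hy hyR h := by
    obtain ⟨g, h1, h2, h3, h4, h5⟩ := o.tran y hy hyR x hx hxR h.symm
    exact ⟨g, h1, h3, h2, h5, h4⟩
  tranA y hy hyR := by
    obtain ⟨g, h1, h2, h3, h4⟩ := o.tranB y hy hyR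
    exact ⟨g, h1, h3, h2, h4⟩
  tranB x hx hxR := by
    obtain ⟨g, h1, h2, h3, h4⟩ := o.tranA x hx hxR
    exact ⟨g, h1, h3, h2, h4⟩

namespace Grid

variable {V : Subgroup G} {R Q : I → J → Subgroup G} (g : Grid V R Q)
include g

/-- `Q i j` normalises the row group `A_i` -/
theorem Q_nor_row {i : I} {j : J} {x : G} (hx : x ∈ Q i j) : x ∈ normalizer (rowG Q i : Set G) := by
  have h1 : ∀ a ∈ Q i j, ∀ b ∈ rowG Q i, a * b * a⁻¹ ∈ rowG Q i := by
    intro a ha b hb
    have h2 := g.R_row i j (g.QQ i j a ha b (g.rowG_le i j hb))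
    have e : a * b * a⁻¹ = (a * b * a⁻¹ * b⁻¹) * b := by group
    rw [e]; exact mul_mem h2 hb
  rw [mem_normalizer_iff]
  intro b
  constructor
  · intro hb; exact h1 x hx b hb
  · intro hb
    have := h1 x⁻¹ (inv_mem hx) _ hb
    have e : x⁻¹ * (x * b * x⁻¹) * x⁻¹⁻¹ = b := by group
    rwa [e] at this

/-- every column group normalises every row group -/
theorem col_nor_row (i : I) : (⨆ j, colG Q j) ≤ normalizer (rowG Q i : Set G) :=
  iSup_le fun j x hx => g.Q_nor_row (i := i) (j := j) (g.transpose.rowG_le j i hx)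

theorem row_nor_col (j : J) : (⨆ i, rowG Q i) ≤ normalizer (colG Q j : Set G) :=
  g.transpose.col_nor_row j

theorem Q_le_sup {A B : Subgroup G} {i0 : I} {j0 : J} (i : I) (j : J) :
    Q i j ≤ normalizer (rowG Q i0 : Set G) ⊔ normalizer (colG Q j0 : Set G) := by
  rw [g.Q_sup]
  refine sup_le ?_ ?_
  · exact (((le_iSup (rowG Q) i).trans (g.row_nor_col j0))).trans le_sup_right
  · exact (((le_iSup (colG Q) j).trans (g.col_nor_row i0))).trans le_sup_left

end Grid

theorem normalizer_sup_swap {A B : Subgroup G} {g : G} (h : (cj g A = A ∧ cj g B = B) ∨ (cj g A = B ∧ cj g B = A)) :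
    g ∈ normalizer ((normalizer (A : Set G) ⊔ normalizer (B : Set G) : Subgroup G) : Set G) := by
  have hN : ∀ (X : Subgroup G), cj g (normalizer (X : Set G)) = normalizer ((cj g X : Subgroup G) : Set G) := by
    intro X
    ext x
    rw [mem_cj]
    constructor
    · intro hx
      apply mem_normalizer_of_cj
      have h1 := cj_of_mem_normalizer hx
      have e : x = g * (g⁻¹ * x * g) * g⁻¹ := by group
      have h2 : cj x (cj g X) = cj g (cj (g⁻¹ * x * g) X) := by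
        rw [← cj_mul, ← cj_mul]; congr 1; group
      rw [h2, h1]
    · intro hx
      apply mem_normalizer_of_cj
      have h1 := cj_of_mem_normalizer hx
      apply cj_inj (c := g)
      rw [← cj_mul]
      have e : g * (g⁻¹ * x * g) = x * g := by group
      rw [e, cj_mul, h1]
  apply mem_normalizer_of_cj
  have h1 : cj g (normalizer (A : Set G) ⊔ normalizer (B : Set G)) =
      cj g (normalizer (A : Set G)) ⊔ cj g (normalizer (B : Set G)) := Subgroup.smul_sup _ _ _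
  rw [h1, hN, hN]
  rcases h with ⟨h2, h3⟩ | ⟨h2, h3⟩
  · rw [h2, h3]
  · rw [h2, h3, sup_comm]

namespace Gin0

variable {F : Type*} [Field F] {S : Sylow 2 G} {V : Subgroup G} {R Q : I → J → Subgroup G} {i0 i1 : I}
  {j0 j1 : J} {v : F → F → F → F → G} {p p' : G → F} (h : Gin0 F S V R Q i0 i1 j0 j1 v p p')
include h

/-- `V ⊓ A = {v a b 0 0}` -/
theorem mem_V_row {x : G} (hV : x ∈ V) (hx : x ∈ rowG Q i0) : ∃ a b, x = v a b 0 0 := by
  obtain ⟨a, b, c, d, rfl⟩ := h.v_surj x hV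
  obtain ⟨rfl, rfl⟩ := (h.row_V a b c d).1 hx
  exact ⟨a, b, rfl⟩

/-- `1 × w` maps `R i0 j0` to `R i0 j1` -/
theorem wey_facts : ∃ w ∈ ⨆ l, colG Q l, (∀ a b c d, w * v a b c d * w⁻¹ = v b a d c) ∧
    cj w (R i0 j0) = R i0 j1 ∧ cj w (rowG Q i0) = rowG Q i0 ∧ cj w (colG Q j0) = colG Q j1 := by
  obtain ⟨w, hw, h1⟩ := h.gin.wey
  have e1 : cj w (R i0 j0) = R i0 j1 := by
    ext x
    rw [mem_cj, h.R00, h.R01]
    constructor
    · rintro ⟨a, ha⟩
      refine ⟨a, ?_⟩
      rw [← h1 a 0 0 0, ← ha]; group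
    · rintro ⟨a, rfl⟩
      refine ⟨a, ?_⟩
      rw [← h1 a 0 0 0]; group
  have e2 : cj w (R i1 j0) = R i1 j1 := by
    ext x
    rw [mem_cj, h.R10, h.R11]
    constructor
    · rintro ⟨a, ha⟩
      refine ⟨a, ?_⟩
      rw [← h1 0 0 a 0, ← ha]; group
    · rintro ⟨a, rfl⟩
      refine ⟨a, ?_⟩
      rw [← h1 0 0 a 0]; group
  refine ⟨w, hw, h1, e1, ?_, ?_⟩
  · exact cj_of_mem_normalizer (h.grid.col_nor_row i0 hw)
  · have h2 := h.grid.transpose.row_eq j0 h.hi
    have h3 := h.grid.transpose.row_eq j1 h.hi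
    change Q i0 j0 ⊓ Q i1 j0 = colG Q j0 at h2
    change Q i0 j1 ⊓ Q i1 j1 = colG Q j1 at h3
    rw [← h2, cj_inf', h.grid.conj w _ _ _ _ e1, h.grid.conj w _ _ _ _ e2, h3]

theorem cov (o : POut V (R i0 j0) (rowG Q i0) (colG Q j0)) {x : G} (hx : x ∈ rowG Q i0) :
    ∃ g : G, cj g (rowG Q i0) = rowG Q i0 ∧ g * x * g⁻¹ ∈ R i0 j0 := by
  by_cases hxR : x ∈ R i0 j0
  · exact ⟨1, cj_one' _, by simpa using hxR⟩
  obtain ⟨g, h1, h2, h3, h4⟩ := o.tranA x hx hxR
  obtain ⟨a, b, hab⟩ := h.mem_V_row h4 (mem_of_cj h2 hx)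
  have hb : b ≠ 0 := by
    rintro rfl
    apply hxR
    have h5 : g * x * g⁻¹ ∈ R i0 j0 := (h.R00 _).2 ⟨a, hab⟩
    have h6 := mem_of_cj' h1 h5
    have e : g⁻¹ * (g * x * g⁻¹) * g = x := by group
    rwa [e] at h6
  obtain ⟨z, hz, hz1, hz2⟩ := h.p_surj 0 (-a / b)
  obtain ⟨w, hw, w1, w2, w3, w4⟩ := h.wey_facts
  have e1 : z * v a b 0 0 * z⁻¹ = v 0 b 0 0 := by
    rw [h.act z hz, hz1, hz2]
    have : a + -a / b * b = 0 := by field_simp; ring
    rw [this]
    congr 1 <;> ring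
  refine ⟨w * z * g, ?_, ?_⟩
  · rw [cj_mul, cj_mul, h2, cj_of_mem_normalizer (h.grid.Q_nor_row hz), w3]
  · have e : w * z * g * x * (w * z * g)⁻¹ = w * (z * (g * x * g⁻¹) * z⁻¹) * w⁻¹ := by group
    rw [e, hab, e1, w1]
    exact (h.R00 _).2 ⟨b, rfl⟩

theorem sup_eq_top (o : POut V (R i0 j0) (rowG Q i0) (colG Q j0))
    (gen : normalizer (R i0 j0 : Set G) ⊔ normalizer (V : Set G) = ⊤) [hs : IsSimpleGroup G] :
    normalizer (rowG Q i0 : Set G) ⊔ normalizer (colG Q j0 : Set G) = ⊤ := by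
  set Y := normalizer (rowG Q i0 : Set G) ⊔ normalizer (colG Q j0 : Set G) with hY
  have hR : normalizer (R i0 j0 : Set G) ≤ normalizer (Y : Set G) := by
    intro g hg
    exact normalizer_sup_swap (o.perm g (cj_of_mem_normalizer hg))
  have hQ : ∀ i j, Q i j ≤ Y := fun i j => h.grid.Q_le_sup (A := ⊥) (B := ⊥) i j
  have hV : normalizer (V : Set G) ≤ normalizer (Y : Set G) := by
    intro g hg
    obtain ⟨i, j, hij⟩ : ∃ i j, cj g (R i0 j0) = R i j := by
      rcases h.norm g (cj_of_mem_normalizer hg) with ⟨σ, τ, h1⟩ | ⟨σ, τ, h1⟩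
      · exact ⟨_, _, h1 i0 j0⟩
      · exact ⟨_, _, h1 i0 j0⟩
    obtain ⟨k, hk1, hk2⟩ := h.grid.threeI i0 i
    obtain ⟨l, hl1, hl2⟩ := h.grid.threeJ j0 j
    obtain ⟨y, hy, hyR⟩ := h.grid.tran k l i0 j0 i j hk1.symm hk2.symm hl1.symm hl2.symm
    have h1 : y ∈ normalizer (Y : Set G) := le_normalizer (hQ k l hy)
    have h2 : y⁻¹ * g ∈ normalizer (Y : Set G) := by
      apply hR
      apply mem_normalizer_of_cj
      rw [cj_mul, hij]
      exact cj_inv_of hyR
    have := mul_mem h1 h2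
    rwa [mul_inv_cancel_left] at this
  have hnor : normalizer (Y : Set G) = ⊤ := by
    rw [eq_top_iff, ← gen]
    exact sup_le hR hV
  have hn : Y.Normal := normalizer_eq_top_iff.1 hnor
  rcases hn.eq_bot_or_eq_top with h1 | h1
  · exfalso
    apply h.grid.ne i0 j0
    rw [eq_bot_iff, ← h1]
    exact (h.grid.R_Q i0 j0).trans (hQ i0 j0)
  · exact h1

theorem bip [Finite G] (o : POut V (R i0 j0) (rowG Q i0) (colG Q j0))
    (ti : ∀ g : G, R i0 j0 ⊓ cj g (R i0 j0) ≠ ⊥ → cj g (R i0 j0) = R i0 j0)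
    (gen : normalizer (R i0 j0 : Set G) ⊔ normalizer (V : Set G) = ⊤) [hs : IsSimpleGroup G] :
    Bip (R i0 j0) (rowG Q i0) (colG Q j0) := by
  have := h.nonI
  have := h.nonJ
  have hG := h.gin
  have rc := hG.rc
  have hcen : ∀ x ∈ Q i0 j0, (∀ y ∈ rowG Q i0, x * y = y * x) → (∀ y ∈ colG Q j0, x * y = y * x) →
      x ∈ R i0 j0 := by
    intro x hx h1 h2
    apply h.grid.cen i0 j0 x hx
    intro z hz
    obtain ⟨a, ha, b, hb, rfl⟩ := h.grid.Q_mul hz
    calc x * (a * b) = (x * a) * b := by group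
      _ = a * (x * b) := by rw [h1 a ha]; group
      _ = a * b * x := by rw [h2 b hb]; group
  have hrow : rowG Q i0 ≤ Q i0 j0 := h.grid.rowG_le i0 j0
  have hcol : colG Q j0 ≤ Q i0 j0 := h.grid.transpose.rowG_le j0 i0
  have hAB : rowG Q i0 ≠ colG Q j0 := by
    intro he
    have h1 : v 0 1 0 0 ∈ colG Q j0 := by rw [← he]; exact h.v_row 0 1
    exact one_ne_zero ((hG.col_V 0 1 0 0).1 h1).1
  obtain ⟨w, hw, w1, w2, w3, w4⟩ := h.wey_facts
  obtain ⟨w', hw', w1', w2', w3', w4'⟩ := h.transpose.wey_facts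
  change w' ∈ ⨆ l, rowG Q l at hw'
  change cj w' (R i0 j0) = R i1 j0 at w2'
  change cj w' (colG Q j0) = colG Q j0 at w3'
  change cj w' (rowG Q i0) = rowG Q i1 at w4'
  -- TI for two conjugates
  have ti2 : ∀ a b : G, cj a (R i0 j0) ⊓ cj b (R i0 j0) ≠ ⊥ → cj a (R i0 j0) = cj b (R i0 j0) := by
    intro a b hab
    have h1 : R i0 j0 ⊓ cj (a⁻¹ * b) (R i0 j0) ≠ ⊥ := by
      intro h0
      apply hab
      rw [eq_bot_iff]
      intro x hx
      rw [mem_inf, mem_cj, mem_cj] at hx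
      have h2 : a⁻¹ * x * a ∈ R i0 j0 ⊓ cj (a⁻¹ * b) (R i0 j0) := by
        refine mem_inf.2 ⟨hx.1, ?_⟩
        rw [mem_cj]
        have e : (a⁻¹ * b)⁻¹ * (a⁻¹ * x * a) * (a⁻¹ * b) = b⁻¹ * x * b := by group
        rw [e]; exact hx.2
      rw [h0, mem_bot] at h2
      rw [mem_bot]
      calc x = a * (a⁻¹ * x * a) * a⁻¹ := by group
        _ = 1 := by rw [h2]; group
    have h3 := ti _ h1
    rw [cj_mul] at h3
    have h4 := congrArg (cj a) h3
    rw [← cj_mul, mul_inv_cancel, cj_one'] at h4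
    exact h4.symm
  -- the partner is determined
  have fixB : ∀ a b : G, cj a (R i0 j0) = cj b (R i0 j0) → cj a (rowG Q i0) = cj b (rowG Q i0) →
      cj a (colG Q j0) = cj b (colG Q j0) := by
    intro a b h1 h2
    have h3 : cj (b⁻¹ * a) (R i0 j0) = R i0 j0 := by
      rw [cj_mul, h1, ← cj_mul, inv_mul_cancel, cj_one']
    have h4 : cj (b⁻¹ * a) (rowG Q i0) = rowG Q i0 := by
      rw [cj_mul, h2, ← cj_mul, inv_mul_cancel, cj_one']
    rcases o.perm _ h3 with ⟨-, h5⟩ | ⟨h5, -⟩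
    · have h6 := congrArg (cj b) h5
      rw [← cj_mul, mul_inv_cancel_left] at h6
      exact h6
    · exact absurd (h4.symm.trans h5) hAB
  have fixA : ∀ a b : G, cj a (R i0 j0) = cj b (R i0 j0) → cj a (colG Q j0) = cj b (colG Q j0) →
      cj a (rowG Q i0) = cj b (rowG Q i0) := by
    intro a b h1 h2
    have h3 : cj (b⁻¹ * a) (R i0 j0) = R i0 j0 := by
      rw [cj_mul, h1, ← cj_mul, inv_mul_cancel, cj_one']
    have h4 : cj (b⁻¹ * a) (colG Q j0) = colG Q j0 := by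
      rw [cj_mul, h2, ← cj_mul, inv_mul_cancel, cj_one']
    rcases o.perm _ h3 with ⟨h5, -⟩ | ⟨-, h5⟩
    · have h6 := congrArg (cj b) h5
      rw [← cj_mul, mul_inv_cancel_left] at h6
      exact h6
    · exact absurd (h5.symm.trans h4) hAB
  refine ⟨h.grid.ne i0 j0, ti, rc.inf i0 j0, rc.row_comm i0, rc.col_comm j0, ?_, o.perm, ?_, ?_, ?_, ?_, ?_, ?_, ?_, ?_⟩
  · intro x hx y hy
    exact h.grid.QQ i0 j0 x (hrow hx) y (hcol hy)
  · intro x hx h1
    exact hcen x (hrow hx) (rc.row_comm i0 x hx) h1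
  · intro y hy h1
    exact hcen y (hcol hy) (fun x hx => (h1 x hx).symm) (rc.col_comm j0 y hy)
  · intro x hx
    exact h.cov o hx
  · intro y hy
    exact h.transpose.cov o.transpose hy
  · -- big
    have hFfin : Finite F := Finite.of_injective (fun a => v a 0 0 0) fun a b e => (h.inj e).1
    have hRc : Nat.card (R i0 j0) = Nat.card F := by
      apply Nat.card_congr
      refine (Equiv.ofBijective (fun a : F => (⟨v a 0 0 0, (h.R00 _).2 ⟨a, rfl⟩⟩ : R i0 j0)) ⟨?_, ?_⟩).symm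
      · intro a b e
        exact (h.inj (congrArg Subtype.val e)).1
      · rintro ⟨x, hx⟩
        obtain ⟨a, rfl⟩ := (h.R00 _).1 hx
        exact ⟨a, rfl⟩
    -- an injection `F × F × F → colG Q j0`
    have hsec : ∀ t : F, ∃ x ∈ colG Q j0, p' x = t := by
      intro t
      obtain ⟨x, hx, h1, h2⟩ := h.p_surj 0 t
      obtain ⟨a, ha, b, hb, rfl⟩ := h.grid.Q_mul hx
      refine ⟨b, hb, ?_⟩
      rw [← h2, (h.p_mul (hrow ha) (hcol hb)).2, h.row_p ha, zero_add]
    choose s hs1 hs2 using hsec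
    have hp'V : ∀ a c : F, p' (v a 0 c 0) = 0 := by
      intro a c
      have h1 : v a 0 c 0 ∈ Q i0 j0 := hcol (h.v_col a c)
      have h2 := h.act _ h1 0 0 0 1
      have h3 := h.grid.comm _ (h.v_mem a 0 c 0) _ (h.v_mem 0 0 0 1)
      rw [h3, mul_inv_cancel_right] at h2
      have h4 := (h.inj h2).2.2.1
      simpa using h4.symm
    let f : F × F × F → colG Q j0 := fun x =>
      ⟨v x.1 0 x.2.1 0 * s x.2.2, mul_mem (h.v_col _ _) (hs1 _)⟩
    have hf : Function.Injective f := by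
      rintro ⟨a, c, t⟩ ⟨a', c', t'⟩ e
      have e1 : v a 0 c 0 * s t = v a' 0 c' 0 * s t' := congrArg Subtype.val e
      have e2 : t = t' := by
        have h1 := (h.p_mul (hcol (h.v_col a c)) (hcol (hs1 t))).2
        have h2 := (h.p_mul (hcol (h.v_col a' c')) (hcol (hs1 t'))).2
        rw [e1, h2, hp'V, hp'V, hs2, hs2] at h1
        linear_combination -h1
      subst e2
      have e3 := mul_right_cancel e1
      obtain ⟨h1, -, h3, -⟩ := h.inj e3
      rw [h1, h3]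
    have h1 := Nat.card_le_card_of_injective f hf
    rw [Nat.card_prod, Nat.card_prod] at h1
    have h2 : 2 ≤ Nat.card F := by
      have : Nontrivial F := inferInstance
      exact Finite.one_lt_card
    rw [hRc]
    have h3 : Nat.card F ^ 2 < Nat.card F * (Nat.card F * Nat.card F) := by
      have h4 : 0 < Nat.card F := by omega
      nlinarith [Nat.mul_pos h4 h4]
    exact lt_of_lt_of_le h3 h1
  · obtain ⟨s, -, -, h2, h3, h4⟩ := hG.swap
    exact ⟨s, h2, h3, h4⟩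
  · -- key
    intro m n hm hn hmR hnR hcomm
    have hne : ∀ a : G, cj a (R i0 j0) ≠ ⊥ := by
      intro a ha
      apply h.grid.ne i0 j0
      rw [← cj_one' (R i0 j0), ← inv_mul_cancel a, cj_mul, ha]
      exact Subgroup.smul_bot _
    obtain ⟨y, hy, hy1⟩ := (Subgroup.bot_or_exists_ne_one (cj m (R i0 j0))).resolve_left (hne m)
    obtain ⟨x, hx, hx1⟩ := (Subgroup.bot_or_exists_ne_one (cj n (R i0 j0))).resolve_left (hne n)
    have hmA : cj m (R i0 j0) ≤ colG Q j0 := by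
      rw [← hm]
      intro z hz
      rw [mem_cj] at hz ⊢
      exact rc.R_col i0 j0 hz
    have hnA : cj n (R i0 j0) ≤ rowG Q i0 := by
      rw [← hn]
      intro z hz
      rw [mem_cj] at hz ⊢
      exact rc.R_row i0 j0 hz
    have hxR : x ∉ R i0 j0 := by
      intro hxR
      apply hnR
      apply ti
      intro h0
      apply hx1
      have : x ∈ R i0 j0 ⊓ cj n (R i0 j0) := mem_inf.2 ⟨hxR, hx⟩
      rwa [h0, mem_bot] at this
    have hyR : y ∉ R i0 j0 := by
      intro hyR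
      apply hmR
      apply ti
      intro h0
      apply hy1
      have : y ∈ R i0 j0 ⊓ cj m (R i0 j0) := mem_inf.2 ⟨hyR, hy⟩
      rwa [h0, mem_bot] at this
    obtain ⟨g, g1, g2, g3, g4, g5⟩ := o.tran x (hnA hx) hxR y (hmA hy) hyR (hcomm y hy x hx).symm
    obtain ⟨a, b, hab⟩ := h.mem_V_row g4 (mem_of_cj g2 (hnA hx))
    obtain ⟨a', c, hac⟩ := h.transpose.mem_V_row g5 (mem_of_cj g3 (hmA hy))
    change g * y * g⁻¹ = v a' 0 c 0 at hac
    have notR : ∀ z : G, z ∉ R i0 j0 → g * z * g⁻¹ ∉ R i0 j0 := by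
      intro z hz h5
      apply hz
      have h6 := mem_of_cj' g1 h5
      have e : g⁻¹ * (g * z * g⁻¹) * g = z := by group
      rwa [e] at h6
    have hb : b ≠ 0 := by
      rintro rfl
      exact notR x hxR ((h.R00 _).2 ⟨a, hab⟩)
    have hc : c ≠ 0 := by
      rintro rfl
      exact notR y hyR ((h.R00 _).2 ⟨a', hac⟩)
    obtain ⟨z, hz, hz1, hz2⟩ := h.p_surj (-a' / c) (-a / b)
    have e1 : z * v a b 0 0 * z⁻¹ = v 0 b 0 0 := by
      rw [h.act z hz, hz1, hz2]
      have : a + -a / b * b = 0 := by field_simp; ring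
      rw [this]
      congr 1 <;> ring
    have e2 : z * v a' 0 c 0 * z⁻¹ = v 0 0 c 0 := by
      rw [h.act z hz, hz1, hz2]
      have : a' + -a' / c * c = 0 := by field_simp; ring
      have e3 : a' + -a / b * 0 + -a' / c * c + -a' / c * (-a / b) * 0 = 0 := by
        rw [mul_zero, mul_zero, add_zero, add_zero, this]
      rw [e3]
      congr 1 <;> ring
    have zR : cj z (R i0 j0) = R i0 j0 := h.grid.fix_R hz
    have zA : cj z (rowG Q i0) = rowG Q i0 := cj_of_mem_normalizer (h.grid.Q_nor_row hz)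
    have zB : cj z (colG Q j0) = colG Q j0 := cj_of_mem_normalizer (h.grid.transpose.Q_nor_row (i := j0) (j := i0) hz)
    set k := z * g with hk
    have kR : cj k (R i0 j0) = R i0 j0 := by rw [hk, cj_mul, g1, zR]
    have kA : cj k (rowG Q i0) = rowG Q i0 := by rw [hk, cj_mul, g2, zA]
    have kB : cj k (colG Q j0) = colG Q j0 := by rw [hk, cj_mul, g3, zB]
    have kx : k * x * k⁻¹ = v 0 b 0 0 := by
      have e : k * x * k⁻¹ = z * (g * x * g⁻¹) * z⁻¹ := by rw [hk]; group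
      rw [e, hab, e1]
    have ky : k * y * k⁻¹ = v 0 0 c 0 := by
      have e : k * y * k⁻¹ = z * (g * y * g⁻¹) * z⁻¹ := by rw [hk]; group
      rw [e, hac, e2]
    have n1 : cj (k * n) (R i0 j0) = cj w (R i0 j0) := by
      apply ti2
      intro h0
      have h5 : v 0 b 0 0 ∈ cj (k * n) (R i0 j0) ⊓ cj w (R i0 j0) := by
        refine mem_inf.2 ⟨?_, ?_⟩
        · rw [← kx, cj_mul]
          exact conj_mem_cj hx
        · rw [w2]; exact (h.R01 _).2 ⟨b, rfl⟩
      rw [h0, mem_bot] at h5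
      exact hb (h.v_inj _ _ _ _ h5).2.1
    have m1 : cj (k * m) (R i0 j0) = cj w' (R i0 j0) := by
      apply ti2
      intro h0
      have h5 : v 0 0 c 0 ∈ cj (k * m) (R i0 j0) ⊓ cj w' (R i0 j0) := by
        refine mem_inf.2 ⟨?_, ?_⟩
        · rw [← ky, cj_mul]
          exact conj_mem_cj hy
        · rw [w2']; exact (h.R10 _).2 ⟨c, rfl⟩
      rw [h0, mem_bot] at h5
      exact hc (h.v_inj _ _ _ _ h5).2.2.1
    have n2 : cj (k * n) (colG Q j0) = cj w (colG Q j0) := by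
      apply fixB _ _ n1
      rw [cj_mul, hn, kA, w3]
    have m2 : cj (k * m) (rowG Q i0) = cj w' (rowG Q i0) := by
      apply fixA _ _ m1
      rw [cj_mul, hm, kB, w3']
    -- `w'` normalises `colG Q j1`
    have w5 : cj w' (colG Q j1) = colG Q j1 := cj_of_mem_normalizer (h.grid.row_nor_col j1 hw')
    refine ⟨k⁻¹ * (w' * w), ?_, ?_⟩
    · have h6 := congrArg (cj k⁻¹) m2
      rw [← cj_mul, inv_mul_cancel_left] at h6
      rw [h6, cj_mul k⁻¹, cj_mul w', w3]
    · have h6 := congrArg (cj k⁻¹) n2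
      rw [← cj_mul, inv_mul_cancel_left] at h6
      rw [h6, cj_mul k⁻¹, cj_mul w', w4, w5]
  · exact h.sup_eq_top o gen

/-- **The contradiction.** -/
theorem false [Finite G] (o : POut V (R i0 j0) (rowG Q i0) (colG Q j0))
    (ti : ∀ g : G, R i0 j0 ⊓ cj g (R i0 j0) ≠ ⊥ → cj g (R i0 j0) = R i0 j0)
    (gen : normalizer (R i0 j0 : Set G) ⊔ normalizer (V : Set G) = ⊤) [hs : IsSimpleGroup G] : False :=
  (h.bip o ti gen).false

end Gin0

end Cfsg.Agent.Omega.NO1.Gamma
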