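import Cfsg.Agent.Omega.NO1.Gamma.SLIn

/-!
# Type (gamma), `q ≥ 4`: (I2), (I3) of bb #15588: `N_G(R)` permutes the row group and the column group

`Gin.pout : POut V (R i0 j0) (rowG Q i0) (colG Q j0)`.
-/

set_option autoImplicit false
set_option linter.unusedVariables false
set_option linter.unusedSectionVars false
set_option linter.unusedSimpArgs false

open Subgroup
open scoped Pointwise commutatorElement

namespace Cfsg.Agent.Omega.NO1.Gamma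

open Cfsg.Agent.Omega.NO1.Beta.Meet (cj mem_cj conj_mem_cj cj_mul cj_inj cj_eq_of_comm
  mem_normalizer_of_cj cj_of_mem_normalizer)
open Cfsg.Agent.Omega.NOne

namespace Gin

variable {F : Type*} [Field F] {G : Type*} [Group G] {I J : Type*} {S : Sylow 2 G} {V : Subgroup G}
  {R Q : I → J → Subgroup G} {i0 i1 : I} {j0 j1 : J} {v : F → F → F → F → G} {p p' : G → F}
  (D : Gin F S V R Q i0 i1 j0 j1 v p p') [Finite G]

include D

omit D in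
theorem card_cj (g : G) (H : Subgroup G) : Nat.card (cj g H) = Nat.card H :=
  Nat.card_congr
    ⟨fun x => ⟨g⁻¹ * x * g, mem_cj.1 x.2⟩, fun x => ⟨g * x * g⁻¹, conj_mem_cj x.2⟩,
      fun x => Subtype.ext (by change g * (g⁻¹ * (x : G) * g) * g⁻¹ = x; group),
      fun x => Subtype.ext (by change g⁻¹ * (g * (x : G) * g⁻¹) * g = x; group)⟩

omit D in
theorem cj_le {g : G} {A B : Subgroup G} (h : ∀ x ∈ A, g * x * g⁻¹ ∈ B) : cj g A ≤ B := by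
  intro x hx
  rw [mem_cj] at hx
  have := h _ hx
  have e : g * (g⁻¹ * x * g) * g⁻¹ = x := by group
  rwa [e] at this

omit D in
theorem cj_swap {g : G} {A B : Subgroup G} (h1 : ∀ x ∈ A, g * x * g⁻¹ ∈ B) (h2 : ∀ x ∈ B, g * x * g⁻¹ ∈ A) :
    cj g A = B ∧ cj g B = A := by
  have l1 := cj_le h1
  have l2 := cj_le h2
  have c1 : Nat.card A ≤ Nat.card B := by rw [← card_cj g A]; exact Subgroup.card_le_of_le l1
  have c2 : Nat.card B ≤ Nat.card A := by rw [← card_cj g B]; exact Subgroup.card_le_of_le l2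
  exact ⟨Subgroup.eq_of_le_of_card_ge l1 (by rw [card_cj]; exact c2),
    Subgroup.eq_of_le_of_card_ge l2 (by rw [card_cj]; exact c1)⟩

theorem norm_of_ac {k : G} (hk : k ∈ centralizer (R i0 j0 : Set G))
    (h : ((∀ m ∈ D.N₁, D.ac hk m ∈ D.N₁) ∧ ∀ m ∈ D.N₂, D.ac hk m ∈ D.N₂) ∨
      ((∀ m ∈ D.N₁, D.ac hk m ∈ D.N₂) ∧ ∀ m ∈ D.N₂, D.ac hk m ∈ D.N₁)) :
    (cj k (rowG Q i0) = rowG Q i0 ∧ cj k (colG Q j0) = colG Q j0) ∨
      (cj k (rowG Q i0) = colG Q j0 ∧ cj k (colG Q j0) = rowG Q i0) := by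
  rcases h with ⟨h1, h2⟩ | ⟨h1, h2⟩
  · left
    refine ⟨cj_eq_of_le fun x hx => ?_, cj_eq_of_le fun x hx => ?_⟩
    · have := h1 _ ((D.mem_N₁ (D.rowG_le hx)).2 hx)
      rwa [D.ac_pi, D.mem_N₁] at this
    · have := h2 _ ((D.mem_N₂ (D.colG_le hx)).2 hx)
      rwa [D.ac_pi, D.mem_N₂] at this
  · right
    refine cj_swap (fun x hx => ?_) fun x hx => ?_
    · have := h1 _ ((D.mem_N₁ (D.rowG_le hx)).2 hx)
      rwa [D.ac_pi, D.mem_N₂] at this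
    · have := h2 _ ((D.mem_N₂ (D.colG_le hx)).2 hx)
      rwa [D.ac_pi, D.mem_N₁] at this

/-- conjugation by an element of `N_G(R)` normalises `C_G(R)` -/
theorem conj_K {g : G} (hR : cj g (R i0 j0) = R i0 j0) {k : G} (hk : k ∈ centralizer (R i0 j0 : Set G)) :
    g * k * g⁻¹ ∈ centralizer (R i0 j0 : Set G) := by
  rw [D.mem_K]
  intro r hr
  have h1 := D.mem_K.1 hk _ (conj_of_cj' hR hr)
  calc g * k * g⁻¹ * r = g * (k * (g⁻¹ * r * g)) * g⁻¹ := by group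
    _ = g * ((g⁻¹ * r * g) * k) * g⁻¹ := by rw [h1]
    _ = r * (g * k * g⁻¹) := by group

/-! ### (I3) -/

/-- **THEOREM SL with `M_i = N_i`.** -/
theorem out : SL.Spl.Out D.dec.spl D.N₁ D.N₂ := by
  obtain ⟨M₁, M₂, O⟩ := D.dec.spl.main
  obtain ⟨y, hy0, hy1⟩ := D.four
  obtain ⟨t, ht, hv⟩ := D.tor' y hy0
  -- `t` normalises `R`, `Q`, `V`, the row group and the column group
  have hR : cj t (R i0 j0) = R i0 j0 := cj_eq_of_le fun x hx => by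
    obtain ⟨a, rfl⟩ := (D.R00 x).1 hx
    rw [hv]
    simp only [mul_zero]
    exact (D.R00 _).2 ⟨_, rfl⟩
  have hQ := D.cj_Q hR
  have hV : cj t V = V := cj_eq_of_le fun x hx => by
    obtain ⟨a, b, c, d, rfl⟩ := D.v_surj x hx
    rw [hv]
    exact D.v_mem _ _ _ _
  have hAB : cj t (rowG Q i0) = rowG Q i0 ∧ cj t (colG Q j0) = colG Q j0 := by
    refine (D.norm t hV hR).resolve_right ?_
    rintro ⟨h1, -⟩
    have h2 := conj_mem_cj (c := t) ((D.row_V 0 1 0 0).2 ⟨rfl, rfl⟩)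
    rw [h1, hv, D.col_V] at h2
    rw [mul_one] at h2
    exact hy0 h2.1
  have nor : FStr.Inp.Nor D.inp t y :=
    { Q₁ := fun x hx => conj_of_cj hQ hx
      Q₂ := fun x hx => conj_of_cj' hQ hx
      R₁ := fun r hr => by
        obtain ⟨a, rfl⟩ := (D.R00 r).1 hr
        refine ⟨conj_of_cj hR hr, ?_⟩
        change ρ v (t * v a 0 0 0 * t⁻¹) = y * ρ v (v a 0 0 0)
        rw [hv]
        simp only [mul_zero]
        rw [D.ρ_v, D.ρ_v] }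
  have hR' : ∀ r ∈ D.inp.R, t⁻¹ * r * t ∈ D.inp.R := fun r hr => conj_of_cj' hR hr
  let h : D.Mo ≃ₗ[F] D.Mo := nor.equiv hy0 hR'
  have h_pi : ∀ {x : G} (hx : x ∈ Q i0 j0), h (D.pi hx) = D.pi (conj_of_cj hQ hx) := fun hx =>
    nor.equiv_π hy0 hR' hx
  have h₁ : h D.e₁ = y • D.e₁ := by
    rw [e₁, h_pi]
    have e : t * v 0 1 0 0 * t⁻¹ = v 0 y 0 0 := by rw [hv]; simp
    rw [D.pi_congr _ e (D.v_Q 0 y 0), D.pi_v, zero_smul, add_zero]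
    rfl
  have h₂ : h D.e₂ = y⁻¹ • D.e₂ := by
    rw [e₂, h_pi]
    have e : t * v 0 0 1 0 * t⁻¹ = v 0 0 y⁻¹ 0 := by rw [hv]; simp
    rw [D.pi_congr _ e (D.v_Q 0 0 y⁻¹), D.pi_v, zero_smul, zero_add]
    rfl
  have hff : ∀ m n, D.ff (h m) (h n) = y * D.ff m n := by
    intro m n
    obtain ⟨x, hx, rfl⟩ := D.pi_surj m
    obtain ⟨z, hz, rfl⟩ := D.pi_surj n
    rw [h_pi, h_pi, D.ff_pi, D.ff_pi]
    have h3 := (nor.R₁ _ (D.grid.QQ i0 j0 x hx z hz)).2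
    have e : ⁅t * x * t⁻¹, t * z * t⁻¹⁆ = t * (x * z * x⁻¹ * z⁻¹) * t⁻¹ := by
      simp only [commutatorElement_def]; group
    rw [e]
    exact h3
  have hN₁ : ∀ m ∈ D.N₁, h m ∈ D.N₁ := by
    intro m hm
    obtain ⟨x, hx, rfl⟩ := D.pi_surj m
    rw [D.mem_N₁] at hm
    rw [h_pi, D.mem_N₁]
    exact conj_of_cj hAB.1 hm
  have k₂ : ∀ m ∈ D.N₂, (D.ff D.e₁ m = 0 ∧ D.ff D.e₂ m = 0) → ∃ a : F, h m - m = a • D.e₂ := by
    intro m hm hP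
    obtain ⟨x, hx, rfl⟩ := D.pi_surj m
    rw [D.mem_N₂] at hm
    have hxV := (D.mem_P hx).1 hP
    have h3 := (D.grid.transpose.col_mod (RC.transpose D.grid D.rc) ht j0).2 x hm hxV
    have h4 : x⁻¹ * (t * x * t⁻¹) ∈ colG Q j0 := mul_mem (inv_mem hm) (conj_of_cj hAB.2 hm)
    obtain ⟨a, b, c, d, h5⟩ := D.v_surj _ h3
    obtain ⟨hb, hd⟩ := (D.col_V a b c d).1 (by rw [h5]; exact h4)
    subst hb hd
    refine ⟨c, ?_⟩
    have h6 : t * x * t⁻¹ = x * v a 0 c 0 := by rw [h5]; group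
    rw [h_pi, D.pi_congr _ h6 (mul_mem hx (D.v_Q a 0 c)), D.pi_mul hx (D.v_Q a 0 c), D.pi_v]
    module
  have k₁ : ∀ m ∈ D.N₁, (D.ff D.e₁ m = 0 ∧ D.ff D.e₂ m = 0) → ∃ a : F, h m - y • m = a • D.e₁ := by
    intro m hm hP
    have hz1 : h m - y • m ∈ D.N₁ := sub_mem (hN₁ m hm) (Submodule.smul_mem _ _ hm)
    obtain ⟨w, hw, hwz⟩ := D.pi_surj (h m - y • m)
    have h3 : w ∈ V := by
      refine D.cent_CV hw fun u hu huV => ?_
      rw [← D.ff_pi_iff hw hu, hwz]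
      obtain ⟨a, ha, b, hb, haV, hbV, rfl⟩ := D.rc.cenV i0 j0 u hu huV
      have hbQ := D.colG_le hb
      rw [D.pi_mul (D.rowG_le ha) hbQ, map_add, D.ff_N₁ hz1 ((D.mem_N₁ _).2 ha), zero_add]
      obtain ⟨c, hc⟩ := k₂ _ ((D.mem_N₂ hbQ).2 hb) ((D.mem_P hbQ).2 hbV)
      have h4 := hff m (D.pi hbQ)
      have h5 : h (D.pi hbQ) = D.pi hbQ + c • D.e₂ := by rw [← hc]; abel
      have h6 : D.ff (h m) D.e₂ = 0 := by
        have h7 := hff m D.e₂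
        rw [h₂, D.ff_symm m, hP.2, mul_zero, map_smul, smul_eq_mul] at h7
        exact (mul_eq_zero.1 h7).resolve_left (inv_ne_zero hy0)
      rw [h5, map_add, map_smul, h6, smul_zero, add_zero] at h4
      rw [map_sub, LinearMap.sub_apply, h4, map_smul, LinearMap.smul_apply, smul_eq_mul, sub_self]
    obtain ⟨b, c, h4⟩ := (D.mem_e_E hw).2 h3
    rw [hwz] at h4
    rw [h4] at hz1
    exact ⟨b, by rw [h4, D.mem_e_of_N₁ hz1, add_zero]⟩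
  have hH : ∀ g ∈ D.dec.spl.H, h * g * h⁻¹ ∈ D.dec.spl.H := by
    rintro _ ⟨k, rfl⟩
    exact ⟨⟨t * k * t⁻¹, D.conj_K hR k.2⟩, (nor.conj_act hy0 hR' k _).symm⟩
  obtain ⟨e1, e2⟩ := O.eq_of_torus D.isCompl (fun _ => D.sing₁) (fun _ => D.sing₂) D.e₁_N₁ D.e₂_N₂
    (fun m hm hP => D.dec.y₂_N₁ (m := m) hP hm) (fun m hm hP => D.dec.y₁_N₂ (m := m) hP hm)
    hH hy0 hy1 h₁ h₂ k₁ k₂
  rwa [e1, e2] at O

/-! ### `POut` -/

theorem perm_K {k : G} (hk : k ∈ centralizer (R i0 j0 : Set G)) :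
    (cj k (rowG Q i0) = rowG Q i0 ∧ cj k (colG Q j0) = colG Q j0) ∨
      (cj k (rowG Q i0) = colG Q j0 ∧ cj k (colG Q j0) = rowG Q i0) :=
  D.norm_of_ac hk (D.out.perm (D.ac hk) ⟨⟨k, hk⟩, rfl⟩)

/-- transitivity on the incident pairs -/
theorem orbit {m φ : D.Mo} (hm : m ∈ D.N₁) (hφ : φ ∈ D.N₂) (h1 : m ≠ 0) (h2 : φ ≠ 0) (h3 : D.ff m φ = 0) :
    ∃ k, ∃ hk : k ∈ centralizer (R i0 j0 : Set G), cj k (rowG Q i0) = rowG Q i0 ∧ cj k (colG Q j0) = colG Q j0 ∧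
      ∃ a c : F, D.ac hk m = a • D.e₁ ∧ D.ac hk φ = c • D.e₂ := by
  obtain ⟨_, ⟨k, rfl⟩, h4, a, c, ha, hc, h5, h6⟩ := D.out.orbit m hm φ hφ h1 h2 h3
  have h7 : cj (k : G) (rowG Q i0) = rowG Q i0 ∧ cj (k : G) (colG Q j0) = colG Q j0 := by
    constructor
    · refine cj_eq_of_le fun x hx => ?_
      have := h4.1 _ ((D.mem_N₁ (D.rowG_le hx)).2 hx)
      exact (D.mem_N₁ _).1 ((D.ac_pi k.2 (D.rowG_le hx)) ▸ this)
    · refine cj_eq_of_le fun x hx => ?_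
      have := h4.2 _ ((D.mem_N₂ (D.colG_le hx)).2 hx)
      exact (D.mem_N₂ _).1 ((D.ac_pi k.2 (D.colG_le hx)) ▸ this)
  have h5' : D.ac k.2 D.e₁ = a • m := h5
  have h6' : D.ac k.2 D.e₂ = c • φ := h6
  refine ⟨(k : G)⁻¹, inv_mem k.2, cj_inv_of h7.1, cj_inv_of h7.2, a⁻¹, c⁻¹, ?_, ?_⟩
  · rw [D.ac_inv k.2, ← inv_smul_smul₀ ha m, ← h5', map_smul]
    congr 1
    exact (D.ac k.2).symm_apply_apply _
  · rw [D.ac_inv k.2, ← inv_smul_smul₀ hc φ, ← h6', map_smul]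
    congr 1
    exact (D.ac k.2).symm_apply_apply _

theorem tran {x : G} (hx : x ∈ rowG Q i0) (hx0 : x ∉ R i0 j0) {y : G} (hy : y ∈ colG Q j0) (hy0 : y ∉ R i0 j0)
    (hxy : x * y = y * x) : ∃ g : G, cj g (R i0 j0) = R i0 j0 ∧ cj g (rowG Q i0) = rowG Q i0 ∧
      cj g (colG Q j0) = colG Q j0 ∧ g * x * g⁻¹ ∈ V ∧ g * y * g⁻¹ ∈ V := by
  have hxQ := D.rowG_le hx
  have hyQ := D.colG_le hy
  obtain ⟨k, hk, h1, h2, a, c, h3, h4⟩ := D.orbit ((D.mem_N₁ hxQ).2 hx) ((D.mem_N₂ hyQ).2 hy)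
    (fun h => hx0 ((D.pi_eq_zero _).1 h)) (fun h => hy0 ((D.pi_eq_zero _).1 h)) ((D.ff_pi_iff hxQ hyQ).2 hxy)
  rw [D.ac_pi] at h3 h4
  exact ⟨k, D.cj_R_of_K hk, h1, h2, (D.mem_e_E _).1 ⟨a, 0, by rw [h3]; module⟩,
    (D.mem_e_E _).1 ⟨0, c, by rw [h4]; module⟩⟩

/-- an incident partner -/
theorem partner₁ (m : D.Mo) : ∃ φ ∈ D.N₂, φ ≠ 0 ∧ D.ff m φ = 0 := by
  by_cases h1 : D.ff m D.e₂ = 0
  · exact ⟨D.e₂, D.e₂_N₂, D.e₂_ne, h1⟩
  · obtain ⟨c, hc, h2⟩ := D.exists_c₂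
    refine ⟨c - (D.ff m c * (D.ff m D.e₂)⁻¹) • D.e₂, sub_mem hc (Submodule.smul_mem _ _ D.e₂_N₂), ?_, ?_⟩
    · intro h3
      have h4 : D.ff (c - (D.ff m c * (D.ff m D.e₂)⁻¹) • D.e₂) D.e₁ = 0 := by rw [h3, map_zero, LinearMap.zero_apply]
      rw [map_sub, LinearMap.sub_apply, h2, map_smul, LinearMap.smul_apply, D.ff_symm D.e₂, D.perp, smul_zero,
        sub_zero] at h4
      exact one_ne_zero h4
    · rw [map_sub, map_smul, smul_eq_mul, mul_assoc, inv_mul_cancel₀ h1, mul_one, sub_self]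

theorem partner₂ (m : D.Mo) : ∃ φ ∈ D.N₁, φ ≠ 0 ∧ D.ff m φ = 0 := by
  by_cases h1 : D.ff m D.e₁ = 0
  · exact ⟨D.e₁, D.e₁_N₁, D.e₁_ne, h1⟩
  · obtain ⟨c, hc, h2⟩ := D.exists_c₁
    refine ⟨c - (D.ff m c * (D.ff m D.e₁)⁻¹) • D.e₁, sub_mem hc (Submodule.smul_mem _ _ D.e₁_N₁), ?_, ?_⟩
    · intro h3
      have h4 : D.ff (c - (D.ff m c * (D.ff m D.e₁)⁻¹) • D.e₁) D.e₂ = 0 := by rw [h3, map_zero, LinearMap.zero_apply]
      rw [map_sub, LinearMap.sub_apply, h2, map_smul, LinearMap.smul_apply, D.perp, smul_zero, sub_zero] at h4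
      exact one_ne_zero h4
    · rw [map_sub, map_smul, smul_eq_mul, mul_assoc, inv_mul_cancel₀ h1, mul_one, sub_self]

/-- **`N_G(R)` permutes the row group and the column group.** -/
theorem perm {g : G} (hR : cj g (R i0 j0) = R i0 j0) :
    (cj g (rowG Q i0) = rowG Q i0 ∧ cj g (colG Q j0) = colG Q j0) ∨
      (cj g (rowG Q i0) = colG Q j0 ∧ cj g (colG Q j0) = rowG Q i0) := by
  have hfin := D.finite_F
  have hQ := D.cj_Q hR
  -- an element of `V ∖ Q` whose conjugate preserves the row group and the column group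
  obtain ⟨d, hd, hdA, hdB⟩ : ∃ d : F, d ≠ 0 ∧ cj (g * v 0 0 0 d * g⁻¹) (rowG Q i0) = rowG Q i0 ∧
      cj (g * v 0 0 0 d * g⁻¹) (colG Q j0) = colG Q j0 := by
    obtain ⟨y, hy0, hy1⟩ := D.four
    have hK : ∀ d, g * v 0 0 0 d * g⁻¹ ∈ centralizer (R i0 j0 : Set G) := fun d =>
      D.conj_K hR (D.V_le_K (D.v_mem _ _ _ _))
    rcases D.perm_K (hK 1) with h1 | h1
    · exact ⟨1, one_ne_zero, h1⟩
    rcases D.perm_K (hK y) with h2 | h2
    · exact ⟨y, hy0, h2⟩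
    refine ⟨1 + y, ?_, ?_⟩
    · intro h3
      exact hy1 (by linear_combination h3 - D.two)
    · have e : g * v 0 0 0 (1 + y) * g⁻¹ = (g * v 0 0 0 1 * g⁻¹) * (g * v 0 0 0 y * g⁻¹) := by
        have e1 : v 0 0 0 (1 + y) = v 0 0 0 1 * v 0 0 0 y := by
          rw [D.v_mul]; simp
        rw [e1]; group
      rw [e]
      generalize g * v 0 0 0 1 * g⁻¹ = k₁ at h1 ⊢
      generalize g * v 0 0 0 y * g⁻¹ = k₂ at h2 ⊢
      rw [cj_mul, cj_mul, h2.1, h2.2, h1.1, h1.2]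
      exact ⟨rfl, rfl⟩
  set u := g * v 0 0 0 d * g⁻¹ with hu
  have huK : u ∈ centralizer (R i0 j0 : Set G) := D.conj_K hR (D.V_le_K (D.v_mem _ _ _ _))
  -- `(τ - 1) M = g E g⁻¹ / R`
  have hgQ : ∀ b c, g * v 0 b c 0 * g⁻¹ ∈ Q i0 j0 := fun b c => conj_of_cj hQ (D.v_Q 0 b c)
  have key : ∀ {x : G} (hx : x ∈ Q i0 j0), D.ac huK (D.pi (conj_of_cj hQ hx)) - D.pi (conj_of_cj hQ hx) =
      D.pi (hgQ (p x * d) (p' x * d)) := by
    intro x hx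
    rw [D.ac_pi, sub_eq_iff_eq_add, ← D.pi_mul (hgQ _ _) (conj_of_cj hQ hx) (mul_mem (hgQ _ _) (conj_of_cj hQ hx)),
      D.pi_eq_iff]
    have e1 := D.comm_v hx 0 0 0 d
    rw [mul_zero, mul_zero, zero_add, zero_add] at e1
    have e2 : u * (g * x * g⁻¹) * u⁻¹ = g * (⁅v 0 0 0 d, x⁆ * x) * g⁻¹ := by
      rw [hu]; simp only [commutatorElement_def]; group
    have e3 : v (p x * p' x * d) (p x * d) (p' x * d) 0 = v (p x * p' x * d) 0 0 0 * v 0 (p x * d) (p' x * d) 0 := by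
      rw [D.v_mul]; simp
    rw [e2, e1, e3]
    have e4 : (g * (v (p x * p' x * d) 0 0 0 * v 0 (p x * d) (p' x * d) 0 * x) * g⁻¹)⁻¹ *
        (g * v 0 (p x * d) (p' x * d) 0 * g⁻¹ * (g * x * g⁻¹)) =
        g * ((v 0 (p x * d) (p' x * d) 0 * x)⁻¹ * (v (p x * p' x * d) 0 0 0)⁻¹ * (v 0 (p x * d) (p' x * d) 0 * x)) *
          g⁻¹ := by
      group
    rw [e4]
    apply conj_of_cj hR
    have e5 : (v (p x * p' x * d) 0 0 0)⁻¹ ∈ R i0 j0 := inv_mem ((D.R00 _).2 ⟨_, rfl⟩)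
    have e6 := D.grid.RQ i0 j0 _ e5 _ (mul_mem (D.v_Q 0 (p x * d) (p' x * d)) hx)
    rw [mul_assoc, e6, inv_mul_cancel_left]
    exact e5
  -- the map `F × F → M`
  let E' : F × F → D.Mo := fun bc => D.pi (hgQ bc.1 bc.2)
  have hE1 : ∀ m, ∃ bc, D.ac huK m - m = E' bc := by
    intro m
    obtain ⟨x, hx, rfl⟩ := D.pi_surj m
    have hx' : g⁻¹ * x * g ∈ Q i0 j0 := conj_of_cj' hQ hx
    refine ⟨⟨p (g⁻¹ * x * g) * d, p' (g⁻¹ * x * g) * d⟩, ?_⟩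
    have e1 := key hx'
    have e2 : D.pi (conj_of_cj hQ hx') = D.pi hx := D.pi_congr _ (by group) _
    rw [e2] at e1
    exact e1
  have hE2 : ∀ bc, ∃ m, D.ac huK m - m = E' bc := by
    rintro ⟨b, c⟩
    obtain ⟨x, hx, h1, h2⟩ := D.p_surj (b * d⁻¹) (c * d⁻¹)
    refine ⟨_, (key hx).trans ?_⟩
    refine D.pi_congr _ ?_ _
    rw [h1, h2, inv_mul_cancel_right₀ hd, inv_mul_cancel_right₀ hd]
  have hcomm : ∀ bc bc', D.ff (E' bc) (E' bc') = 0 := by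
    intro bc bc'
    rw [D.ff_pi_iff]
    have e1 := D.V_comm (D.v_mem 0 bc.1 bc.2 0) (D.v_mem 0 bc'.1 bc'.2 0)
    calc g * v 0 bc.1 bc.2 0 * g⁻¹ * (g * v 0 bc'.1 bc'.2 0 * g⁻¹) =
        g * (v 0 bc.1 bc.2 0 * v 0 bc'.1 bc'.2 0) * g⁻¹ := by group
      _ = g * (v 0 bc'.1 bc'.2 0 * v 0 bc.1 bc.2 0) * g⁻¹ := by rw [e1]
      _ = _ := by group
  -- `τ` preserves `N₁` and `N₂`
  have hτ₁ : ∀ m ∈ D.N₁, D.ac huK m ∈ D.N₁ := fun m => D.ac_N₁₁ huK hdA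
  have hτ₂ : ∀ m ∈ D.N₂, D.ac huK m ∈ D.N₂ := fun m => D.ac_N₂₂ huK hdB
  have hne : D.ac huK ≠ 1 := by
    intro h1
    have h2 := D.mem_Q_of_ac huK h1
    have h3 := conj_of_cj' hQ h2
    have h4 : g⁻¹ * u * g = v 0 0 0 d := by rw [hu]; group
    rw [h4, D.V_Q] at h3
    exact hd h3
  have hsup : ∀ w : D.Mo, ∃ a ∈ D.N₁, ∃ b ∈ D.N₂, w = a + b := by
    intro w
    have : w ∈ D.N₁ ⊔ D.N₂ := by rw [D.isCompl.sup_eq_top]; trivial
    obtain ⟨a, ha, b, hb, h⟩ := Submodule.mem_sup.1 this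
    exact ⟨a, ha, b, hb, h.symm⟩
  have hff := D.ac_ff huK
  obtain ⟨m, hm, hm0⟩ : ∃ m ∈ D.N₁, D.ac huK m - m ≠ 0 := by
    by_contra hcon
    push Not at hcon
    apply hne
    refine LinearEquiv.ext fun w => ?_
    obtain ⟨a, ha, b, hb, rfl⟩ := hsup w
    have h1 : D.ac huK b - b = 0 := by
      refine D.ff_nondeg _ fun n => ?_
      obtain ⟨a', ha', b', hb', rfl⟩ := hsup n
      rw [map_add, D.ff_N₂ (sub_mem (hτ₂ b hb) hb) hb', add_zero, map_sub, LinearMap.sub_apply]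
      have h2 := hff b a'
      rw [sub_eq_zero.1 (hcon a' ha')] at h2
      rw [h2, sub_self]
    rw [map_add, sub_eq_zero.1 (hcon a ha), sub_eq_zero.1 h1]
    rfl
  obtain ⟨φ, hφ, hφ0⟩ : ∃ φ ∈ D.N₂, D.ac huK φ - φ ≠ 0 := by
    by_contra hcon
    push Not at hcon
    apply hne
    refine LinearEquiv.ext fun w => ?_
    obtain ⟨a, ha, b, hb, rfl⟩ := hsup w
    have h1 : D.ac huK a - a = 0 := by
      refine D.ff_nondeg _ fun n => ?_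
      obtain ⟨a', ha', b', hb', rfl⟩ := hsup n
      rw [map_add, D.ff_N₁ (sub_mem (hτ₁ a ha) ha) ha', zero_add, map_sub, LinearMap.sub_apply]
      have h2 := hff a b'
      rw [sub_eq_zero.1 (hcon b' hb')] at h2
      rw [h2, sub_self]
    rw [map_add, sub_eq_zero.1 (hcon b hb), sub_eq_zero.1 h1]
    rfl
  -- `L = (τ - 1) M`
  let T : D.Mo →ₗ[F] D.Mo := (D.ac huK).toLinearMap - LinearMap.id
  have hT : ∀ w, T w = D.ac huK w - w := fun w => rfl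
  let f₁ : F × F → LinearMap.range T := fun ac =>
    ⟨ac.1 • T m + ac.2 • T φ, add_mem (Submodule.smul_mem _ _ ⟨m, rfl⟩) (Submodule.smul_mem _ _ ⟨φ, rfl⟩)⟩
  have hinj : Function.Injective f₁ := by
    rintro ⟨a, c⟩ ⟨a', c'⟩ h
    have h1 : a • T m + c • T φ = a' • T m + c' • T φ := congrArg Subtype.val h
    have h2 : (a - a') • T m = (c' - c) • T φ := by linear_combination (norm := module) h1
    have n1 : T m ∈ D.N₁ := sub_mem (hτ₁ m hm) hm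
    have n2 : T φ ∈ D.N₂ := sub_mem (hτ₂ φ hφ) hφ
    have h3 : (a - a') • T m = 0 := (Submodule.disjoint_def.1 D.isCompl.disjoint) _ (Submodule.smul_mem _ _ n1)
      (by rw [h2]; exact Submodule.smul_mem _ _ n2)
    have h4 : (c' - c) • T φ = 0 := by rw [← h2, h3]
    have h5 : a - a' = 0 := (smul_eq_zero.1 h3).resolve_right hm0
    have h6 : c' - c = 0 := (smul_eq_zero.1 h4).resolve_right hφ0
    rw [sub_eq_zero.1 h5, sub_eq_zero.1 h6]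
  let f₂ : F × F → LinearMap.range T := fun bc => ⟨E' bc, by
    obtain ⟨w, hw⟩ := hE2 bc
    exact ⟨w, hw⟩⟩
  have hsurj : Function.Surjective f₂ := by
    rintro ⟨_, w, rfl⟩
    obtain ⟨bc, h1⟩ := hE1 w
    exact ⟨bc, Subtype.ext h1.symm⟩
  have hbij : Function.Bijective f₁ := by
    have : Finite (LinearMap.range T) := Finite.of_surjective f₂ hsurj
    exact hinj.bijective_of_nat_card_le (Nat.card_le_card_of_surjective f₂ hsurj)
  have hTm : ∃ bc, T m = E' bc := hE1 m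
  have hTφ : ∃ bc, T φ = E' bc := hE1 φ
  obtain ⟨k, hk, hkA, hkB, a, c, h1, h2⟩ := D.orbit (sub_mem (hτ₁ m hm) hm) (sub_mem (hτ₂ φ hφ) hφ) hm0 hφ0 (by
    obtain ⟨bc, h1⟩ := hTm
    obtain ⟨bc', h2⟩ := hTφ
    rw [hT] at h1 h2
    rw [h1, h2]
    exact hcomm _ _)
  -- `k g` normalises `V`
  have hkR : cj (k * g) (R i0 j0) = R i0 j0 := by rw [cj_mul, hR, D.cj_R_of_K hk]
  have hkV : cj (k * g) V = V := by
    refine D.cjV hkR fun x hx => ?_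
    obtain ⟨α, b', c', rfl⟩ := D.mem_E.1 hx
    have hgx := conj_of_cj hQ hx.2
    have e1 : k * g * v α b' c' 0 * (k * g)⁻¹ = k * (g * v α b' c' 0 * g⁻¹) * k⁻¹ := by group
    rw [e1, ← D.mem_e_E (D.K_norm hk hgx), ← D.ac_pi hk hgx]
    have e2 : D.pi hgx = E' (b', c') := by
      rw [D.pi_eq_iff]
      have e3 : v α b' c' 0 = v α 0 0 0 * v 0 b' c' 0 := by rw [D.v_mul]; simp
      rw [e3]
      have e4 : (g * (v α 0 0 0 * v 0 b' c' 0) * g⁻¹)⁻¹ * (g * v 0 b' c' 0 * g⁻¹) =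
          g * ((v 0 b' c' 0)⁻¹ * (v α 0 0 0)⁻¹ * v 0 b' c' 0) * g⁻¹ := by group
      change (g * (v α 0 0 0 * v 0 b' c' 0) * g⁻¹)⁻¹ * (g * v 0 b' c' 0 * g⁻¹) ∈ R i0 j0
      rw [e4]
      apply conj_of_cj hR
      have e5 : (v α 0 0 0)⁻¹ ∈ R i0 j0 := inv_mem ((D.R00 _).2 ⟨_, rfl⟩)
      have e6 := D.grid.RQ i0 j0 _ e5 _ (D.v_Q 0 b' c')
      rw [mul_assoc, e6, inv_mul_cancel_left]
      exact e5
    obtain ⟨⟨x, y⟩, hxy⟩ := hbij.2 (f₂ (b', c'))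
    have e3 : x • T m + y • T φ = E' (b', c') := congrArg Subtype.val hxy
    refine ⟨x * a, y * c, ?_⟩
    rw [e2, ← e3, map_add, map_smul, map_smul, hT, hT, h1, h2, smul_smul, smul_smul]
  have e : ∀ H : Subgroup G, cj (k * g) H = cj k (cj g H) := fun H => cj_mul k g H
  rcases D.norm (k * g) hkV hkR with ⟨h3, h4⟩ | ⟨h3, h4⟩
  · left
    constructor
    · apply cj_inj (c := k)
      rw [← e, h3, hkA]
    · apply cj_inj (c := k)
      rw [← e, h4, hkB]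
  · right
    constructor
    · apply cj_inj (c := k)
      rw [← e, h3, hkB]
    · apply cj_inj (c := k)
      rw [← e, h4, hkA]

/-- **(I2), (I3) of bb #15588.** -/
theorem pout : POut V (R i0 j0) (rowG Q i0) (colG Q j0) where
  perm := fun g => D.perm
  tran := fun x hx hx0 y hy hy0 h => D.tran hx hx0 hy hy0 h
  tranA := fun x hx hx0 => by
    obtain ⟨φ, hφ, hφ0, h⟩ := D.partner₁ (D.pi (D.rowG_le hx))
    obtain ⟨y, hy, rfl⟩ := D.pi_surj φ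
    rw [D.mem_N₂] at hφ
    obtain ⟨g, h1, h2, h3, h4, -⟩ := D.tran hx hx0 hφ (fun h => hφ0 ((D.pi_eq_zero _).2 h))
      ((D.ff_pi_iff _ _).1 h)
    exact ⟨g, h1, h2, h3, h4⟩
  tranB := fun y hy hy0 => by
    obtain ⟨φ, hφ, hφ0, h⟩ := D.partner₂ (D.pi (D.colG_le hy))
    obtain ⟨x, hx, rfl⟩ := D.pi_surj φ
    rw [D.mem_N₁] at hφ
    obtain ⟨g, h1, h2, h3, -, h4⟩ := D.tran hφ (fun h => hφ0 ((D.pi_eq_zero _).2 h)) hy hy0
      ((D.ff_pi_iff _ _).1 h).symm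
    exact ⟨g, h1, h2, h3, h4⟩

end Gin

end Cfsg.Agent.Omega.NO1.Gamma
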