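import Cfsg.Agent.Omega.NO1.Beta.Meet

/-!
# Type (gamma), `V = O₄⁺(q)`, `q ≥ 4`: the interfaces of the G-side (plan: bb OMEGA, helper983, 04:35Z)

* `Grid V R Q` : the points `R i j` of `V` (rows `i : I`, columns `j : J`), `Q i j = O₂(N(R i j))`, THEOREM BETA and
  the facts on the action.  Producer: helper914.
* `RC R Q` : the output of (I1): `Q i j = A_i A^j`.  Producer: helper983 (`Grid.lean`).
* `Gin` : the input of (I2), (I3).  Consumer: helper321.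
-/

set_option autoImplicit false

open Subgroup
open scoped Pointwise

namespace Cfsg.Agent.Omega.NO1.Gamma

open Cfsg.Agent.Omega.NO1.Beta.Meet (cj)

variable {G : Type*} [Group G] {I J : Type*}

/-- **The grid of points of `V`.**  `cj c H = c H c⁻¹`. -/
structure Grid (V : Subgroup G) (R Q : I → J → Subgroup G) : Prop where
  comm : ∀ a ∈ V, ∀ b ∈ V, a * b = b * a
  V_sq : ∀ a ∈ V, a * a = 1
  R_le : ∀ i j, R i j ≤ V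
  ne : ∀ i j, R i j ≠ ⊥
  /-- `R i j ≤ R i l ^⊥` -/
  row : ∀ i j l, R i j ≤ Q i l
  /-- `R i j ≤ R k j ^⊥` -/
  col : ∀ i k j, R i j ≤ Q k j
  disj : ∀ i j k l, R i j ⊓ R k l ≠ ⊥ → i = k ∧ j = l
  -- THEOREM BETA
  QQ : ∀ i j, ∀ y ∈ Q i j, ∀ z ∈ Q i j, y * z * y⁻¹ * z⁻¹ ∈ R i j
  Qsq : ∀ i j, ∀ y ∈ Q i j, y * y ∈ R i j
  RQ : ∀ i j, ∀ r ∈ R i j, ∀ y ∈ Q i j, r * y = y * r
  cen : ∀ i j, ∀ y ∈ Q i j, (∀ z ∈ Q i j, y * z = z * y) → y ∈ R i j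
  Q_V : ∀ i j, Q i j ≤ normalizer (V : Set G)
  /-- `Q i j = O₂(N(R i j))` -/
  conj : ∀ (y : G) i j k l, cj y (R i j) = R k l → cj y (Q i j) = Q k l
  -- the action of `Q i j` on the points
  perm : ∀ i j, ∀ y ∈ Q i j, ∃ (σ : I → I) (τ : J → J), σ i = i ∧ τ j = j ∧
    ∀ k l, cj y (R k l) = R (σ k) (τ l)
  fix : ∀ i j k l, k ≠ i → l ≠ j → ∀ y ∈ Q i j, cj y (R k l) = R k l → y ∈ centralizer (V : Set G)
  tran : ∀ i j k l k' l', k ≠ i → k' ≠ i → l ≠ j → l' ≠ j → ∃ y ∈ Q i j, cj y (R k l) = R k' l'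
  /-- `Q i j ⊓ Q k l ≤ V` for opposite points -/
  meet : ∀ i j k l, k ≠ i → l ≠ j → Q i j ⊓ Q k l ≤ V
  RQj : ∀ i j k l, k ≠ i → l ≠ j → R i j ⊓ Q k l = ⊥
  VE₁ : ∀ i j l, j ≠ l → V ≤ (V ⊓ Q i j) ⊔ (V ⊓ Q i l)
  VE₂ : ∀ i k j, i ≠ k → V ≤ (V ⊓ Q i j) ⊔ (V ⊓ Q k j)
  VE : ∀ i j k l, i ≠ k → j ≠ l → V ≤ (V ⊓ Q i j) ⊔ (V ⊓ Q k l)
  /-- `V ⊓ Q i j = T_i T^j` -/
  EE : ∀ i j k l, k ≠ i → l ≠ j → V ⊓ Q i j ≤ (R i j ⊔ R i l) ⊔ R k j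
  /-- three rows, three columns -/
  threeI : ∀ i k : I, ∃ m, m ≠ i ∧ m ≠ k
  threeJ : ∀ j l : J, ∃ m, m ≠ j ∧ m ≠ l
  /-- the elements of `Q i j` fixing the columns induce on `V` a group which depends on `i` only -/
  act₁ : ∀ i j j', ∀ x ∈ Q i j, (∀ l, cj x (R i l) = R i l) →
    ∃ y ∈ Q i j', (∀ l, cj y (R i l) = R i l) ∧ y⁻¹ * x ∈ centralizer (V : Set G)
  act₂ : ∀ j i i', ∀ x ∈ Q i j, (∀ k, cj x (R k j) = R k j) →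
    ∃ y ∈ Q i' j, (∀ k, cj y (R k j) = R k j) ∧ y⁻¹ * x ∈ centralizer (V : Set G)
  /-- the torus `diag(y, y⁻¹) × 1`, `y² ≠ 1` -/
  tor₁ : ∀ i j, ∃ h ∈ ⨆ k, ⨆ l, Q k l, (∀ l, cj h (R i l) = R i l) ∧
    ∀ x ∈ Q i j, (∀ l, cj x (R i l) = R i l) → ∃ z ∈ Q i j, (∀ l, cj z (R i l) = R i l) ∧
      x⁻¹ * (h * z * h⁻¹ * z⁻¹) ∈ centralizer (V : Set G)
  /-- the torus `1 × diag(y, y⁻¹)` -/
  tor₂ : ∀ i j, ∃ h ∈ ⨆ k, ⨆ l, Q k l, (∀ k, cj h (R k j) = R k j) ∧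
    ∀ x ∈ Q i j, (∀ k, cj x (R k j) = R k j) → ∃ z ∈ Q i j, (∀ k, cj z (R k j) = R k j) ∧
      x⁻¹ * (h * z * h⁻¹ * z⁻¹) ∈ centralizer (V : Set G)

/-- the row group `A_i = ⋂ⱼ Q i j` -/
def rowG (Q : I → J → Subgroup G) (i : I) : Subgroup G := ⨅ j, Q i j

/-- the column group `A^j = ⋂ᵢ Q i j` -/
def colG (Q : I → J → Subgroup G) (j : J) : Subgroup G := ⨅ i, Q i j

/-- **The output of (I1).** -/
structure RC (V : Subgroup G) (R Q : I → J → Subgroup G) : Prop where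
  row_eq : ∀ i j l, j ≠ l → Q i j ⊓ Q i l = rowG Q i
  col_eq : ∀ i k j, i ≠ k → Q i j ⊓ Q k j = colG Q j
  sup : ∀ i j, Q i j = rowG Q i ⊔ colG Q j
  mul : ∀ i j, ∀ x ∈ Q i j, ∃ a ∈ rowG Q i, ∃ b ∈ colG Q j, x = a * b
  inf : ∀ i j, rowG Q i ⊓ colG Q j = R i j
  R_row : ∀ i j, R i j ≤ rowG Q i
  R_col : ∀ i j, R i j ≤ colG Q j
  row_comm : ∀ i, ∀ x ∈ rowG Q i, ∀ y ∈ rowG Q i, x * y = y * x
  col_comm : ∀ j, ∀ x ∈ colG Q j, ∀ y ∈ colG Q j, x * y = y * x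
  row_sq : ∀ i, ∀ x ∈ rowG Q i, x * x = 1
  col_sq : ∀ j, ∀ x ∈ colG Q j, x * x = 1
  /-- `C_{Q i j}(A_i) = A_i` -/
  row_cent : ∀ i j, ∀ x ∈ Q i j, (∀ y ∈ rowG Q i, x * y = y * x) → x ∈ rowG Q i
  col_cent : ∀ i j, ∀ x ∈ Q i j, (∀ y ∈ colG Q j, x * y = y * x) → x ∈ colG Q j
  /-- the row groups fix the columns and conversely -/
  row_fix : ∀ i, ∀ x ∈ rowG Q i, ∀ k l, ∃ k', cj x (R k l) = R k' l
  col_fix : ∀ j, ∀ x ∈ colG Q j, ∀ k l, ∃ l', cj x (R k l) = R k l'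
  /-- `C_{A_i}(V)`, `C_{A^j}(V)` for different rows / columns commute -/
  row_row : ∀ i k, i ≠ k → ∀ x ∈ rowG Q i, x ∈ centralizer (V : Set G) → ∀ y ∈ rowG Q k,
    y ∈ centralizer (V : Set G) → x * y = y * x
  col_col : ∀ j l, j ≠ l → ∀ x ∈ colG Q j, x ∈ centralizer (V : Set G) → ∀ y ∈ colG Q l,
    y ∈ centralizer (V : Set G) → x * y = y * x
  /-- `C_{Q i j}(V) = C_{A_i}(V) C_{A^j}(V)` -/
  cenV : ∀ i j, ∀ x ∈ Q i j, x ∈ centralizer (V : Set G) → ∃ a ∈ rowG Q i, ∃ b ∈ colG Q j,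
    a ∈ centralizer (V : Set G) ∧ b ∈ centralizer (V : Set G) ∧ x = a * b
  /-- an element of `C_{Q i j}(V)` centralising `C_{Q k l}(V)` for all opposite points centralises `C_{Q i j}(V)` -/
  opp : ∀ i j, ∀ x ∈ Q i j, x ∈ centralizer (V : Set G) →
    (∀ k l, k ≠ i → l ≠ j → ∀ y ∈ Q k l, y ∈ centralizer (V : Set G) → x * y = y * x) →
    ∀ y ∈ Q i j, y ∈ centralizer (V : Set G) → x * y = y * x

/-- **The input of (I2), (I3)** (proposal).  `V = {v a b c d}`, the `2 × 2`-matrices; `i0` = the row `c = d = 0`, `j0` = the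
column `b = d = 0`; `p` moves the rows, `p'` the columns. -/
structure Gin (F : Type*) [Field F] (S : Sylow 2 G) (V : Subgroup G) (R Q : I → J → Subgroup G) (i0 i1 : I) (j0 j1 : J)
    (v : F → F → F → F → G) (p p' : G → F) : Prop where
  grid : Grid V R Q
  rc : RC V R Q
  hi : i0 ≠ i1
  hj : j0 ≠ j1
  two : (2 : F) = 0
  four : ∃ a : F, a ≠ 0 ∧ a ≠ 1
  v_add : ∀ a b c d a' b' c' d', v (a + a') (b + b') (c + c') (d + d') = v a b c d * v a' b' c' d'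
  v_inj : ∀ a b c d, v a b c d = 1 → a = 0 ∧ b = 0 ∧ c = 0 ∧ d = 0
  v_mem : ∀ a b c d, v a b c d ∈ V
  v_surj : ∀ x ∈ V, ∃ a b c d, v a b c d = x
  R00 : ∀ x, x ∈ R i0 j0 ↔ ∃ a, x = v a 0 0 0
  R01 : ∀ x, x ∈ R i0 j1 ↔ ∃ b, x = v 0 b 0 0
  R10 : ∀ x, x ∈ R i1 j0 ↔ ∃ c, x = v 0 0 c 0
  R11 : ∀ x, x ∈ R i1 j1 ↔ ∃ d, x = v 0 0 0 d
  row_V : ∀ a b c d, v a b c d ∈ rowG Q i0 ↔ c = 0 ∧ d = 0
  col_V : ∀ a b c d, v a b c d ∈ colG Q j0 ↔ b = 0 ∧ d = 0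
  V_Q : ∀ a b c d, v a b c d ∈ Q i0 j0 ↔ d = 0
  act : ∀ x ∈ Q i0 j0, ∀ a b c d, x * v a b c d * x⁻¹ =
    v (a + p' x * b + p x * c + p x * p' x * d) (b + p x * d) (c + p' x * d) d
  p_surj : ∀ s t, ∃ x ∈ Q i0 j0, p x = s ∧ p' x = t
  row_p : ∀ x ∈ rowG Q i0, p' x = 0
  col_p : ∀ x ∈ colG Q j0, p x = 0
  /-- `h(y) = diag(y, y⁻¹) × diag(y⁻¹, y)`, centralises `R = R i0 j0` -/
  tor : ∀ y : F, y ≠ 0 → ∃ h ∈ normalizer (V : Set G), ∀ a b c d,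
    h * v a b c d * h⁻¹ = v a (y ^ 2 * b) ((y ^ 2)⁻¹ * c) d
  /-- `diag(y, y⁻¹) × 1`, in the group generated by the row groups: trivial on `A^j / T^j` -/
  tor' : ∀ y : F, y ≠ 0 → ∃ h ∈ ⨆ k, rowG Q k, ∀ a b c d,
    h * v a b c d * h⁻¹ = v (y * a) (y * b) (y⁻¹ * c) (y⁻¹ * d)
  /-- the reflection `1 × w` -/
  wey : ∃ w ∈ ⨆ l, colG Q l, ∀ a b c d, w * v a b c d * w⁻¹ = v b a d c
  /-- the reflection `w × 1` -/
  wey' : ∃ w ∈ ⨆ k, rowG Q k, ∀ a b c d, w * v a b c d * w⁻¹ = v c d a b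
  swap : ∃ s ∈ S, cj s V = V ∧ cj s (R i0 j0) = R i0 j0 ∧ cj s (rowG Q i0) = colG Q j0 ∧
    cj s (colG Q j0) = rowG Q i0
  norm : ∀ g : G, cj g V = V → cj g (R i0 j0) = R i0 j0 →
    (cj g (rowG Q i0) = rowG Q i0 ∧ cj g (colG Q j0) = colG Q j0) ∨
      (cj g (rowG Q i0) = colG Q j0 ∧ cj g (colG Q j0) = rowG Q i0)
  /-- an element of `N(V)` which is unipotent for the flag `R < E < V` and trivial on `E/R` acts as an element of `Q` -/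
  actU : ∀ g ∈ normalizer (V : Set G), (∀ a, g * v a 0 0 0 * g⁻¹ = v a 0 0 0) →
    (∀ b c, ∃ a, g * v 0 b c 0 * g⁻¹ = v a b c 0) → (∀ d, ∃ a b c, g * v 0 0 0 d * g⁻¹ = v a b c d) →
    ∃ x ∈ Q i0 j0, g * x⁻¹ ∈ centralizer (V : Set G)
  Q_two : IsPGroup 2 (Q i0 j0)
  /-- `Q i0 j0 = O₂(C(R i0 j0))` -/
  max : ∀ N : Subgroup G, IsPGroup 2 N → N ≤ centralizer (R i0 j0 : Set G) →
    (∀ c ∈ centralizer (R i0 j0 : Set G), ∀ x ∈ N, c * x * c⁻¹ ∈ N) → N ≤ Q i0 j0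
  char2 : centralizer (Q i0 j0 : Set G) ≤ Q i0 j0
  S_V : (S : Subgroup G) ≤ normalizer (V : Set G)
  S_R : (S : Subgroup G) ≤ normalizer (R i0 j0 : Set G)

/-- **The output of helper914** (`GinOf.lean`, helper983: `Gin0 → Gin`). -/
structure Gin0 (F : Type*) [Field F] (S : Sylow 2 G) (V : Subgroup G) (R Q : I → J → Subgroup G) (i0 i1 : I) (j0 j1 : J)
    (v : F → F → F → F → G) (p p' : G → F) : Prop where
  grid : Grid V R Q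
  hi : i0 ≠ i1
  hj : j0 ≠ j1
  two : (2 : F) = 0
  four : ∃ a : F, a ≠ 0 ∧ a ≠ 1
  v_add : ∀ a b c d a' b' c' d', v (a + a') (b + b') (c + c') (d + d') = v a b c d * v a' b' c' d'
  v_inj : ∀ a b c d, v a b c d = 1 → a = 0 ∧ b = 0 ∧ c = 0 ∧ d = 0
  v_mem : ∀ a b c d, v a b c d ∈ V
  v_surj : ∀ x ∈ V, ∃ a b c d, v a b c d = x
  R00 : ∀ x, x ∈ R i0 j0 ↔ ∃ a, x = v a 0 0 0
  R01 : ∀ x, x ∈ R i0 j1 ↔ ∃ b, x = v 0 b 0 0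
  R10 : ∀ x, x ∈ R i1 j0 ↔ ∃ c, x = v 0 0 c 0
  R11 : ∀ x, x ∈ R i1 j1 ↔ ∃ d, x = v 0 0 0 d
  V_Q : ∀ a b c d, v a b c d ∈ Q i0 j0 ↔ d = 0
  act : ∀ x ∈ Q i0 j0, ∀ a b c d, x * v a b c d * x⁻¹ =
    v (a + p' x * b + p x * c + p x * p' x * d) (b + p x * d) (c + p' x * d) d
  p_surj : ∀ s t, ∃ x ∈ Q i0 j0, p x = s ∧ p' x = t
  /-- the opposite point -/
  act' : ∀ s t, ∃ x ∈ Q i1 j1, ∀ a b c d, x * v a b c d * x⁻¹ =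
    v a (b + t * a) (c + s * a) (d + s * b + t * c + s * t * a)
  tor : ∀ y : F, y ≠ 0 → ∃ h ∈ normalizer (V : Set G), ∀ a b c d,
    h * v a b c d * h⁻¹ = v a (y ^ 2 * b) ((y ^ 2)⁻¹ * c) d
  /-- `S` normalises `V` and `R i0 j0` and contains an element interchanging rows and columns -/
  swap : ∃ s ∈ S, ∃ (σ : J → I) (τ : I → J), ∀ i j, cj s (R i j) = R (σ j) (τ i)
  /-- `N(V)` permutes the rows and the columns or interchanges them -/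
  norm : ∀ g : G, cj g V = V → (∃ (σ : I → I) (τ : J → J), ∀ i j, cj g (R i j) = R (σ i) (τ j)) ∨
    ∃ (σ : J → I) (τ : I → J), ∀ i j, cj g (R i j) = R (σ j) (τ i)
  actU : ∀ g ∈ normalizer (V : Set G), (∀ a, g * v a 0 0 0 * g⁻¹ = v a 0 0 0) →
    (∀ b c, ∃ a, g * v 0 b c 0 * g⁻¹ = v a b c 0) → (∀ d, ∃ a b c, g * v 0 0 0 d * g⁻¹ = v a b c d) →
    ∃ x ∈ Q i0 j0, g * x⁻¹ ∈ centralizer (V : Set G)
  Q_two : IsPGroup 2 (Q i0 j0)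
  max : ∀ N : Subgroup G, IsPGroup 2 N → N ≤ centralizer (R i0 j0 : Set G) →
    (∀ c ∈ centralizer (R i0 j0 : Set G), ∀ x ∈ N, c * x * c⁻¹ ∈ N) → N ≤ Q i0 j0
  char2 : centralizer (Q i0 j0 : Set G) ≤ Q i0 j0
  S_V : (S : Subgroup G) ≤ normalizer (V : Set G)
  S_R : (S : Subgroup G) ≤ normalizer (R i0 j0 : Set G)

/-- **The output of (I2), (I3)**, `A = rowG Q i0`, `B = colG Q j0`, `R = R i0 j0`. -/
structure POut (V R A B : Subgroup G) : Prop where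
  /-- `N_G(R)` permutes `{A, B}` -/
  perm : ∀ g : G, cj g R = R → (cj g A = A ∧ cj g B = B) ∨ (cj g A = B ∧ cj g B = A)
  /-- commuting pairs are conjugate into `V` -/
  tran : ∀ x ∈ A, x ∉ R → ∀ y ∈ B, y ∉ R → x * y = y * x → ∃ g : G, cj g R = R ∧ cj g A = A ∧ cj g B = B ∧
    g * x * g⁻¹ ∈ V ∧ g * y * g⁻¹ ∈ V
  tranA : ∀ x ∈ A, x ∉ R → ∃ g : G, cj g R = R ∧ cj g A = A ∧ cj g B = B ∧ g * x * g⁻¹ ∈ V
  tranB : ∀ y ∈ B, y ∉ R → ∃ g : G, cj g R = R ∧ cj g A = A ∧ cj g B = B ∧ g * y * g⁻¹ ∈ V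

/-- **The input of (I5)** (`Bip.lean`, helper749): contradictory. -/
structure Bip (R A B : Subgroup G) : Prop where
  ne : R ≠ ⊥
  ti : ∀ g : G, R ⊓ cj g R ≠ ⊥ → cj g R = R
  inf : A ⊓ B = R
  comA : ∀ x ∈ A, ∀ y ∈ A, x * y = y * x
  comB : ∀ x ∈ B, ∀ y ∈ B, x * y = y * x
  comm : ∀ x ∈ A, ∀ y ∈ B, x * y * x⁻¹ * y⁻¹ ∈ R
  nor : ∀ g : G, cj g R = R → (cj g A = A ∧ cj g B = B) ∨ (cj g A = B ∧ cj g B = A)
  cenA : ∀ x ∈ A, (∀ y ∈ B, x * y = y * x) → x ∈ R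
  cenB : ∀ y ∈ B, (∀ x ∈ A, x * y = y * x) → y ∈ R
  covA : ∀ x ∈ A, ∃ g : G, cj g A = A ∧ g * x * g⁻¹ ∈ R
  covB : ∀ y ∈ B, ∃ g : G, cj g B = B ∧ g * y * g⁻¹ ∈ R
  big : Nat.card R ^ 2 < Nat.card B
  swap : ∃ s : G, cj s R = R ∧ cj s A = B ∧ cj s B = A
  key : ∀ m n : G, cj m B = B → cj n A = A → cj m R ≠ R → cj n R ≠ R →
    (∀ x ∈ cj m R, ∀ y ∈ cj n R, x * y = y * x) → ∃ g : G, cj m A = cj g A ∧ cj n B = cj g B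
  gen : normalizer (A : Set G) ⊔ normalizer (B : Set G) = ⊤

end Cfsg.Agent.Omega.NO1.Gamma
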