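import Cfsg.Agent.Omega.NO1.Gamma.Mod

/-!
# Type (gamma), `q ≥ 4`: the decomposition `Q/R = N₁ ⊕ N₂` and the input of THEOREM SL

(I2) of bb #15588, third part.
-/

set_option autoImplicit false
set_option linter.unusedVariables false
set_option linter.unusedSectionVars false
set_option linter.unusedSimpArgs false

open Subgroup
open scoped Pointwise commutatorElement

namespace Cfsg.Agent.Omega.NO1.Gamma

open Cfsg.Agent.Omega.NO1.Beta.Meet (cj mem_cj conj_mem_cj cj_mul cj_inj cj_eq_of_comm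
  mem_normalizer_of_cj cj_of_mem_normalizer)
open Cfsg.Agent.Omega.NOne

namespace Gin

variable {F : Type*} [Field F] {G : Type*} [Group G] {I J : Type*} {S : Sylow 2 G} {V : Subgroup G}
  {R Q : I → J → Subgroup G} {i0 i1 : I} {j0 j1 : J} {v : F → F → F → F → G} {p p' : G → F}
  (D : Gin F S V R Q i0 i1 j0 j1 v p p') [Finite G]

include D

/-- the space `M = Q/R` -/
noncomputable abbrev Mo : Type _ := D.inp.M

/-- the projection -/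
noncomputable def pi {x : G} (hx : x ∈ Q i0 j0) : D.Mo := D.inp.π x hx

/-- the forms -/
noncomputable def ff : D.Mo →ₗ[F] D.Mo →ₗ[F] F := D.inp.f

noncomputable def ss (m : D.Mo) : F := D.inp.s m

theorem pi_surj (m : D.Mo) : ∃ x, ∃ hx : x ∈ Q i0 j0, D.pi hx = m := D.inp.π_surj m

theorem pi_congr {x y : G} (hx : x ∈ Q i0 j0) (h : x = y) (hy : y ∈ Q i0 j0) : D.pi hx = D.pi hy := by
  subst h; rfl

theorem pi_mul {x y : G} (hx : x ∈ Q i0 j0) (hy : y ∈ Q i0 j0) (hxy : x * y ∈ Q i0 j0) :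
    D.pi hxy = D.pi hx + D.pi hy := D.inp.π_mul hx hy

theorem pi_eq_zero {x : G} (hx : x ∈ Q i0 j0) : D.pi hx = 0 ↔ x ∈ R i0 j0 := D.inp.π_eq_zero hx

theorem pi_eq_iff {x y : G} (hx : x ∈ Q i0 j0) (hy : y ∈ Q i0 j0) :
    D.pi hx = D.pi hy ↔ x⁻¹ * y ∈ R i0 j0 := D.inp.π_eq_iff hx hy

theorem ff_pi {x y : G} (hx : x ∈ Q i0 j0) (hy : y ∈ Q i0 j0) :
    D.ff (D.pi hx) (D.pi hy) = ρ v ⁅x, y⁆ := D.inp.f_π hx hy

theorem ss_pi {x : G} (hx : x ∈ Q i0 j0) : D.ss (D.pi hx) = ρ v (x * x) := D.inp.s_π hx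

theorem ρ_one : ρ v 1 = 0 := by
  rw [← D.v_zero]; exact D.ρ_v 0

theorem ρ_inj {r : G} (hr : r ∈ R i0 j0) (h : ρ v r = 0) : r = 1 := D.pre.ρ_inj r hr h

theorem ff_pi_iff {x y : G} (hx : x ∈ Q i0 j0) (hy : y ∈ Q i0 j0) :
    D.ff (D.pi hx) (D.pi hy) = 0 ↔ x * y = y * x := by
  rw [D.ff_pi]
  constructor
  · intro h
    exact comm_of_eq_one (D.ρ_inj (D.grid.QQ i0 j0 x hx y hy) h)
  · intro h
    rw [commutatorElement_eq_one_iff_mul_comm.2 h, D.ρ_one]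

theorem ss_pi_iff {x : G} (hx : x ∈ Q i0 j0) : D.ss (D.pi hx) = 0 ↔ x * x = 1 := by
  rw [D.ss_pi]
  constructor
  · intro h
    exact D.ρ_inj (D.grid.Qsq i0 j0 x hx) h
  · intro h
    rw [h, D.ρ_one]

theorem ff_symm (m n : D.Mo) : D.ff m n = D.ff n m := by
  obtain ⟨x, hx, rfl⟩ := D.pi_surj m
  obtain ⟨y, hy, rfl⟩ := D.pi_surj n
  rw [D.ff_pi, D.ff_pi]
  exact congrArg (ρ v) (D.pre.comm_symm hx hy)

theorem ss_add (m n : D.Mo) : D.ss (m + n) = D.ss m + D.ss n + D.ff m n := D.inp.s_add m n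

theorem ss_smul (a : F) (m : D.Mo) : D.ss (a • m) = a ^ 2 * D.ss m := D.inp.s_smul a m

theorem ff_nondeg (m : D.Mo) (h : ∀ n, D.ff m n = 0) : m = 0 := D.inp.nondeg m h

/-- the action of `K = C(R)` -/
noncomputable def ac {k : G} (hk : k ∈ centralizer (R i0 j0 : Set G)) : D.Mo ≃ₗ[F] D.Mo := D.inp.act ⟨k, hk⟩

theorem ac_pi {k : G} (hk : k ∈ centralizer (R i0 j0 : Set G)) {x : G} (hx : x ∈ Q i0 j0) :
    D.ac hk (D.pi hx) = D.pi (D.K_norm hk hx) := D.inp.act_π ⟨k, hk⟩ hx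

theorem ac_mul {k l : G} (hk : k ∈ centralizer (R i0 j0 : Set G)) (hl : l ∈ centralizer (R i0 j0 : Set G)) :
    D.ac (mul_mem hk hl) = D.ac hk * D.ac hl := D.inp.act.map_mul ⟨k, hk⟩ ⟨l, hl⟩

theorem ac_inv {k : G} (hk : k ∈ centralizer (R i0 j0 : Set G)) :
    D.ac (inv_mem hk) = (D.ac hk)⁻¹ := D.inp.act.map_inv ⟨k, hk⟩

theorem ac_ss {k : G} (hk : k ∈ centralizer (R i0 j0 : Set G)) (m : D.Mo) : D.ss (D.ac hk m) = D.ss m :=
  D.inp.isom ⟨k, hk⟩ m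

theorem ac_ff {k : G} (hk : k ∈ centralizer (R i0 j0 : Set G)) (m n : D.Mo) :
    D.ff (D.ac hk m) (D.ac hk n) = D.ff m n := by
  have h := D.ss_add (D.ac hk m) (D.ac hk n)
  rw [← map_add, D.ac_ss, D.ac_ss, D.ac_ss, D.ss_add] at h
  linear_combination -h

theorem ac_eq_one {k : G} (hk : k ∈ centralizer (R i0 j0 : Set G)) :
    D.ac hk = 1 ↔ ∀ x ∈ Q i0 j0, ⁅k, x⁆ ∈ R i0 j0 := D.inp.act_eq_one

/-- the kernel of the action -/
theorem mem_Q_of_ac {k : G} (hk : k ∈ centralizer (R i0 j0 : Set G)) (h : D.ac hk = 1) : k ∈ Q i0 j0 := by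
  let N : Subgroup G := D.inp.act.ker.map (Subgroup.subtype _)
  have hN : ∀ k, k ∈ N ↔ ∃ hk : k ∈ centralizer (R i0 j0 : Set G), D.ac hk = 1 := by
    intro k
    constructor
    · rintro ⟨k, h1, rfl⟩
      exact ⟨k.2, h1⟩
    · rintro ⟨hk, h1⟩
      exact ⟨⟨k, hk⟩, h1, rfl⟩
  have hsq : ∀ k ∈ N, k * k ∈ Q i0 j0 := by
    intro k hk
    obtain ⟨hk, h1⟩ := (hN k).1 hk
    rw [D.ac_eq_one] at h1
    apply D.char2
    rw [mem_centralizer_iff]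
    intro x hx
    have h2 := h1 x hx
    have h3 := D.mem_K.1 hk _ h2
    have h4 : ⁅k, x⁆ * ⁅k, x⁆ = 1 := D.grid.V_sq _ (D.R_le_V h2)
    have h5 : k * x = ⁅k, x⁆ * (x * k) := by simp only [commutatorElement_def]; group
    calc x * (k * k) = ⁅k, x⁆ * ⁅k, x⁆ * (x * (k * k)) := by rw [h4, one_mul]
      _ = ⁅k, x⁆ * (⁅k, x⁆ * (x * k)) * k := by group
      _ = ⁅k, x⁆ * (k * x) * k := by rw [← h5]
      _ = ⁅k, x⁆ * k * (x * k) := by group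
      _ = k * (⁅k, x⁆ * (x * k)) := by rw [← h3]; group
      _ = k * (k * x) := by rw [← h5]
      _ = k * k * x := by group
  have h2 : IsPGroup 2 N := by
    intro k
    have h3 := hsq k k.2
    obtain ⟨n, hn⟩ := D.Q_two ⟨_, h3⟩
    refine ⟨n + 1, ?_⟩
    have h4 : ((k : G) * k) ^ 2 ^ n = 1 := congrArg Subtype.val hn
    apply Subtype.ext
    rw [Subgroup.coe_pow, pow_succ', pow_mul, sq]
    exact h4
  refine D.max N h2 (fun k hk => ((hN k).1 hk).1) ?_ ((hN k).2 ⟨hk, h⟩)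
  intro c hc x hx
  obtain ⟨hxK, h1⟩ := (hN x).1 hx
  refine (hN _).2 ⟨mul_mem (mul_mem hc hxK) (inv_mem hc), ?_⟩
  rw [D.ac_mul (mul_mem hc hxK) (inv_mem hc), D.ac_mul hc hxK, D.ac_inv hc, h1, mul_one, mul_inv_cancel]

/-- `Q` acts trivially -/
theorem ac_Q {k : G} (hk : k ∈ Q i0 j0) : D.ac (D.Q_le_K hk) = 1 := by
  rw [D.ac_eq_one]
  intro x hx
  exact D.grid.QQ i0 j0 k hk x hx

/-! ### the vectors `e₁`, `e₂` -/

noncomputable def e₁ : D.Mo := D.pi (D.v_Q 0 1 0)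

noncomputable def e₂ : D.Mo := D.pi (D.v_Q 0 0 1)

theorem pi_v (a b c : F) : D.pi (D.v_Q a b c) = b • D.e₁ + c • D.e₂ := by
  refine Subtype.ext (funext fun z => ?_)
  have hz : (z : G) ∈ Q i0 j0 := z.2
  change ρ v ⁅v a b c 0, (z : G)⁆ = b * ρ v ⁅v 0 1 0 0, (z : G)⁆ + c * ρ v ⁅v 0 0 1 0, (z : G)⁆
  rw [D.comm_v hz, D.comm_v hz, D.comm_v hz]
  simp only [mul_zero, mul_one, add_zero, zero_add]
  rw [D.ρ_v, D.ρ_v, D.ρ_v]
  ring

theorem ff_e₁ {x : G} (hx : x ∈ Q i0 j0) : D.ff (D.pi hx) D.e₁ = p' x := by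
  rw [e₁, D.ff_pi, D.p'_eq hx]; rfl

theorem ff_e₂ {x : G} (hx : x ∈ Q i0 j0) : D.ff (D.pi hx) D.e₂ = p x := by
  rw [e₂, D.ff_pi, D.p_eq hx]; rfl

theorem mem_e {m : D.Mo} (b c : F) (h : m = b • D.e₁ + c • D.e₂) {x : G} (hx : x ∈ Q i0 j0)
    (hm : D.pi hx = m) : ∃ a, x = v a b c 0 := by
  rw [h, ← D.pi_v 0 b c, D.pi_eq_iff] at hm
  obtain ⟨a, ha⟩ := (D.R00 _).1 hm
  refine ⟨a, ?_⟩
  have : x = v 0 b c 0 * (x⁻¹ * v 0 b c 0)⁻¹ := by group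
  rw [this, ha, D.v_inv, D.v_mul]
  simp

theorem mem_e_E {x : G} (hx : x ∈ Q i0 j0) : (∃ b c : F, D.pi hx = b • D.e₁ + c • D.e₂) ↔ x ∈ V := by
  constructor
  · rintro ⟨b, c, h⟩
    obtain ⟨a, rfl⟩ := D.mem_e b c rfl hx h
    exact D.v_mem _ _ _ _
  · intro h
    obtain ⟨a, b, c, rfl⟩ := D.mem_E.1 ⟨h, hx⟩
    exact ⟨b, c, D.pi_v a b c⟩

theorem rowG_le : rowG Q i0 ≤ Q i0 j0 := iInf_le _ _

theorem colG_le : colG Q j0 ≤ Q i0 j0 := iInf_le _ _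

/-! ### `N₁`, `N₂` -/

/-- the image of the row group -/
noncomputable def N₁ : Submodule F D.Mo where
  carrier := {m | ∀ x, ∀ hx : x ∈ rowG Q i0, D.ff m (D.pi (D.rowG_le hx)) = 0}
  add_mem' h1 h2 x hx := by rw [map_add, LinearMap.add_apply, h1 x hx, h2 x hx, add_zero]
  zero_mem' x hx := by rw [map_zero, LinearMap.zero_apply]
  smul_mem' a m h x hx := by rw [map_smul, LinearMap.smul_apply, h x hx, smul_zero]

/-- the image of the column group -/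
noncomputable def N₂ : Submodule F D.Mo where
  carrier := {m | ∀ x, ∀ hx : x ∈ colG Q j0, D.ff m (D.pi (D.colG_le hx)) = 0}
  add_mem' h1 h2 x hx := by rw [map_add, LinearMap.add_apply, h1 x hx, h2 x hx, add_zero]
  zero_mem' x hx := by rw [map_zero, LinearMap.zero_apply]
  smul_mem' a m h x hx := by rw [map_smul, LinearMap.smul_apply, h x hx, smul_zero]

theorem mem_N₁ {x : G} (hx : x ∈ Q i0 j0) : D.pi hx ∈ D.N₁ ↔ x ∈ rowG Q i0 := by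
  constructor
  · intro h
    exact D.rc.row_cent i0 j0 x hx fun y hy => (D.ff_pi_iff hx (D.rowG_le hy)).1 (h y hy)
  · intro h y hy
    exact (D.ff_pi_iff hx (D.rowG_le hy)).2 (D.rc.row_comm i0 x h y hy)

theorem mem_N₂ {x : G} (hx : x ∈ Q i0 j0) : D.pi hx ∈ D.N₂ ↔ x ∈ colG Q j0 := by
  constructor
  · intro h
    exact D.rc.col_cent i0 j0 x hx fun y hy => (D.ff_pi_iff hx (D.colG_le hy)).1 (h y hy)
  · intro h y hy
    exact (D.ff_pi_iff hx (D.colG_le hy)).2 (D.rc.col_comm j0 x h y hy)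

theorem e₁_N₁ : D.e₁ ∈ D.N₁ := (D.mem_N₁ _).2 ((D.row_V 0 1 0 0).2 ⟨rfl, rfl⟩)

theorem e₂_N₂ : D.e₂ ∈ D.N₂ := (D.mem_N₂ _).2 ((D.col_V 0 0 1 0).2 ⟨rfl, rfl⟩)

theorem isCompl : IsCompl D.N₁ D.N₂ := by
  constructor
  · rw [Submodule.disjoint_def]
    intro m h1 h2
    obtain ⟨x, hx, rfl⟩ := D.pi_surj m
    rw [D.mem_N₁] at h1
    rw [D.mem_N₂] at h2
    rw [D.pi_eq_zero, ← D.rc.inf i0 j0]
    exact ⟨h1, h2⟩
  · rw [codisjoint_iff, eq_top_iff]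
    intro m _
    obtain ⟨x, hx, rfl⟩ := D.pi_surj m
    obtain ⟨a, ha, b, hb, rfl⟩ := D.rc.mul i0 j0 x hx
    rw [D.pi_mul (D.rowG_le ha) (D.colG_le hb)]
    exact Submodule.add_mem_sup ((D.mem_N₁ _).2 ha) ((D.mem_N₂ _).2 hb)

theorem e₁_ne : D.e₁ ≠ 0 := by
  intro h
  rw [e₁, D.pi_eq_zero, D.R00] at h
  obtain ⟨a, ha⟩ := h
  exact one_ne_zero (D.v_ext ha).2.1

theorem e₂_ne : D.e₂ ≠ 0 := by
  intro h
  rw [e₂, D.pi_eq_zero, D.R00] at h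
  obtain ⟨a, ha⟩ := h
  exact one_ne_zero (D.v_ext ha).2.2.1

theorem sing₁ {m : D.Mo} (h : m ∈ D.N₁) : D.ss m = 0 := by
  obtain ⟨x, hx, rfl⟩ := D.pi_surj m
  rw [D.mem_N₁] at h
  exact (D.ss_pi_iff hx).2 (D.rc.row_sq i0 x h)

theorem sing₂ {m : D.Mo} (h : m ∈ D.N₂) : D.ss m = 0 := by
  obtain ⟨x, hx, rfl⟩ := D.pi_surj m
  rw [D.mem_N₂] at h
  exact (D.ss_pi_iff hx).2 (D.rc.col_sq j0 x h)

theorem ff_N₁ {m n : D.Mo} (hm : m ∈ D.N₁) (hn : n ∈ D.N₁) : D.ff m n = 0 := by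
  have h := D.ss_add m n
  rw [D.sing₁ (add_mem hm hn), D.sing₁ hm, D.sing₁ hn] at h
  linear_combination -h

theorem ff_N₂ {m n : D.Mo} (hm : m ∈ D.N₂) (hn : n ∈ D.N₂) : D.ff m n = 0 := by
  have h := D.ss_add m n
  rw [D.sing₂ (add_mem hm hn), D.sing₂ hm, D.sing₂ hn] at h
  linear_combination -h

theorem perp : D.ff D.e₁ D.e₂ = 0 := by
  rw [e₁, e₂, D.ff_pi_iff]
  exact D.V_comm (D.v_mem _ _ _ _) (D.v_mem _ _ _ _)

theorem exists_c₁ : ∃ c ∈ D.N₁, D.ff c D.e₂ = 1 := by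
  obtain ⟨x, hx, h1, h2⟩ := D.p_surj 1 0
  obtain ⟨a, ha, b, hb, rfl⟩ := D.rc.mul i0 j0 x hx
  refine ⟨D.pi (D.rowG_le ha), (D.mem_N₁ _).2 ha, ?_⟩
  rw [D.p_mul (D.rowG_le ha) (D.colG_le hb), D.col_p b hb, add_zero] at h1
  rw [D.ff_e₂, h1]

theorem exists_c₂ : ∃ c ∈ D.N₂, D.ff c D.e₁ = 1 := by
  obtain ⟨x, hx, h1, h2⟩ := D.p_surj 0 1
  obtain ⟨a, ha, b, hb, rfl⟩ := D.rc.mul i0 j0 x hx
  refine ⟨D.pi (D.colG_le hb), (D.mem_N₂ _).2 hb, ?_⟩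
  rw [D.p'_mul (D.rowG_le ha) (D.colG_le hb), D.row_p a ha, zero_add] at h2
  rw [D.ff_e₁, h2]

/-- `C_Q(V)/R = P` -/
theorem mem_P {x : G} (hx : x ∈ Q i0 j0) :
    (D.ff D.e₁ (D.pi hx) = 0 ∧ D.ff D.e₂ (D.pi hx) = 0) ↔ x ∈ centralizer (V : Set G) := by
  rw [D.ff_symm D.e₁, D.ff_symm D.e₂, D.ff_e₁, D.ff_e₂, D.mem_CV hx, and_comm]

/-- the form of an isometry which is trivial on `P` -/
theorem isom_P {g : D.Mo ≃ₗ[F] D.Mo} (hs : ∀ m, D.ss (g m) = D.ss m)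
    (hP : ∀ m, D.ff D.e₁ m = 0 → D.ff D.e₂ m = 0 → g m = m) :
    ∃ a : F, ∀ m, g m = m + a • (D.ff m D.e₁ • D.e₂ + D.ff m D.e₂ • D.e₁) := by
  have hf : ∀ m n, D.ff (g m) (g n) = D.ff m n := by
    intro m n
    have h := D.ss_add (g m) (g n)
    rw [← map_add, hs, hs, hs, D.ss_add] at h
    linear_combination -h
  obtain ⟨c₁, hc₁, h1⟩ := D.exists_c₁
  obtain ⟨c₂, hc₂, h2⟩ := D.exists_c₂
  have h3 : D.ff c₁ D.e₁ = 0 := D.ff_N₁ hc₁ D.e₁_N₁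
  have h4 : D.ff c₂ D.e₂ = 0 := D.ff_N₂ hc₂ D.e₂_N₂
  -- `P^⊥ = e`
  have hdec : ∀ m, ∃ n, D.ff D.e₁ n = 0 ∧ D.ff D.e₂ n = 0 ∧ m = n + D.ff m D.e₂ • c₁ + D.ff m D.e₁ • c₂ := by
    intro m
    refine ⟨m - D.ff m D.e₂ • c₁ - D.ff m D.e₁ • c₂, ?_, ?_, by module⟩
    · rw [D.ff_symm]
      simp only [map_sub, map_smul, LinearMap.sub_apply, LinearMap.smul_apply, smul_eq_mul, h2, h3]
      ring
    · rw [D.ff_symm]
      simp only [map_sub, map_smul, LinearMap.sub_apply, LinearMap.smul_apply, smul_eq_mul, h1, h4]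
      ring
  have hperp : ∀ m, (∀ n, D.ff D.e₁ n = 0 → D.ff D.e₂ n = 0 → D.ff m n = 0) →
      m = D.ff m c₂ • D.e₁ + D.ff m c₁ • D.e₂ := by
    intro m hm
    rw [← sub_eq_zero]
    refine D.ff_nondeg _ fun n => ?_
    obtain ⟨n', hn1, hn2, h5⟩ := hdec n
    rw [h5]
    have e1 := hm n' hn1 hn2
    have e2 : D.ff D.e₁ c₁ = 0 := by rw [D.ff_symm, h3]
    have e3 : D.ff D.e₂ c₁ = 1 := by rw [D.ff_symm, h1]
    have e4 : D.ff D.e₁ c₂ = 1 := by rw [D.ff_symm, h2]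
    have e5 : D.ff D.e₂ c₂ = 0 := by rw [D.ff_symm, h4]
    simp only [map_sub, map_smul, map_add, LinearMap.sub_apply, LinearMap.smul_apply, LinearMap.add_apply,
      smul_eq_mul, e1, e2, e3, e4, e5, hn1, hn2]
    ring
  have hge : ∀ m, ∃ a c : F, g m = m + a • D.e₁ + c • D.e₂ := by
    intro m
    have h5 := hperp (g m - m) (fun n hn1 hn2 => by
      rw [map_sub, LinearMap.sub_apply]
      have h6 := hf m n
      rw [hP n hn1 hn2] at h6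
      rw [h6, sub_self])
    refine ⟨D.ff (g m - m) c₂, D.ff (g m - m) c₁, ?_⟩
    rw [add_assoc, ← h5]
    abel
  obtain ⟨a, c, h5⟩ := hge c₁
  obtain ⟨a', c', h6⟩ := hge c₂
  have hee : ∀ a c : F, D.ss (a • D.e₁ + c • D.e₂) = 0 := by
    intro a c
    rw [D.ss_add, D.ss_smul, D.ss_smul, D.sing₁ D.e₁_N₁, D.sing₂ D.e₂_N₂, map_smul, map_smul, LinearMap.smul_apply,
      D.perp]
    simp
  have hc : c = 0 := by
    have h7 := hs c₁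
    rw [h5, add_assoc, D.ss_add, hee, map_add, map_smul, map_smul, h1, h3] at h7
    simp only [smul_eq_mul] at h7
    linear_combination h7
  have ha' : a' = 0 := by
    have h7 := hs c₂
    rw [h6, add_assoc, D.ss_add, hee, map_add, map_smul, map_smul, h2, h4] at h7
    simp only [smul_eq_mul] at h7
    linear_combination h7
  have hac : c' = a := by
    have h7 := hf c₁ c₂
    rw [h5, h6, hc, ha'] at h7
    simp only [map_smul, map_add, LinearMap.smul_apply, LinearMap.add_apply, smul_eq_mul, h1, h3,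
      D.ff_symm D.e₁ c₂, h2, D.perp, zero_smul, map_zero, LinearMap.zero_apply, D.ff_symm D.e₂ c₂, h4] at h7
    linear_combination h7 - a * D.two
  refine ⟨a, fun m => ?_⟩
  obtain ⟨n, hn1, hn2, h7⟩ := hdec m
  have h8 : g m = n + D.ff m D.e₂ • (c₁ + a • D.e₁ + c • D.e₂) + D.ff m D.e₁ • (c₂ + a' • D.e₁ + c' • D.e₂) := by
    conv_lhs => rw [h7]
    rw [map_add, map_add, map_smul, map_smul, hP n hn1 hn2, h5, h6]
  rw [h8, hc, ha', hac]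
  conv_rhs => rw [h7]
  have k1 : D.ff (n + D.ff m D.e₂ • c₁ + D.ff m D.e₁ • c₂) D.e₁ = D.ff m D.e₁ := by rw [← h7]
  have k2 : D.ff (n + D.ff m D.e₂ • c₁ + D.ff m D.e₁ • c₂) D.e₂ = D.ff m D.e₂ := by rw [← h7]
  rw [k1, k2]
  module

/-- the elements of `Q` which centralise `C_Q(V)` -/
theorem cent_CV {x : G} (hx : x ∈ Q i0 j0)
    (h : ∀ y ∈ Q i0 j0, y ∈ centralizer (V : Set G) → x * y = y * x) : x ∈ V := by
  rw [← D.mem_e_E hx]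
  obtain ⟨c₁, hc₁, h1⟩ := D.exists_c₁
  obtain ⟨c₂, hc₂, h2⟩ := D.exists_c₂
  have h3 : D.ff c₁ D.e₁ = 0 := D.ff_N₁ hc₁ D.e₁_N₁
  have h4 : D.ff c₂ D.e₂ = 0 := D.ff_N₂ hc₂ D.e₂_N₂
  refine ⟨D.ff (D.pi hx) c₂, D.ff (D.pi hx) c₁, ?_⟩
  rw [← sub_eq_zero]
  refine D.ff_nondeg _ fun n => ?_
  obtain ⟨n', hn1, hn2, h5⟩ : ∃ n', D.ff D.e₁ n' = 0 ∧ D.ff D.e₂ n' = 0 ∧
      n = n' + D.ff n D.e₂ • c₁ + D.ff n D.e₁ • c₂ := by
    refine ⟨n - D.ff n D.e₂ • c₁ - D.ff n D.e₁ • c₂, ?_, ?_, by module⟩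
    · rw [D.ff_symm]
      simp only [map_sub, map_smul, LinearMap.sub_apply, LinearMap.smul_apply, smul_eq_mul, h2, h3]
      ring
    · rw [D.ff_symm]
      simp only [map_sub, map_smul, LinearMap.sub_apply, LinearMap.smul_apply, smul_eq_mul, h1, h4]
      ring
  have e1 : D.ff (D.pi hx) n' = 0 := by
    obtain ⟨y, hy, rfl⟩ := D.pi_surj n'
    exact (D.ff_pi_iff hx hy).2 (h y hy ((D.mem_P hy).1 ⟨hn1, hn2⟩))
  rw [h5]
  have e2 : D.ff D.e₁ c₁ = 0 := by rw [D.ff_symm, h3]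
  have e3 : D.ff D.e₂ c₁ = 1 := by rw [D.ff_symm, h1]
  have e4 : D.ff D.e₁ c₂ = 1 := by rw [D.ff_symm, h2]
  have e5 : D.ff D.e₂ c₂ = 0 := by rw [D.ff_symm, h4]
  simp only [map_sub, map_smul, map_add, LinearMap.sub_apply, LinearMap.smul_apply, LinearMap.add_apply,
    smul_eq_mul, e1, e2, e3, e4, e5, hn1, hn2]
  ring

end Gin

end Cfsg.Agent.Omega.NO1.Gamma
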