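import Cfsg.Agent.Omega.NO1.Gamma.Defs
import Cfsg.Agent.Omega.NOne.SL.FStr

/-!
# Type (gamma), `q ≥ 4`: `Q/R` as an `F`-space, generation `Q = ⟨E^K⟩`

(I2) of bb #15588, first part: from `Gin` to `FStr.Inp`.
-/

set_option autoImplicit false
set_option linter.unusedVariables false
set_option linter.unusedSectionVars false

open Subgroup
open scoped Pointwise commutatorElement

namespace Cfsg.Agent.Omega.NO1.Gamma

open Cfsg.Agent.Omega.NO1.Beta.Meet (cj mem_cj conj_mem_cj cj_mul cj_inj cj_eq_of_comm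
  mem_normalizer_of_cj cj_of_mem_normalizer)
open Cfsg.Agent.Omega.NOne

namespace Gin

variable {F : Type*} [Field F] {G : Type*} [Group G] {I J : Type*} {S : Sylow 2 G} {V : Subgroup G}
  {R Q : I → J → Subgroup G} {i0 i1 : I} {j0 j1 : J} {v : F → F → F → F → G} {p p' : G → F}
  (D : Gin F S V R Q i0 i1 j0 j1 v p p')

include D

theorem dbl (a : F) : a + a = 0 := by
  rw [← two_mul, D.two, zero_mul]

theorem v_zero : v 0 0 0 0 = 1 := by
  have h := D.v_add 0 0 0 0 0 0 0 0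
  simp only [add_zero] at h
  exact left_eq_mul.mp h

theorem v_mul (a b c d a' b' c' d' : F) :
    v a b c d * v a' b' c' d' = v (a + a') (b + b') (c + c') (d + d') := (D.v_add _ _ _ _ _ _ _ _).symm

theorem v_inv (a b c d : F) : (v a b c d)⁻¹ = v a b c d := by
  rw [inv_eq_iff_mul_eq_one, D.v_mul, D.dbl, D.dbl, D.dbl, D.dbl, D.v_zero]

theorem v_ext {a b c d a' b' c' d' : F} (h : v a b c d = v a' b' c' d') :
    a = a' ∧ b = b' ∧ c = c' ∧ d = d' := by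
  have h1 : v (a + a') (b + b') (c + c') (d + d') = 1 := by
    rw [D.v_add, h, D.v_mul, D.dbl, D.dbl, D.dbl, D.dbl, D.v_zero]
  obtain ⟨e1, e2, e3, e4⟩ := D.v_inj _ _ _ _ h1
  refine ⟨?_, ?_, ?_, ?_⟩
  · linear_combination e1 - a' * D.two
  · linear_combination e2 - b' * D.two
  · linear_combination e3 - c' * D.two
  · linear_combination e4 - d' * D.two

theorem V_comm {x y : G} (hx : x ∈ V) (hy : y ∈ V) : x * y = y * x := D.grid.comm x hx y hy

omit D in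
open Classical in
/-- the coordinate on `R` -/
noncomputable def ρ (v : F → F → F → F → G) (g : G) : F := if h : ∃ a, g = v a 0 0 0 then h.choose else 0

theorem ρ_v (a : F) : ρ v (v a 0 0 0) = a := by
  have h : ∃ a', v a 0 0 0 = v a' 0 0 0 := ⟨a, rfl⟩
  rw [ρ, dif_pos h]
  exact (D.v_ext h.choose_spec).1.symm

theorem R_le_V : R i0 j0 ≤ V := D.grid.R_le _ _

theorem R_le_Q : R i0 j0 ≤ Q i0 j0 := D.grid.row _ _ _

theorem mem_K {k : G} : k ∈ centralizer (R i0 j0 : Set G) ↔ ∀ r ∈ R i0 j0, k * r = r * k := by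
  rw [mem_centralizer_iff]
  exact ⟨fun h r hr => (h r hr).symm, fun h r hr => (h r hr).symm⟩

theorem Q_le_K : Q i0 j0 ≤ centralizer (R i0 j0 : Set G) := by
  intro x hx
  rw [D.mem_K]
  intro r hr
  exact (D.grid.RQ i0 j0 r hr x hx).symm

theorem V_le_K : V ≤ centralizer (R i0 j0 : Set G) := by
  intro x hx
  rw [D.mem_K]
  intro r hr
  exact D.V_comm hx (D.R_le_V hr)

theorem CV_le_K : centralizer (V : Set G) ≤ centralizer (R i0 j0 : Set G) :=
  centralizer_le D.R_le_V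

theorem cj_Q {g : G} (h : cj g (R i0 j0) = R i0 j0) : cj g (Q i0 j0) = Q i0 j0 := D.grid.conj g _ _ _ _ h

omit D in
theorem conj_of_cj {g x : G} {H : Subgroup G} (h : cj g H = H) (hx : x ∈ H) : g * x * g⁻¹ ∈ H := by
  have := conj_mem_cj (c := g) hx
  rwa [h] at this

omit D in
theorem cj_inv_of {g : G} {H : Subgroup G} (h : cj g H = H) : cj g⁻¹ H = H := by
  apply cj_inj (c := g)
  rw [← cj_mul, mul_inv_cancel, h]
  ext x
  rw [mem_cj]
  simp

omit D in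
theorem conj_of_cj' {g x : G} {H : Subgroup G} (h : cj g H = H) (hx : x ∈ H) : g⁻¹ * x * g ∈ H := by
  have := conj_of_cj (cj_inv_of h) hx
  rwa [inv_inv] at this

theorem cj_R_of_K {k : G} (hk : k ∈ centralizer (R i0 j0 : Set G)) : cj k (R i0 j0) = R i0 j0 :=
  cj_eq_of_comm (D.mem_K.1 hk)

theorem K_norm {k : G} (hk : k ∈ centralizer (R i0 j0 : Set G)) {x : G} (hx : x ∈ Q i0 j0) :
    k * x * k⁻¹ ∈ Q i0 j0 := conj_of_cj (D.cj_Q (D.cj_R_of_K hk)) hx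

/-- an element `x ∈ Q` acts on `V` by `act`; commutator with `v a b c d` -/
theorem comm_v {x : G} (hx : x ∈ Q i0 j0) (a b c d : F) :
    ⁅v a b c d, x⁆ = v (p' x * b + p x * c + p x * p' x * d) (p x * d) (p' x * d) 0 := by
  rw [commutatorElement_def, show v a b c d * x * (v a b c d)⁻¹ * x⁻¹ =
    v a b c d * (x * (v a b c d)⁻¹ * x⁻¹) by group, D.v_inv, D.act x hx, D.v_mul]
  congr 1
  · linear_combination a * D.two
  · linear_combination b * D.two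
  · linear_combination c * D.two
  · exact D.dbl d

theorem mem_E {x : G} : x ∈ V ⊓ Q i0 j0 ↔ ∃ a b c, x = v a b c 0 := by
  constructor
  · rintro ⟨h1, h2⟩
    obtain ⟨a, b, c, d, rfl⟩ := D.v_surj x h1
    exact ⟨a, b, c, by rw [(D.V_Q a b c d).1 h2]⟩
  · rintro ⟨a, b, c, rfl⟩
    exact ⟨D.v_mem _ _ _ _, (D.V_Q a b c 0).2 rfl⟩

omit D in
theorem comm_of_eq_one {x y : G} (h : ⁅x, y⁆ = 1) : x * y = y * x :=
  commutatorElement_eq_one_iff_mul_comm.1 h

/-- the data of `FStr.Pre` -/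
noncomputable def pre : FStr.Pre F G where
  K := centralizer (R i0 j0 : Set G)
  Q := Q i0 j0
  R := R i0 j0
  E := V ⊓ Q i0 j0
  ρ := ρ v
  two := D.two
  R_le := D.R_le_Q
  Q_le := D.Q_le_K
  E_le := inf_le_right
  norm := fun k hk x hx => D.K_norm hk hx
  cent := fun k hk r hr => D.mem_K.1 hk r hr
  comm := fun x hx y hy => D.grid.QQ i0 j0 x hx y hy
  sq := fun x hx => D.grid.Qsq i0 j0 x hx
  R_sq := fun r hr => D.grid.V_sq r (D.R_le_V hr)
  center := fun x hx h => D.grid.cen i0 j0 x hx h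
  ρ_mul := fun r hr r' hr' => by
    obtain ⟨a, rfl⟩ := (D.R00 r).1 hr
    obtain ⟨a', rfl⟩ := (D.R00 r').1 hr'
    rw [D.v_mul, D.ρ_v, D.ρ_v, add_zero, D.ρ_v]
  ρ_inj := fun r hr h => by
    obtain ⟨a, rfl⟩ := (D.R00 r).1 hr
    rw [D.ρ_v] at h
    rw [h, D.v_zero]
  E_sq := fun x hx => D.grid.V_sq x hx.1
  sc := fun a x hx => by
    obtain ⟨α, β, γ, rfl⟩ := D.mem_E.1 hx
    refine ⟨v (a * α) (a * β) (a * γ) 0, D.mem_E.2 ⟨_, _, _, rfl⟩, fun z hz => ?_⟩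
    rw [D.comm_v hz, D.comm_v hz, mul_zero, mul_zero, mul_zero, D.ρ_v, D.ρ_v]
    ring

@[simp] theorem pre_K : D.pre.K = centralizer (R i0 j0 : Set G) := rfl
@[simp] theorem pre_Q : D.pre.Q = Q i0 j0 := rfl
@[simp] theorem pre_R : D.pre.R = R i0 j0 := rfl
@[simp] theorem pre_E : D.pre.E = V ⊓ Q i0 j0 := rfl

/-! ### `p`, `p'` as commutators -/

theorem fn_v {y : G} (hy : y ∈ Q i0 j0) (a b c : F) :
    D.pre.ρ ⁅y, v a b c 0⁆ = p' y * b + p y * c := by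
  have hE : v a b c 0 ∈ Q i0 j0 := (D.V_Q a b c 0).2 rfl
  rw [D.pre.comm_symm hy hE, D.comm_v hy, mul_zero, mul_zero, mul_zero, add_zero]
  exact D.ρ_v _

theorem p'_eq {y : G} (hy : y ∈ Q i0 j0) : p' y = D.pre.ρ ⁅y, v 0 1 0 0⁆ := by
  rw [D.fn_v hy]; ring

theorem p_eq {y : G} (hy : y ∈ Q i0 j0) : p y = D.pre.ρ ⁅y, v 0 0 1 0⁆ := by
  rw [D.fn_v hy]; ring

theorem v_Q (a b c : F) : v a b c 0 ∈ Q i0 j0 := (D.V_Q a b c 0).2 rfl

theorem p_mul {x y : G} (hx : x ∈ Q i0 j0) (hy : y ∈ Q i0 j0) : p (x * y) = p x + p y := by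
  have h := congrFun (D.pre.fn_mul hx hy) ⟨v 0 0 1 0, D.v_Q 0 0 1⟩
  rw [D.p_eq (mul_mem hx hy), D.p_eq hx, D.p_eq hy]
  exact h

theorem p'_mul {x y : G} (hx : x ∈ Q i0 j0) (hy : y ∈ Q i0 j0) : p' (x * y) = p' x + p' y := by
  have h := congrFun (D.pre.fn_mul hx hy) ⟨v 0 1 0 0, D.v_Q 0 1 0⟩
  rw [D.p'_eq (mul_mem hx hy), D.p'_eq hx, D.p'_eq hy]
  exact h

theorem p_inv {x : G} (hx : x ∈ Q i0 j0) : p x⁻¹ = p x := by
  have h := congrFun (D.pre.fn_inv hx) ⟨v 0 0 1 0, D.v_Q 0 0 1⟩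
  rw [D.p_eq (inv_mem hx), D.p_eq hx]
  exact h

theorem p'_inv {x : G} (hx : x ∈ Q i0 j0) : p' x⁻¹ = p' x := by
  have h := congrFun (D.pre.fn_inv hx) ⟨v 0 1 0 0, D.v_Q 0 1 0⟩
  rw [D.p'_eq (inv_mem hx), D.p'_eq hx]
  exact h

/-- `C_Q(V) = C_Q(E) = ker (p, p')` -/
theorem mem_CV {x : G} (hx : x ∈ Q i0 j0) : x ∈ centralizer (V : Set G) ↔ p x = 0 ∧ p' x = 0 := by
  constructor
  · intro h
    rw [mem_centralizer_iff] at h
    constructor
    · have h1 := h _ (D.v_mem 0 0 1 0)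
      rw [D.p_eq hx, commutatorElement_eq_one_iff_mul_comm.2 h1.symm]
      exact D.pre.ρ_one
    · have h1 := h _ (D.v_mem 0 1 0 0)
      rw [D.p'_eq hx, commutatorElement_eq_one_iff_mul_comm.2 h1.symm]
      exact D.pre.ρ_one
  · rintro ⟨h1, h2⟩
    rw [mem_centralizer_iff]
    intro w hw
    obtain ⟨a, b, c, d, rfl⟩ := D.v_surj w hw
    apply comm_of_eq_one
    rw [D.comm_v hx, h1, h2]
    simp [D.v_zero]

theorem mem_CV_of_E {x : G} (hx : x ∈ Q i0 j0) (h : ∀ e ∈ V ⊓ Q i0 j0, x * e = e * x) :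
    x ∈ centralizer (V : Set G) := by
  rw [D.mem_CV hx]
  constructor
  · rw [D.p_eq hx, commutatorElement_eq_one_iff_mul_comm.2 (h _ (D.mem_E.2 ⟨_, _, _, rfl⟩))]
    exact D.pre.ρ_one
  · rw [D.p'_eq hx, commutatorElement_eq_one_iff_mul_comm.2 (h _ (D.mem_E.2 ⟨_, _, _, rfl⟩))]
    exact D.pre.ρ_one

/-! ### generation -/

/-- `⟨E^K⟩` -/
noncomputable abbrev Y : Subgroup G := D.pre.Y

theorem Y_le : D.Y ≤ Q i0 j0 := D.pre.Y_le

theorem E_le_Y : V ⊓ Q i0 j0 ≤ D.Y := fun e he =>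
  subset_closure ⟨1, D.pre.K.one_mem, e, he, by group⟩

/-- the scalars on the values of `(p, p')` on `Y` -/
theorem Y_smul {y : G} (hy : y ∈ D.Y) (a : F) : ∃ z ∈ D.Y, p z = a * p y ∧ p' z = a * p' y := by
  obtain ⟨z, hz, h⟩ := D.pre.fn_smul_Y a hy
  refine ⟨z, hz, ?_, ?_⟩
  · have := congrFun h ⟨v 0 0 1 0, D.v_Q 0 0 1⟩
    rw [D.p_eq (D.Y_le hz), D.p_eq (D.Y_le hy)]
    exact this
  · have := congrFun h ⟨v 0 1 0 0, D.v_Q 0 1 0⟩
    rw [D.p'_eq (D.Y_le hz), D.p'_eq (D.Y_le hy)]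
    exact this

/-- the torus acts on the values of `(p, p')` -/
theorem tor_p {t : F} (ht : t ≠ 0) {h : G} (hV : h ∈ normalizer (V : Set G))
    (hv : ∀ a b c d, h * v a b c d * h⁻¹ = v a (t ^ 2 * b) ((t ^ 2)⁻¹ * c) d) {y : G}
    (hy : y ∈ Q i0 j0) : ∃ hQ : h * y * h⁻¹ ∈ Q i0 j0, p (h * y * h⁻¹) = t ^ 2 * p y ∧
      p' (h * y * h⁻¹) = (t ^ 2)⁻¹ * p' y := by
  have hK : h ∈ centralizer (R i0 j0 : Set G) := by
    rw [D.mem_K]
    intro r hr
    obtain ⟨a, rfl⟩ := (D.R00 r).1 hr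
    have h1 := hv a 0 0 0
    rw [mul_zero, mul_zero] at h1
    rw [mul_inv_eq_iff_eq_mul] at h1
    exact h1
  have hQ := D.K_norm hK hy
  refine ⟨hQ, ?_⟩
  have h1 := D.act _ hQ 0 0 0 1
  have h2 : h * y * h⁻¹ * v 0 0 0 1 * (h * y * h⁻¹)⁻¹ = h * (y * (h⁻¹ * v 0 0 0 1 * h) * y⁻¹) * h⁻¹ := by
    group
  have h3 : h⁻¹ * v 0 0 0 1 * h = v 0 0 0 1 := by
    have h4 := hv 0 0 0 1
    rw [mul_zero, mul_zero] at h4
    have h5 : v 0 0 0 1 = h⁻¹ * (h * v 0 0 0 1 * h⁻¹) * h := by group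
    rw [h4] at h5
    exact h5.symm
  rw [h2, h3, D.act y hy, hv] at h1
  have h4 := D.v_ext h1
  constructor
  · have := h4.2.1
    simp only [zero_add, mul_one] at this
    exact this.symm
  · have := h4.2.2.1
    simp only [zero_add, mul_one] at this
    exact this.symm

/-- some conjugate of `E` does not commute with `E` -/
theorem exists_noncomm [Finite G] : ∃ y ∈ D.Y, ¬ (p y = 0 ∧ p' y = 0) := by
  by_contra hcon
  push Not at hcon
  -- `Y` centralises `V`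
  have hYV : D.Y ≤ centralizer (V : Set G) := fun y hy => (D.mem_CV (D.Y_le hy)).2 (hcon y hy)
  set K := centralizer (R i0 j0 : Set G) with hK
  -- `[c v c⁻¹, x] ∈ Y` for `x ∈ Q`
  have hcomm : ∀ c ∈ K, ∀ w ∈ V, ∀ x ∈ Q i0 j0, ∃ y ∈ D.Y, c * w * c⁻¹ * x = y * x * (c * w * c⁻¹) := by
    intro c hc w hw x hx
    have hx' : c⁻¹ * x * c ∈ Q i0 j0 := by
      have := D.K_norm (K.inv_mem hc) hx
      rwa [inv_inv] at this
    obtain ⟨a, b, c', d, rfl⟩ := D.v_surj w hw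
    have h1 := D.comm_v hx' a b c' d
    refine ⟨c * ⁅v a b c' d, c⁻¹ * x * c⁆ * c⁻¹, D.pre.conj_mem_Y hc ?_, ?_⟩
    · rw [h1]
      exact D.E_le_Y (D.mem_E.2 ⟨_, _, _, rfl⟩)
    · simp only [commutatorElement_def]
      group
  -- elements of different conjugates of `V` commute modulo `C(Q)`
  have hcc : ∀ c ∈ K, ∀ w ∈ V, ∀ c' ∈ K, ∀ w' ∈ V,
      ⁅c * w * c⁻¹, c' * w' * c'⁻¹⁆ ∈ Q i0 j0 := by
    intro c hc w hw c' hc' w' hw'
    apply D.char2
    rw [mem_centralizer_iff]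
    intro x hx
    obtain ⟨y, hy, h1⟩ := hcomm c hc w hw x hx
    obtain ⟨y', hy', h2⟩ := hcomm c' hc' w' hw' x hx
    have hcy : ∀ c ∈ K, ∀ w ∈ V, ∀ y ∈ D.Y, c * w * c⁻¹ * y = y * (c * w * c⁻¹) := by
      intro c hc w hw y hy
      have h3 := hYV (D.pre.conj_mem_Y (K.inv_mem hc) hy)
      rw [mem_centralizer_iff] at h3
      have h4 := h3 w hw
      calc c * w * c⁻¹ * y = c * (w * (c⁻¹ * y * c⁻¹⁻¹)) * c⁻¹ := by group
        _ = c * ((c⁻¹ * y * c⁻¹⁻¹) * w) * c⁻¹ := by rw [h4]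
        _ = y * (c * w * c⁻¹) := by group
    have hyy : y * y' = y' * y := by
      have h3 : y' * x ∈ Q i0 j0 := mul_mem (D.Y_le hy') hx
      have h4 : y' ∈ Q i0 j0 := D.Y_le hy'
      -- both commute: `Y` is generated by elements of conjugates of `V`
      have h5 : ∀ z ∈ D.Y, ∀ y ∈ D.Y, z * y = y * z := by
        intro z hz
        induction hz using closure_induction with
        | mem z hz =>
          obtain ⟨k, hk, e, he, rfl⟩ := hz
          intro y hy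
          exact hcy k hk e he.1 y hy
        | one => intro y _; rw [one_mul, mul_one]
        | mul z z' _ _ a1 a2 =>
          intro y hy
          rw [mul_assoc, a2 y hy, ← mul_assoc, a1 y hy, mul_assoc]
        | inv z _ a1 =>
          intro y hy
          have := a1 y hy
          rw [inv_mul_eq_iff_eq_mul, ← mul_assoc, this, mul_assoc, mul_inv_cancel, mul_one]
      exact h5 y hy y' hy'
    set A := c * w * c⁻¹
    set B := c' * w' * c'⁻¹
    have e1 : A * B * x = y * y' * x * (A * B) := by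
      calc A * B * x = A * (B * x) := by group
        _ = A * (y' * x * B) := by rw [h2]
        _ = (A * y') * (x * B) := by group
        _ = (y' * A) * (x * B) := by rw [hcy c hc w hw y' hy']
        _ = y' * (A * x) * B := by group
        _ = y' * (y * x * A) * B := by rw [h1]
        _ = (y' * y) * x * (A * B) := by group
        _ = y * y' * x * (A * B) := by rw [hyy]
    have e2 : B * A * x = y * y' * x * (B * A) := by
      calc B * A * x = B * (A * x) := by group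
        _ = B * (y * x * A) := by rw [h1]
        _ = (B * y) * (x * A) := by group
        _ = (y * B) * (x * A) := by rw [hcy c' hc' w' hw' y hy]
        _ = y * (B * x) * A := by group
        _ = y * (y' * x * B) * A := by rw [h2]
        _ = y * y' * x * (B * A) := by group
    have e3 : x * (B * A)⁻¹ = (B * A)⁻¹ * (y * y' * x) := by
      rw [mul_inv_eq_iff_eq_mul, mul_assoc, eq_inv_mul_iff_mul_eq]
      exact e2
    calc x * ⁅A, B⁆ = (y * y')⁻¹ * (y * y' * x * (A * B)) * (B * A)⁻¹ := by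
          simp only [commutatorElement_def]; group
      _ = (y * y')⁻¹ * (A * B * x) * (B * A)⁻¹ := by rw [e1]
      _ = (y * y')⁻¹ * (A * B) * (x * (B * A)⁻¹) := by group
      _ = (y * y')⁻¹ * (A * B) * ((B * A)⁻¹ * (y * y' * x)) := by rw [e3]
      _ = (y * y')⁻¹ * (⁅A, B⁆ * (y * y')) * x := by simp only [commutatorElement_def]; group
      _ = (y * y')⁻¹ * ((y * y') * ⁅A, B⁆) * x := by
          have k1 : ∀ z ∈ D.Y, A * z = z * A := hcy c hc w hw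
          have k2 : ∀ z ∈ D.Y, B * z = z * B := hcy c' hc' w' hw'
          have k3 : ⁅A, B⁆ ∈ centralizer (D.Y : Set G) := by
            have a1 : A ∈ centralizer (D.Y : Set G) := mem_centralizer_iff.2 fun z hz => (k1 z hz).symm
            have a2 : B ∈ centralizer (D.Y : Set G) := mem_centralizer_iff.2 fun z hz => (k2 z hz).symm
            exact mul_mem (mul_mem (mul_mem a1 a2) (inv_mem a1)) (inv_mem a2)
          rw [mem_centralizer_iff.1 k3 (y * y') (mul_mem hy hy')]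
      _ = ⁅A, B⁆ * x := by group
  -- the group generated by `Q` and the conjugates of `V` is a 2-group
  let T : Set G := {g | (∃ c ∈ K, ∃ w ∈ V, g = c * w * c⁻¹) ∨ g ∈ Q i0 j0}
  let N : Subgroup G := closure T
  have hNK : N ≤ K := by
    rw [closure_le]
    rintro _ (⟨c, hc, w, hw, rfl⟩ | hx)
    · exact K.mul_mem (K.mul_mem hc (D.V_le_K hw)) (K.inv_mem hc)
    · exact D.Q_le_K hx
  have hnor : ∀ x ∈ N, ∀ q ∈ Q i0 j0, x * q * x⁻¹ ∈ Q i0 j0 := fun x hx q hq => D.K_norm (hNK hx) hq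
  have hnor' : ∀ x ∈ N, ∀ q ∈ Q i0 j0, x⁻¹ * q * x ∈ Q i0 j0 := fun x hx q hq => by
    have := D.K_norm (K.inv_mem (hNK hx)) hq
    rwa [inv_inv] at this
  have lA : ∀ x ∈ N, ∀ t ∈ T, ⁅x, t⁆ ∈ Q i0 j0 := by
    intro x hx t ht
    have htN : t ∈ N := subset_closure ht
    induction hx using closure_induction with
    | mem x hx =>
      rcases hx with ⟨c, hc, w, hw, rfl⟩ | hx
      · rcases ht with ⟨c', hc', w', hw', rfl⟩ | ht
        · exact hcc c hc w hw c' hc' w' hw'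
        · have hx' : c * w * c⁻¹ ∈ N := subset_closure (Or.inl ⟨c, hc, w, hw, rfl⟩)
          exact mul_mem (hnor _ hx' t ht) (inv_mem ht)
      · rw [commutatorElement_def, show x * t * x⁻¹ * t⁻¹ = x * (t * x⁻¹ * t⁻¹) by group]
        exact mul_mem hx (hnor t htN _ (inv_mem hx))
    | one => rw [commutatorElement_one_left]; exact one_mem _
    | mul x y hx hy h1 h2 =>
      rw [show ⁅x * y, t⁆ = (x * ⁅y, t⁆ * x⁻¹) * ⁅x, t⁆ by simp only [commutatorElement_def]; group]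
      exact mul_mem (hnor x hx _ h2) h1
    | inv x hx h1 =>
      rw [show ⁅x⁻¹, t⁆ = x⁻¹ * ⁅x, t⁆⁻¹ * x by simp only [commutatorElement_def]; group]
      exact hnor' x hx _ (inv_mem h1)
  have lB : ∀ x ∈ N, ∀ y ∈ N, ⁅x, y⁆ ∈ Q i0 j0 := by
    intro x hx y hy
    induction hy using closure_induction with
    | mem y hy => exact lA x hx y hy
    | one => rw [commutatorElement_one_right]; exact one_mem _
    | mul y z hy hz h1 h2 =>
      rw [show ⁅x, y * z⁆ = ⁅x, y⁆ * (y * ⁅x, z⁆ * y⁻¹) by simp only [commutatorElement_def]; group]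
      exact mul_mem h1 (hnor y hy _ h2)
    | inv y hy h1 =>
      rw [show ⁅x, y⁻¹⁆ = y⁻¹ * ⁅x, y⁆⁻¹ * y by simp only [commutatorElement_def]; group]
      exact hnor' y hy _ (inv_mem h1)
  have lC : ∀ x ∈ N, x * x ∈ Q i0 j0 := by
    intro x hx
    induction hx using closure_induction with
    | mem x hx =>
      rcases hx with ⟨c, hc, w, hw, rfl⟩ | hx
      · rw [show c * w * c⁻¹ * (c * w * c⁻¹) = c * (w * w) * c⁻¹ by group, D.grid.V_sq w hw]
        simp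
      · exact mul_mem hx hx
    | one => rw [mul_one]; exact one_mem _
    | mul x y hx hy h1 h2 =>
      rw [show x * y * (x * y) = x * x * ⁅x⁻¹, y⁆ * (y * y) by simp only [commutatorElement_def]; group]
      exact mul_mem (mul_mem h1 (lB _ (inv_mem hx) y hy)) h2
    | inv x hx h1 =>
      rw [← mul_inv_rev]
      exact inv_mem h1
  have hN2 : IsPGroup 2 N := by
    intro x
    obtain ⟨k, hk⟩ := D.Q_two ⟨(x : G) * x, lC x x.2⟩
    refine ⟨k + 1, ?_⟩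
    have h3 : ((x : G) * x) ^ 2 ^ k = 1 := congrArg Subtype.val hk
    refine Subtype.ext ?_
    rw [Subgroup.coe_pow, pow_succ', pow_mul, pow_two]
    exact h3
  have hNn : ∀ c ∈ K, ∀ x ∈ N, c * x * c⁻¹ ∈ N := by
    intro c hc
    have h1 : N ≤ N.comap (MulAut.conj c).toMonoidHom := by
      rw [closure_le]
      rintro _ (⟨k, hk, w, hw, rfl⟩ | hx)
      · refine subset_closure (Or.inl ⟨c * k, K.mul_mem hc hk, w, hw, ?_⟩)
        simp only [MulEquiv.coe_toMonoidHom, MulAut.conj_apply]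
        group
      · exact subset_closure (Or.inr (D.K_norm hc hx))
    exact fun x hx => h1 hx
  have h1 := D.max N hN2 hNK hNn
  have h2 : v 0 0 0 1 ∈ Q i0 j0 := h1 (subset_closure
    (Or.inl ⟨1, K.one_mem, v 0 0 0 1, D.v_mem _ _ _ _, by group⟩))
  exact one_ne_zero ((D.V_Q 0 0 0 1).1 h2)

/-- an element `t ≠ 0` with `t⁴ ≠ 1` -/
theorem exists_t : ∃ t : F, t ≠ 0 ∧ (t ^ 2)⁻¹ - t ^ 2 ≠ 0 := by
  obtain ⟨t, ht, ht1⟩ := D.four
  refine ⟨t, ht, ?_⟩
  intro h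
  have h2 : (t ^ 2) ≠ 0 := pow_ne_zero 2 ht
  have h3 : t ^ 2 * t ^ 2 = 1 := by
    have h4 : (t ^ 2)⁻¹ = t ^ 2 := sub_eq_zero.1 h
    have h5 := mul_inv_cancel₀ h2
    rwa [h4] at h5
  have h4 : (t - 1) ^ 4 = 0 := by
    linear_combination h3 - (2 * t ^ 3 - 3 * t ^ 2 + 2 * t - 1) * D.two
  exact ht1 (sub_eq_zero.1 (pow_eq_zero_iff (by norm_num) |>.1 h4))

/-- conjugation by the swap -/
theorem swap_Y {s : G} (hR : cj s (R i0 j0) = R i0 j0) (hV : cj s V = V) {y : G} (hy : y ∈ D.Y) :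
    s * y * s⁻¹ ∈ D.Y := by
  have hQ := D.cj_Q hR
  have hK : ∀ k ∈ centralizer (R i0 j0 : Set G), s * k * s⁻¹ ∈ centralizer (R i0 j0 : Set G) := by
    intro k hk
    rw [D.mem_K] at hk ⊢
    intro r hr
    have h1 := hk _ (conj_of_cj' hR hr)
    calc s * k * s⁻¹ * r = s * (k * (s⁻¹ * r * s)) * s⁻¹ := by group
      _ = s * ((s⁻¹ * r * s) * k) * s⁻¹ := by rw [h1]
      _ = r * (s * k * s⁻¹) := by group
  have h1 : D.Y ≤ D.Y.comap (MulAut.conj s).toMonoidHom := by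
    change Subgroup.closure _ ≤ _
    rw [closure_le]
    rintro _ ⟨k, hk, e, he, rfl⟩
    refine subset_closure ⟨s * k * s⁻¹, hK k hk, s * e * s⁻¹, ⟨conj_of_cj hV he.1, conj_of_cj hQ he.2⟩, ?_⟩
    simp only [MulEquiv.coe_toMonoidHom, MulAut.conj_apply]
    group
  exact h1 hy

/-- if `p = 0` on `Y`, then `p' = 0` on `Y` and conversely. -/
theorem p_iff_p' : (∀ y ∈ D.Y, p y = 0) ↔ ∀ y ∈ D.Y, p' y = 0 := by
  obtain ⟨s, hs, hV, hR, hA, hB⟩ := D.swap
  have hinv : ∀ {H H' : Subgroup G}, cj s H = H' → cj s⁻¹ H' = H := by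
    rintro H _ rfl
    rw [← cj_mul, inv_mul_cancel]
    ext x
    rw [mem_cj]
    simp
  constructor
  · intro h y hy
    -- `Y` centralises `v 0 0 c 0`, hence its conjugates
    have h1 := D.swap_Y (hinv hR) (hinv hV) hy
    rw [inv_inv] at h1
    have hyQ := D.Y_le hy
    rw [D.p'_eq hyQ]
    have h2 : s⁻¹ * v 0 1 0 0 * s ∈ colG Q j0 ⊓ V := by
      have e1 : v 0 1 0 0 ∈ rowG Q i0 := (D.row_V _ _ _ _).2 ⟨rfl, rfl⟩
      refine ⟨?_, conj_of_cj' hV (D.v_mem _ _ _ _)⟩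
      rw [← hB, mem_cj] at e1
      exact e1
    obtain ⟨a, b, c, d, he⟩ := D.v_surj _ h2.2
    have h3 : b = 0 ∧ d = 0 := (D.col_V a b c d).1 (by rw [he]; exact h2.1)
    rw [h3.1, h3.2] at he
    have h4 : ⁅s⁻¹ * y * s, v a 0 c 0⁆ = 1 := by
      have h5 := D.Y_le h1
      have h6 := D.pre.comm_symm (D.v_Q a 0 c) h5
      rw [← h6, D.comm_v h5, h _ h1]
      simp [D.v_zero]
    rw [he] at h4
    have h7 : ⁅y, v 0 1 0 0⁆ = 1 := by
      have : ⁅y, v 0 1 0 0⁆ = s * ⁅s⁻¹ * y * s, s⁻¹ * v 0 1 0 0 * s⁆ * s⁻¹ := by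
        simp only [commutatorElement_def]; group
      rw [this, h4]; group
    rw [h7]
    exact D.pre.ρ_one
  · intro h y hy
    have h1 := D.swap_Y hR hV hy
    have hyQ := D.Y_le hy
    rw [D.p_eq hyQ]
    have h2 : s * v 0 0 1 0 * s⁻¹ ∈ rowG Q i0 ⊓ V := by
      have e1 : v 0 0 1 0 ∈ colG Q j0 := (D.col_V _ _ _ _).2 ⟨rfl, rfl⟩
      refine ⟨?_, conj_of_cj hV (D.v_mem _ _ _ _)⟩
      have := conj_mem_cj (c := s) e1
      rwa [hB] at this
    obtain ⟨a, b, c, d, he⟩ := D.v_surj _ h2.2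
    have h3 : c = 0 ∧ d = 0 := (D.row_V a b c d).1 (by rw [he]; exact h2.1)
    rw [h3.1, h3.2] at he
    have h4 : ⁅s * y * s⁻¹, v a b 0 0⁆ = 1 := by
      have h5 := D.Y_le h1
      have h6 := D.pre.comm_symm (D.v_Q a b 0) h5
      rw [← h6, D.comm_v h5, h _ h1]
      simp [D.v_zero]
    rw [he] at h4
    have h7 : ⁅y, v 0 0 1 0⁆ = 1 := by
      have : ⁅y, v 0 0 1 0⁆ = s⁻¹ * ⁅s * y * s⁻¹, s * v 0 0 1 0 * s⁻¹⁆ * s := by
        simp only [commutatorElement_def]; group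
      rw [this, h4]; group
    rw [h7]
    exact D.pre.ρ_one

/-- the torus on `Y` -/
theorem tor_Y {t : F} {h : G} (hV : h ∈ normalizer (V : Set G))
    (hv : ∀ a b c d, h * v a b c d * h⁻¹ = v a (t ^ 2 * b) ((t ^ 2)⁻¹ * c) d) {y : G} (hy : y ∈ D.Y) :
    h * y * h⁻¹ ∈ D.Y := by
  have hK : h ∈ centralizer (R i0 j0 : Set G) := by
    rw [D.mem_K]
    intro r hr
    obtain ⟨a, rfl⟩ := (D.R00 r).1 hr
    have h1 := hv a 0 0 0
    rw [mul_zero, mul_zero] at h1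
    rw [mul_inv_eq_iff_eq_mul] at h1
    exact h1
  exact D.pre.conj_mem_Y hK hy

/-- `(p, p')` maps `Y` onto `F²`. -/
theorem Y_surj [Finite G] (α β : F) : ∃ y ∈ D.Y, p y = α ∧ p' y = β := by
  obtain ⟨t, ht, ht4⟩ := D.exists_t
  obtain ⟨h, hV, hv⟩ := D.tor t ht
  obtain ⟨y₀, hy₀, hne⟩ := D.exists_noncomm
  have hp : ∃ y ∈ D.Y, p y ≠ 0 := by
    by_contra hcon
    push Not at hcon
    exact hne ⟨hcon _ hy₀, D.p_iff_p'.1 hcon _ hy₀⟩
  have hp' : ∃ y ∈ D.Y, p' y ≠ 0 := by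
    by_contra hcon
    push Not at hcon
    exact hne ⟨D.p_iff_p'.2 hcon _ hy₀, hcon _ hy₀⟩
  -- `(1, 0)`
  have h10 : ∃ y ∈ D.Y, p y ≠ 0 ∧ p' y = 0 := by
    obtain ⟨y, hy, h1⟩ := hp
    obtain ⟨hQ, h2, h3⟩ := D.tor_p ht hV hv (D.Y_le hy)
    obtain ⟨z, hz, h4, h5⟩ := D.Y_smul hy ((t ^ 2)⁻¹)
    have h6 := D.tor_Y hV hv hy
    refine ⟨(h * y * h⁻¹) * z, mul_mem h6 hz, ?_, ?_⟩
    · rw [D.p_mul hQ (D.Y_le hz), h2, h4]
      have h7 : t ^ 2 * p y + (t ^ 2)⁻¹ * p y = ((t ^ 2)⁻¹ - t ^ 2) * p y := by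
        linear_combination (t ^ 2 * p y) * D.two
      rw [h7]
      exact mul_ne_zero ht4 h1
    · rw [D.p'_mul hQ (D.Y_le hz), h3, h5, D.dbl]
  have h01 : ∃ y ∈ D.Y, p y = 0 ∧ p' y ≠ 0 := by
    obtain ⟨y, hy, h1⟩ := hp'
    obtain ⟨hQ, h2, h3⟩ := D.tor_p ht hV hv (D.Y_le hy)
    obtain ⟨z, hz, h4, h5⟩ := D.Y_smul hy (t ^ 2)
    have h6 := D.tor_Y hV hv hy
    refine ⟨(h * y * h⁻¹) * z, mul_mem h6 hz, ?_, ?_⟩
    · rw [D.p_mul hQ (D.Y_le hz), h2, h4, D.dbl]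
    · rw [D.p'_mul hQ (D.Y_le hz), h3, h5]
      have h7 : (t ^ 2)⁻¹ * p' y + t ^ 2 * p' y = ((t ^ 2)⁻¹ - t ^ 2) * p' y := by
        linear_combination (t ^ 2 * p' y) * D.two
      rw [h7]
      exact mul_ne_zero ht4 h1
  obtain ⟨y, hy, h1, h2⟩ := h10
  obtain ⟨y', hy', h3, h4⟩ := h01
  obtain ⟨z, hz, h5, h6⟩ := D.Y_smul hy (α * (p y)⁻¹)
  obtain ⟨z', hz', h7, h8⟩ := D.Y_smul hy' (β * (p' y')⁻¹)
  refine ⟨z * z', mul_mem hz hz', ?_, ?_⟩
  · rw [D.p_mul (D.Y_le hz) (D.Y_le hz'), h5, h7, h3, mul_zero, add_zero, inv_mul_cancel_right₀ h1]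
  · rw [D.p'_mul (D.Y_le hz) (D.Y_le hz'), h6, h8, h2, mul_zero, zero_add, inv_mul_cancel_right₀ h4]

/-- `C_Q(Y) = R` -/
theorem cent_Y [Finite G] {z : G} (hz : z ∈ Q i0 j0) (h : ∀ y ∈ D.Y, z * y = y * z) : z ∈ R i0 j0 := by
  have hzV : z ∈ centralizer (V : Set G) := D.mem_CV_of_E hz fun e he => h e (D.E_le_Y he)
  -- commutators with `C_{Q k l}(V)`, opposite points
  have h1 : ∀ k l, k ≠ i0 → l ≠ j0 → ∀ y ∈ Q k l, y ∈ centralizer (V : Set G) → z * y = y * z := by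
    intro k l hk hl y hy hyV
    have hzR : cj z (R k l) = R k l := cj_eq_of_comm fun r hr =>
      (mem_centralizer_iff.1 hzV r (D.grid.R_le _ _ hr)).symm
    have hzQ : cj z (Q k l) = Q k l := D.grid.conj z _ _ _ _ hzR
    have e1 : ⁅z, y⁆ ∈ Q k l := mul_mem (conj_of_cj hzQ hy) (inv_mem hy)
    have hyK := D.CV_le_K hyV
    have e2 : ⁅z, y⁆ ∈ Q i0 j0 := by
      rw [commutatorElement_def, show z * y * z⁻¹ * y⁻¹ = z * (y * z⁻¹ * y⁻¹) by group]
      exact mul_mem hz (D.K_norm hyK (inv_mem hz))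
    have e3 : ⁅z, y⁆ ∈ V := D.grid.meet i0 j0 k l hk hl ⟨e2, e1⟩
    -- `[z, y]` centralises `Y`
    have e4 : ∀ w ∈ D.Y, ⁅z, y⁆ * w = w * ⁅z, y⁆ := by
      intro w hw
      have a1 : z ∈ centralizer (D.Y : Set G) := mem_centralizer_iff.2 fun u hu => (h u hu).symm
      have a2 : y * z⁻¹ * y⁻¹ ∈ centralizer (D.Y : Set G) := by
        rw [mem_centralizer_iff]
        intro u hu
        have a3 := D.pre.conj_mem_Y (D.pre.K.inv_mem hyK) hu
        rw [inv_inv] at a3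
        have a4 := mem_centralizer_iff.1 (inv_mem a1) _ a3
        calc u * (y * z⁻¹ * y⁻¹) = y * ((y⁻¹ * u * y) * z⁻¹) * y⁻¹ := by group
          _ = y * (z⁻¹ * (y⁻¹ * u * y)) * y⁻¹ := by rw [a4]
          _ = y * z⁻¹ * y⁻¹ * u := by group
      have a5 : ⁅z, y⁆ ∈ centralizer (D.Y : Set G) := by
        rw [commutatorElement_def, show z * y * z⁻¹ * y⁻¹ = z * (y * z⁻¹ * y⁻¹) by group]
        exact mul_mem a1 a2
      exact (mem_centralizer_iff.1 a5 w hw).symm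
    obtain ⟨a, b, c, he⟩ := D.mem_E.1 ⟨e3, e2⟩
    have hbc : ∀ w ∈ D.Y, p' w * b + p w * c = 0 := by
      intro w hw
      rw [← D.fn_v (D.Y_le hw) a b c, ← he, commutatorElement_eq_one_iff_mul_comm.2 (e4 w hw).symm]
      exact D.pre.ρ_one
    have hb : b = 0 := by
      obtain ⟨w, hw, h3, h4⟩ := D.Y_surj 0 1
      have := hbc w hw
      rw [h3, h4] at this
      linear_combination this
    have hc : c = 0 := by
      obtain ⟨w, hw, h3, h4⟩ := D.Y_surj 1 0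
      have := hbc w hw
      rw [h3, h4] at this
      linear_combination this
    rw [hb, hc] at he
    have e5 : ⁅z, y⁆ ∈ R i0 j0 ⊓ Q k l := ⟨(D.R00 _).2 ⟨a, he⟩, e1⟩
    rw [D.grid.RQj i0 j0 k l hk hl, mem_bot] at e5
    exact comm_of_eq_one e5
  have h2 := D.rc.opp i0 j0 z hz hzV h1
  refine D.grid.cen i0 j0 z hz fun x hx => ?_
  obtain ⟨y, hy, h3, h4⟩ := D.Y_surj (p x) (p' x)
  have hyQ := D.Y_le hy
  have h5 : y⁻¹ * x ∈ centralizer (V : Set G) := by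
    rw [D.mem_CV (mul_mem (inv_mem hyQ) hx), D.p_mul (inv_mem hyQ) hx, D.p'_mul (inv_mem hyQ) hx,
      D.p_inv hyQ, D.p'_inv hyQ, h3, h4, D.dbl, D.dbl]
    exact ⟨rfl, rfl⟩
  have h6 := h2 _ (mul_mem (inv_mem hyQ) hx) h5
  calc z * x = z * y * (y⁻¹ * x) := by group
    _ = y * (z * (y⁻¹ * x)) := by rw [h y hy, mul_assoc]
    _ = y * (y⁻¹ * x * z) := by rw [h6]
    _ = x * z := by group

/-- **Generation**: `Q = ⟨E^K⟩`. -/
theorem gen [Finite G] [Finite F] : Q i0 j0 ≤ D.Y :=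
  D.pre.gen_of (fun r hr => ⟨D.R_le_V hr, D.R_le_Q hr⟩) fun z hz h => D.cent_Y hz h

/-- `F` is finite -/
theorem finite_F [Finite G] : Finite F :=
  Finite.of_injective (fun a => v a 0 0 0) fun a b h => (D.v_ext h).1

/-- **`FStr.Inp`** -/
noncomputable def inp [Finite G] : FStr.Inp F G where
  toPre := D.pre
  gen := by
    have := D.finite_F
    exact D.gen

end Gin

end Cfsg.Agent.Omega.NO1.Gamma
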