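import Cfsg.Agent.Omega.NO1.Gamma.Row

/-!
# Type (gamma): `Gin0 → Gin`
-/

set_option autoImplicit false
set_option linter.unusedVariables false
set_option linter.unusedSectionVars false

open Subgroup
open scoped Pointwise

namespace Cfsg.Agent.Omega.NO1.Gamma

open Cfsg.Agent.Omega.NO1.Beta.Meet (cj mem_cj conj_mem_cj cj_mul cj_inj cj_eq_of_comm cj_eq_of_mem
  mem_normalizer_of_cj cj_of_mem_normalizer)

variable {G : Type*} [Group G] {I J : Type*}

theorem cj_inf' (c : G) (H K : Subgroup G) : cj c (H ⊓ K) = cj c H ⊓ cj c K := by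
  ext x
  simp only [mem_inf, mem_cj]

namespace Grid

variable {V : Subgroup G} {R Q : I → J → Subgroup G} (g : Grid V R Q)
include g

/-- a permutation of the points which maps rows to rows maps row groups to row groups -/
theorem cj_rowG {c : G} {σ : I → I} {τ : J → J} (h : ∀ i j, cj c (R i j) = R (σ i) (τ j)) [Nonempty J]
    (i : I) : cj c (rowG Q i) = rowG Q (σ i) := by
  obtain ⟨j⟩ := ‹Nonempty J›
  obtain ⟨l, hl⟩ := g.exists_ne_col j
  have h1 : τ j ≠ τ l := by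
    intro he
    apply hl
    have h2 : cj c (R i j) = cj c (R i l) := by rw [h, h, he]
    exact (g.inj (cj_inj h2)).2.symm
  rw [← g.row_eq i hl.symm, cj_inf', g.conj c _ _ _ _ (h i j), g.conj c _ _ _ _ (h i l), g.row_eq _ h1]

/-- a permutation of the points which interchanges rows and columns -/
theorem cj_rowG_swap {c : G} {σ : J → I} {τ : I → J} (h : ∀ i j, cj c (R i j) = R (σ j) (τ i)) [Nonempty J]
    (i : I) : cj c (rowG Q i) = colG Q (τ i) := by
  obtain ⟨j⟩ := ‹Nonempty J›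
  obtain ⟨l, hl⟩ := g.exists_ne_col j
  have h1 : σ j ≠ σ l := by
    intro he
    apply hl
    have h2 : cj c (R i j) = cj c (R i l) := by rw [h, h, he]
    exact (g.inj (cj_inj h2)).2.symm
  have h2 := g.transpose.row_eq (τ i) h1
  change Q (σ j) (τ i) ⊓ Q (σ l) (τ i) = colG Q (τ i) at h2
  rw [← g.row_eq i hl.symm, cj_inf', g.conj c _ _ _ _ (h i j), g.conj c _ _ _ _ (h i l), h2]

end Grid

namespace Gin0

variable {F : Type*} [Field F] {S : Sylow 2 G} {V : Subgroup G} {R Q : I → J → Subgroup G} {i0 i1 : I}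
  {j0 j1 : J} {v : F → F → F → F → G} {p p' : G → F}

/-- transposition -/
theorem transpose (h : Gin0 F S V R Q i0 i1 j0 j1 v p p') :
    Gin0 F S V (fun j i => R i j) (fun j i => Q i j) j0 j1 i0 i1 (fun a b c d => v a c b d) p' p where
  grid := h.grid.transpose
  hi := h.hj
  hj := h.hi
  two := h.two
  four := h.four
  v_add a b c d a' b' c' d' := h.v_add a c b d a' c' b' d'
  v_inj a b c d e := by
    obtain ⟨h1, h2, h3, h4⟩ := h.v_inj a c b d e
    exact ⟨h1, h3, h2, h4⟩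
  v_mem a b c d := h.v_mem a c b d
  v_surj x hx := by
    obtain ⟨a, b, c, d, e⟩ := h.v_surj x hx
    exact ⟨a, c, b, d, e⟩
  R00 := h.R00
  R01 := h.R10
  R10 := h.R01
  R11 := h.R11
  V_Q a b c d := h.V_Q a c b d
  act x hx a b c d := by
    rw [h.act x hx a c b d]
    congr 1
    ring
  p_surj s t := by
    obtain ⟨x, hx, h1, h2⟩ := h.p_surj t s
    exact ⟨x, hx, h2, h1⟩
  act' s t := by
    obtain ⟨x, hx, h1⟩ := h.act' t s
    refine ⟨x, hx, fun a b c d => ?_⟩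
    rw [h1 a c b d]
    congr 1
    ring
  tor y hy := by
    obtain ⟨k, hk, h1⟩ := h.tor y⁻¹ (inv_ne_zero hy)
    refine ⟨k, hk, fun a b c d => ?_⟩
    rw [h1 a c b d, inv_pow, inv_inv]
  swap := by
    obtain ⟨s, hs, σ, τ, h1⟩ := h.swap
    exact ⟨s, hs, τ, σ, fun j i => h1 i j⟩
  norm g hg := by
    rcases h.norm g hg with ⟨σ, τ, h1⟩ | ⟨σ, τ, h1⟩
    · exact Or.inl ⟨τ, σ, fun j i => h1 i j⟩
    · exact Or.inr ⟨τ, σ, fun j i => h1 i j⟩
  actU g hg h1 h2 h3 := by
    refine h.actU g hg h1 (fun b c => h2 c b) fun d => ?_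
    obtain ⟨a, b, c, e⟩ := h3 d
    exact ⟨a, c, b, e⟩
  Q_two := h.Q_two
  max := h.max
  char2 := h.char2
  S_V := h.S_V
  S_R := h.S_R

variable (h : Gin0 F S V R Q i0 i1 j0 j1 v p p')
include h

theorem v_zero : v 0 0 0 0 = 1 := by
  have h1 := h.v_add 0 0 0 0 0 0 0 0
  simp only [add_zero] at h1
  exact (mul_eq_left (a := v 0 0 0 0)).1 h1.symm

theorem dbl (a : F) : a + a = 0 := by rw [← two_mul, h.two, zero_mul]

/-- `v` is injective -/
theorem inj {a b c d a' b' c' d' : F} (e : v a b c d = v a' b' c' d') : a = a' ∧ b = b' ∧ c = c' ∧ d = d' := by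
  have h1 : v (a + a') (b + b') (c + c') (d + d') = 1 := by
    rw [h.v_add, e, ← h.v_add, h.dbl, h.dbl, h.dbl, h.dbl, h.v_zero]
  have key : ∀ {x y : F}, x + y = 0 → x = y := by
    intro x y hxy
    linear_combination hxy - y * h.two
  obtain ⟨h2, h3, h4, h5⟩ := h.v_inj _ _ _ _ h1
  exact ⟨key h2, key h3, key h4, key h5⟩

theorem p_mul {x y : G} (hx : x ∈ Q i0 j0) (hy : y ∈ Q i0 j0) :
    p (x * y) = p x + p y ∧ p' (x * y) = p' x + p' y := by
  have h1 := h.act (x * y) (mul_mem hx hy) 0 0 0 1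
  have h2 : x * y * v 0 0 0 1 * (x * y)⁻¹ = x * (y * v 0 0 0 1 * y⁻¹) * x⁻¹ := by group
  rw [h2, h.act y hy, h.act x hx] at h1
  obtain ⟨-, h3, h4, -⟩ := h.inj h1
  constructor
  · linear_combination -h3
  · linear_combination -h4

theorem nonI : Nonempty I := ⟨i0⟩
theorem nonJ : Nonempty J := ⟨j0⟩

/-- `T_{i0} = {v a b 0 0}` -/
theorem v_row (a b : F) : v a b 0 0 ∈ rowG Q i0 := by
  have h1 : v a 0 0 0 ∈ rowG Q i0 := h.grid.R_row i0 j0 ((h.R00 _).2 ⟨a, rfl⟩)
  have h2 : v 0 b 0 0 ∈ rowG Q i0 := h.grid.R_row i0 j1 ((h.R01 _).2 ⟨b, rfl⟩)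
  have h3 := h.v_add a 0 0 0 0 b 0 0
  simp only [add_zero, zero_add] at h3
  rw [h3]; exact mul_mem h1 h2

theorem v_col (a c : F) : v a 0 c 0 ∈ colG Q j0 := h.transpose.v_row a c

theorem row_V (a b c d : F) : v a b c d ∈ rowG Q i0 ↔ c = 0 ∧ d = 0 := by
  have := h.nonI
  have := h.nonJ
  constructor
  · intro hx
    have hd : d = 0 := (h.V_Q a b c d).1 (h.grid.rowG_le i0 j0 hx)
    subst hd
    refine ⟨?_, rfl⟩
    have h3 := h.v_add a b 0 0 0 0 c 0
    simp only [add_zero, zero_add] at h3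
    have h4 : v 0 0 c 0 ∈ rowG Q i0 := by
      have h5 := mul_mem (inv_mem (h.v_row a b)) hx
      rw [h3, inv_mul_cancel_left] at h5
      exact h5
    have h6 : v 0 0 c 0 ∈ R i0 j0 := by
      rw [← h.grid.inf_eq i0 j0]
      exact mem_inf.2 ⟨h4, h.v_col 0 c⟩
    obtain ⟨a', ha'⟩ := (h.R00 _).1 h6
    exact (h.inj ha').2.2.1
  · rintro ⟨rfl, rfl⟩
    exact h.v_row a b

theorem row_p {x : G} (hx : x ∈ rowG Q i0) : p' x = 0 := by
  have h1 : v 0 1 0 0 ∈ R i0 j1 := (h.R01 _).2 ⟨1, rfl⟩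
  have h2 := h.grid.RQ i0 j1 _ h1 x (h.grid.rowG_le i0 j1 hx)
  have h3 := h.act x (h.grid.rowG_le i0 j0 hx) 0 1 0 0
  rw [← h2, mul_inv_cancel_right] at h3
  have h4 := (h.inj h3).1
  simp only [zero_add, mul_one, mul_zero, add_zero] at h4
  exact h4.symm

/-- the row group `A_{i0}` acts by upper triangular matrices from the left -/
theorem row_act (s : F) : ∃ x ∈ rowG Q i0, ∀ a b c d,
    x * v a b c d * x⁻¹ = v (a + s * c) (b + s * d) c d := by
  obtain ⟨x, hx, h1, h2⟩ := h.p_surj s 0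
  obtain ⟨a, ha, b, hb, rfl⟩ := h.grid.Q_mul hx
  have haQ := h.grid.rowG_le i0 j0 ha
  have hbQ : b ∈ Q i0 j0 := h.grid.transpose.rowG_le j0 i0 hb
  have h3 : p b = 0 := h.transpose.row_p hb
  have h4 : p a = s := by
    rw [← h1, (h.p_mul haQ hbQ).1, h3, add_zero]
  refine ⟨a, ha, fun a' b' c' d' => ?_⟩
  rw [h.act a haQ, h.row_p ha, h4]
  congr 1 <;> ring

/-- the row group `A_{i1}` acts by lower triangular matrices from the left -/
theorem row_act' (s : F) : ∃ x ∈ rowG Q i1, ∀ a b c d,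
    x * v a b c d * x⁻¹ = v a b (c + s * a) (d + s * b) := by
  obtain ⟨x, hx, h1⟩ := h.act' s 0
  have h2 : ∀ a b c d, x * v a b c d * x⁻¹ = v a b (c + s * a) (d + s * b) := by
    intro a b c d
    rw [h1]; congr 1 <;> ring
  have h3 : cj x (R i1 j0) = R i1 j0 := by
    apply cj_eq_of_comm
    intro y hy
    obtain ⟨c, rfl⟩ := (h.R10 _).1 hy
    have h4 := h2 0 0 c 0
    simp only [mul_zero, add_zero] at h4
    calc x * v 0 0 c 0 = x * v 0 0 c 0 * x⁻¹ * x := by group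
      _ = v 0 0 c 0 * x := by rw [h4]
  have h5 := h.grid.fixc_of_one h.hj hx h3
  obtain ⟨f, hf, d, hd, hfd⟩ := h.grid.row_mul (j' := j0) h.hj hx h5
  rw [h.grid.row_eq i1 h.hj.symm] at hf
  rw [mem_inf] at hd
  refine ⟨f, hf, fun a b c e => ?_⟩
  have h6 := h.grid.C_V hd.2 (h.v_mem a b c e)
  rw [← h2, hfd]
  calc f * v a b c e * f⁻¹ = f * (v a b c e * d) * d⁻¹ * f⁻¹ := by group
    _ = f * (d * v a b c e) * d⁻¹ * f⁻¹ := by rw [h6]
    _ = f * d * v a b c e * (f * d)⁻¹ := by group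

/-- `n(y) = [[0, y], [y⁻¹, 0]] × 1` -/
theorem exists_n {y : F} (hy : y ≠ 0) : ∃ n ∈ ⨆ k, rowG Q k, ∀ a b c d,
    n * v a b c d * n⁻¹ = v (y * c) (y * d) (y⁻¹ * a) (y⁻¹ * b) := by
  obtain ⟨x, hx, h1⟩ := h.row_act y
  obtain ⟨z, hz, h2⟩ := h.row_act' y⁻¹
  have hx' : x ∈ ⨆ k, rowG Q k := (le_iSup (rowG Q) i0) hx
  have hz' : z ∈ ⨆ k, rowG Q k := (le_iSup (rowG Q) i1) hz
  refine ⟨x * z * x, mul_mem (mul_mem hx' hz') hx', fun a b c d => ?_⟩
  have e : x * z * x * v a b c d * (x * z * x)⁻¹ = x * (z * (x * v a b c d * x⁻¹) * z⁻¹) * x⁻¹ := by group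
  have k1 : y⁻¹ * y = 1 := inv_mul_cancel₀ hy
  have k2 : y * y⁻¹ = 1 := mul_inv_cancel₀ hy
  have k3 : ∀ t : F, y⁻¹ * (y * t) = t := fun t => by rw [← mul_assoc, k1, one_mul]
  have k4 : ∀ t : F, y * (y⁻¹ * t) = t := fun t => by rw [← mul_assoc, k2, one_mul]
  have e3 : ∀ t u : F, t + y⁻¹ * (u + y * t) = y⁻¹ * u := by
    intro t u
    rw [mul_add, k3]
    linear_combination t * h.two
  rw [e, h1, h2, h1, e3, e3]
  have e4 : ∀ t u : F, u + y * t + y * (y⁻¹ * u) = y * t := by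
    intro t u
    rw [k4]
    linear_combination u * h.two
  rw [e4, e4]

theorem gin : Gin F S V R Q i0 i1 j0 j1 v p p' where
  grid := h.grid
  rc := by
    have := h.nonI
    have := h.nonJ
    exact h.grid.rc
  hi := h.hi
  hj := h.hj
  two := h.two
  four := h.four
  v_add := h.v_add
  v_inj := h.v_inj
  v_mem := h.v_mem
  v_surj := h.v_surj
  R00 := h.R00
  R01 := h.R01
  R10 := h.R10
  R11 := h.R11
  row_V := h.row_V
  col_V a b c d := by
    have h1 := h.transpose.row_V a c b d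
    exact h1
  V_Q := h.V_Q
  act := h.act
  p_surj := h.p_surj
  row_p x hx := h.row_p hx
  col_p x hx := h.transpose.row_p hx
  tor := h.tor
  tor' y hy := by
    obtain ⟨n, hn, h1⟩ := h.exists_n hy
    obtain ⟨m, hm, h2⟩ := h.exists_n (one_ne_zero (α := F))
    refine ⟨n * m, mul_mem hn hm, fun a b c d => ?_⟩
    have e : n * m * v a b c d * (n * m)⁻¹ = n * (m * v a b c d * m⁻¹) * n⁻¹ := by group
    rw [e, h2, h1]
    simp only [inv_one, one_mul]
  wey := by
    obtain ⟨m, hm, h2⟩ := h.transpose.exists_n (one_ne_zero (α := F))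
    refine ⟨m, hm, fun a b c d => ?_⟩
    have h3 := h2 a c b d
    simp only [inv_one, one_mul] at h3
    exact h3
  wey' := by
    obtain ⟨m, hm, h2⟩ := h.exists_n (one_ne_zero (α := F))
    refine ⟨m, hm, fun a b c d => ?_⟩
    rw [h2]
    simp only [inv_one, one_mul]
  swap := by
    have := h.nonI
    have := h.nonJ
    obtain ⟨s, hs, σ, τ, h1⟩ := h.swap
    have hV := cj_of_mem_normalizer (h.S_V hs)
    have hR := cj_of_mem_normalizer (h.S_R hs)
    have h2 := h1 i0 j0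
    rw [hR] at h2
    have h3 := h.grid.inj h2
    refine ⟨s, hs, hV, hR, ?_, ?_⟩
    · rw [h.grid.cj_rowG_swap h1, ← h3.2]
    · have h4 := h.grid.transpose.cj_rowG_swap (σ := τ) (τ := σ) (fun j i => h1 i j) j0
      rw [← h3.1] at h4
      exact h4
  norm g hg hR := by
    have := h.nonI
    have := h.nonJ
    rcases h.norm g hg with ⟨σ, τ, h1⟩ | ⟨σ, τ, h1⟩
    · left
      have h2 := h1 i0 j0
      rw [hR] at h2
      have h3 := h.grid.inj h2
      refine ⟨?_, ?_⟩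
      · rw [h.grid.cj_rowG h1, ← h3.1]
      · have h4 := h.grid.transpose.cj_rowG (σ := τ) (τ := σ) (fun j i => h1 i j) j0
        rw [← h3.2] at h4
        exact h4
    · right
      have h2 := h1 i0 j0
      rw [hR] at h2
      have h3 := h.grid.inj h2
      refine ⟨?_, ?_⟩
      · rw [h.grid.cj_rowG_swap h1, ← h3.2]
      · have h4 := h.grid.transpose.cj_rowG_swap (σ := τ) (τ := σ) (fun j i => h1 i j) j0
        rw [← h3.1] at h4
        exact h4
  actU := h.actU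
  Q_two := h.Q_two
  max := h.max
  char2 := h.char2
  S_V := h.S_V
  S_R := h.S_R

end Gin0

end Cfsg.Agent.Omega.NO1.Gamma
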