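import Cfsg.Agent.Omega.NO1.Gamma.Defs

/-!
# Type (gamma): rows and columns, (I1) of the plan

`Grid.rc : Grid V R Q → RC V R Q`.
-/

set_option autoImplicit false
set_option linter.unusedVariables false
set_option linter.unusedSectionVars false

open Subgroup
open scoped Pointwise

namespace Cfsg.Agent.Omega.NO1.Gamma

open Cfsg.Agent.Omega.NO1.Beta.Meet (cj mem_cj conj_mem_cj cj_mul cj_inj cj_eq_of_comm cj_eq_of_mem
  mem_normalizer_of_cj cj_of_mem_normalizer)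

variable {G : Type*} [Group G] {I J : Type*}

/-- product of two subgroups of an abelian group -/
theorem mem_sup_comm {A B : Subgroup G} (h : ∀ a ∈ A, ∀ b ∈ B, a * b = b * a) {x : G} (hx : x ∈ A ⊔ B) :
    ∃ a ∈ A, ∃ b ∈ B, x = a * b := by
  have hn : A ≤ normalizer (B : Set G) := by
    intro a ha
    apply mem_normalizer_of_cj
    apply cj_eq_of_comm
    intro b hb
    exact h a ha b hb
  have h1 := Subgroup.coe_mul_of_left_le_normalizer_right A B hn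
  rw [← SetLike.mem_coe, h1, Set.mem_mul] at hx
  obtain ⟨a, ha, b, hb, rfl⟩ := hx
  exact ⟨a, ha, b, hb, rfl⟩

theorem cj_one' (H : Subgroup G) : cj 1 H = H := by
  apply cj_eq_of_comm
  intro x _
  rw [one_mul, mul_one]

theorem cj_inv_of {c : G} {H K : Subgroup G} (h : cj c H = K) : cj c⁻¹ K = H := by
  rw [← h, ← cj_mul, inv_mul_cancel, cj_one']

theorem mem_of_cj {c x : G} {H K : Subgroup G} (h : cj c H = K) (hx : x ∈ H) : c * x * c⁻¹ ∈ K := by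
  rw [← h]; exact conj_mem_cj hx

theorem mem_of_cj' {c x : G} {H K : Subgroup G} (h : cj c H = K) (hx : x ∈ K) : c⁻¹ * x * c ∈ H := by
  rw [← h, mem_cj] at hx; exact hx

theorem mem_centralizer' {V : Subgroup G} {x : G} :
    x ∈ centralizer (V : Set G) ↔ ∀ v ∈ V, x * v = v * x := by
  rw [mem_centralizer_iff]
  exact ⟨fun h v hv => (h v hv).symm, fun h v hv => (h v hv).symm⟩

namespace Grid

variable {V : Subgroup G} {R Q : I → J → Subgroup G}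

/-- the transposed grid -/
theorem transpose (g : Grid V R Q) : Grid V (fun j i => R i j) (fun j i => Q i j) where
  comm := g.comm
  V_sq := g.V_sq
  R_le j i := g.R_le i j
  ne j i := g.ne i j
  row j i k := g.col i k j
  col j l i := g.row i j l
  disj j i l k h := (g.disj i j k l h).symm
  QQ j i := g.QQ i j
  Qsq j i := g.Qsq i j
  RQ j i := g.RQ i j
  cen j i := g.cen i j
  Q_V j i := g.Q_V i j
  conj y j i l k h := g.conj y i j k l h
  perm j i y hy := by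
    obtain ⟨σ, τ, h1, h2, h3⟩ := g.perm i j y hy
    exact ⟨τ, σ, h2, h1, fun l k => h3 k l⟩
  fix j i l k hl hk := g.fix i j k l hk hl
  tran j i l k l' k' hl hl' hk hk' := g.tran i j k l k' l' hk hk' hl hl'
  meet j i l k hl hk := g.meet i j k l hk hl
  RQj j i l k hl hk := g.RQj i j k l hk hl
  VE₁ j i k h := g.VE₂ i k j h
  VE₂ j l i h := g.VE₁ i j l h
  VE j i l k h h' := g.VE i j k l h' h
  EE j i l k hl hk := by
    refine (g.EE i j k l hk hl).trans ?_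
    rw [sup_assoc, sup_comm (R i l), ← sup_assoc]
  threeI := g.threeJ
  threeJ := g.threeI
  act₁ j i i' := g.act₂ j i i'
  act₂ i j j' := g.act₁ i j j'
  tor₁ j i := by
    obtain ⟨h, hh, h2⟩ := g.tor₂ i j
    refine ⟨h, ?_, h2⟩
    rw [iSup_comm]; exact hh
  tor₂ j i := by
    obtain ⟨h, hh, h2⟩ := g.tor₁ i j
    refine ⟨h, ?_, h2⟩
    rw [iSup_comm]; exact hh

variable (g : Grid V R Q)
include g

theorem inj {i k : I} {j l : J} (h : R i j = R k l) : i = k ∧ j = l :=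
  g.disj i j k l (by rw [← h, inf_idem]; exact g.ne i j)

theorem R_Q (i : I) (j : J) : R i j ≤ Q i j := g.row i j j

theorem V_le_C : V ≤ centralizer (V : Set G) := fun v hv => mem_centralizer'.2 fun w hw => g.comm v hv w hw

theorem C_V {c v : G} (hc : c ∈ centralizer (V : Set G)) (hv : v ∈ V) : c * v = v * c :=
  mem_centralizer'.1 hc v hv

theorem C_R {c : G} (hc : c ∈ centralizer (V : Set G)) (i : I) (j : J) : cj c (R i j) = R i j :=
  cj_eq_of_comm fun x hx => g.C_V hc (g.R_le i j hx)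

theorem C_Q {c : G} (hc : c ∈ centralizer (V : Set G)) (i : I) (j : J) : cj c (Q i j) = Q i j :=
  g.conj c i j i j (g.C_R hc i j)

theorem conj_V {i : I} {j : J} {y v : G} (hy : y ∈ Q i j) (hv : v ∈ V) : y * v * y⁻¹ ∈ V :=
  (mem_normalizer_iff.mp (g.Q_V i j hy) v).mp hv

theorem conj_C {y c : G} (hy : y ∈ normalizer (V : Set G)) (hc : c ∈ centralizer (V : Set G)) :
    y * c * y⁻¹ ∈ centralizer (V : Set G) := by
  rw [mem_centralizer'] at hc ⊢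
  intro v hv
  have h1 : y⁻¹ * v * y ∈ V := by
    have := (mem_normalizer_iff.mp ((normalizer (V : Set G)).inv_mem hy) v).mp hv
    rwa [inv_inv] at this
  calc y * c * y⁻¹ * v = y * (c * (y⁻¹ * v * y)) * y⁻¹ := by group
    _ = y * ((y⁻¹ * v * y) * c) * y⁻¹ := by rw [hc _ h1]
    _ = v * (y * c * y⁻¹) := by group

/-- `[C(V), Q i j] ≤ C_{Q i j}(V)` -/
theorem comm_CQ {i : I} {j : J} {c y : G} (hc : c ∈ centralizer (V : Set G)) (hy : y ∈ Q i j) :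
    c * y * c⁻¹ * y⁻¹ ∈ Q i j ∧ c * y * c⁻¹ * y⁻¹ ∈ centralizer (V : Set G) := by
  constructor
  · exact mul_mem (mem_of_cj (g.C_Q hc i j) hy) (inv_mem hy)
  · have := g.conj_C (g.Q_V i j hy) (inv_mem hc)
    have h2 := mul_mem hc this
    have e : c * y * c⁻¹ * y⁻¹ = c * (y * c⁻¹ * y⁻¹) := by group
    rw [e]; exact h2

theorem fix_R {i : I} {j : J} {y : G} (hy : y ∈ Q i j) : cj y (R i j) = R i j :=
  cj_eq_of_comm fun x hx => (g.RQ i j x hx y hy).symm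

theorem exists_ne_row (i : I) : ∃ k, k ≠ i := by
  obtain ⟨m, h, -⟩ := g.threeI i i; exact ⟨m, h⟩

theorem exists_ne_col (j : J) : ∃ l, l ≠ j := by
  obtain ⟨m, h, -⟩ := g.threeJ j j; exact ⟨m, h⟩

/-- an element of `Q i j` which fixes one more column fixes all columns -/
theorem fixc_of_one {i : I} {j l : J} (hl : l ≠ j) {y : G} (hy : y ∈ Q i j) (h : cj y (R i l) = R i l)
    (m : J) : cj y (R i m) = R i m := by
  by_cases hm : m = j
  · rw [hm]; exact g.fix_R hy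
  obtain ⟨k, hk⟩ := g.exists_ne_row i
  obtain ⟨z, hz, hzR⟩ := g.tran i j k l k m hk hk hl hm
  obtain ⟨σ, τ, h1, h2, h3⟩ := g.perm i j z hz
  have h4 : cj z (R i l) = R i m := by
    have h5 := h3 k l
    rw [hzR] at h5
    rw [h3 i l, h1, (g.inj h5).2]
  have h6 : cj (y * z * y⁻¹ * z⁻¹) (R i m) = R i m := by
    apply g.C_R
    exact g.V_le_C (g.R_le i j (g.QQ i j y hy z hz))
  have h7 : y * z = (y * z * y⁻¹ * z⁻¹) * (z * y) := by group
  calc cj y (R i m) = cj y (cj z (R i l)) := by rw [h4]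
    _ = cj (y * z) (R i l) := (cj_mul _ _ _).symm
    _ = cj ((y * z * y⁻¹ * z⁻¹) * (z * y)) (R i l) := by rw [← h7]
    _ = cj (y * z * y⁻¹ * z⁻¹) (cj z (cj y (R i l))) := by rw [cj_mul, cj_mul z y]
    _ = R i m := by rw [h, h4, h6]

/-- an element of `Q i j` fixing the columns -/
theorem fixc {i : I} {j : J} {y : G} (hy : y ∈ Q i j) (h : ∀ l, cj y (R i l) = R i l) :
    ∃ σ : I → I, σ i = i ∧ ∀ k l, cj y (R k l) = R (σ k) l := by
  obtain ⟨σ, τ, h1, h2, h3⟩ := g.perm i j y hy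
  refine ⟨σ, h1, fun k l => ?_⟩
  rw [h3 k l]
  have h4 := h3 i l
  rw [h l, h1] at h4
  rw [← (g.inj h4).2]

/-- `Q i j = Q' Q''` -/
theorem split {i : I} {j : J} {x : G} (hx : x ∈ Q i j) :
    ∃ x' ∈ Q i j, (∀ l, cj x' (R i l) = R i l) ∧ ∀ k, cj (x'⁻¹ * x) (R k j) = R k j := by
  obtain ⟨k, hk⟩ := g.exists_ne_row i
  obtain ⟨l, hl⟩ := g.exists_ne_col j
  obtain ⟨σ, τ, h1, h2, h3⟩ := g.perm i j x hx
  have hσ : σ k ≠ i := by
    intro h
    have h4 : cj x (R k j) = cj x (R i j) := by rw [h3, h3, h, h1]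
    exact hk (g.inj (cj_inj h4)).1
  obtain ⟨x', hx', hR⟩ := g.tran i j k l (σ k) l hk hσ hl hl
  obtain ⟨σ', τ', h1', h2', h3'⟩ := g.perm i j x' hx'
  have h5 := h3' k l
  rw [hR] at h5
  have h6 : ∀ m, cj x' (R i m) = R i m := by
    apply g.fixc_of_one hl hx'
    rw [h3', h1', ← (g.inj h5).2]
  refine ⟨x', hx', h6, ?_⟩
  have h7 : cj (x'⁻¹ * x) (R k j) = R k j := by
    rw [cj_mul, h3, h2]
    apply cj_inv_of
    rw [h3', h2', (g.inj h5).1]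
  intro m
  exact g.transpose.fixc_of_one (i := j) (j := i) hk ((Q i j).mul_mem ((Q i j).inv_mem hx') hx) h7 m

/-- two opposite points -/
theorem comm_DD {i k : I} {j l : J} (hk : k ≠ i) (hl : l ≠ j) {a b : G} (ha : a ∈ Q i j)
    (haC : a ∈ centralizer (V : Set G)) (hb : b ∈ Q k l) (hbC : b ∈ centralizer (V : Set G)) :
    a * b * a⁻¹ * b⁻¹ ∈ V := by
  apply g.meet i j k l hk hl
  refine mem_inf.2 ⟨?_, (g.comm_CQ haC hb).1⟩
  have h1 := (g.comm_CQ hbC ha).1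
  have e : a * b * a⁻¹ * b⁻¹ = (b * a * b⁻¹ * a⁻¹)⁻¹ := by group
  rw [e]; exact inv_mem h1

/-- the subgroup `V C_{Q i j}(V) C_{Q k l}(V)` for opposite points -/
def W {i k : I} {j l : J} (hk : k ≠ i) (hl : l ≠ j) : Subgroup G where
  carrier := {x | ∃ v ∈ V, ∃ a ∈ Q i j ⊓ centralizer (V : Set G), ∃ b ∈ Q k l ⊓ centralizer (V : Set G),
    x = v * a * b}
  one_mem' := ⟨1, one_mem _, 1, one_mem _, 1, one_mem _, by group⟩
  mul_mem' := by
    rintro _ _ ⟨v, hv, a, ha, b, hb, rfl⟩ ⟨v', hv', a', ha', b', hb', rfl⟩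
    have h1 := g.comm_DD hk hl (inv_mem ha'.1) (inv_mem ha'.2) (inv_mem hb.1) (inv_mem hb.2)
    have h1' : a'⁻¹ * b⁻¹ * a' * b ∈ V := by simpa using h1
    have h1'' := inv_mem h1'
    -- w = b⁻¹ a'⁻¹ b a'
    set w := (a'⁻¹ * b⁻¹ * a' * b)⁻¹ with hw
    refine ⟨v * v' * w, mul_mem (mul_mem hv hv') h1'', a * a', mul_mem ha ha', b * b', mul_mem hb hb', ?_⟩
    have c1 : b * v' = v' * b := g.C_V hb.2 hv'
    have c2 : a * v' = v' * a := g.C_V ha.2 hv'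
    have c3 : (a * a' * b) * w = w * (a * a' * b) := g.C_V (mul_mem (mul_mem ha.2 ha'.2) hb.2) h1''
    have e1 : b * a' = a' * b * w := by rw [hw]; group
    calc v * a * b * (v' * a' * b') = v * a * (b * v') * a' * b' := by group
      _ = v * (a * v') * (b * a') * b' := by rw [c1]; group
      _ = v * v' * (a * a' * b * w) * b' := by rw [c2, e1]; group
      _ = v * v' * w * (a * a') * (b * b') := by rw [c3]; group
  inv_mem' := by
    rintro _ ⟨v, hv, a, ha, b, hb, rfl⟩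
    have h1 := g.comm_DD hk hl ha.1 ha.2 hb.1 hb.2
    set w := a * b * a⁻¹ * b⁻¹ with hw
    have hba : b⁻¹ * a⁻¹ ∈ centralizer (V : Set G) :=
      mul_mem ((centralizer (V : Set G)).inv_mem hb.2) ((centralizer (V : Set G)).inv_mem ha.2)
    refine ⟨v⁻¹ * w⁻¹, mul_mem (V.inv_mem hv) (V.inv_mem h1), a⁻¹, inv_mem ha, b⁻¹, inv_mem hb, ?_⟩
    have c1 : (b⁻¹ * a⁻¹) * v⁻¹ = v⁻¹ * (b⁻¹ * a⁻¹) := g.C_V hba (V.inv_mem hv)
    have e1 : a⁻¹ * b⁻¹ = b⁻¹ * a⁻¹ * w := by rw [hw]; group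
    have c2 : (b⁻¹ * a⁻¹) * w = w * (b⁻¹ * a⁻¹) := g.C_V hba h1
    calc (v * a * b)⁻¹ = (b⁻¹ * a⁻¹) * v⁻¹ := by group
      _ = v⁻¹ * (b⁻¹ * a⁻¹) := c1
      _ = v⁻¹ * (w⁻¹ * (w * (b⁻¹ * a⁻¹))) := by group
      _ = v⁻¹ * (w⁻¹ * (a⁻¹ * b⁻¹)) := by rw [← c2, ← e1]
      _ = _ := by group

theorem mem_W {i k : I} {j l : J} {hk : k ≠ i} {hl : l ≠ j} {x : G} : x ∈ g.W hk hl ↔
    ∃ v ∈ V, ∃ a ∈ Q i j ⊓ centralizer (V : Set G), ∃ b ∈ Q k l ⊓ centralizer (V : Set G), x = v * a * b :=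
  Iff.rfl

theorem V_le_W {i k : I} {j l : J} (hk : k ≠ i) (hl : l ≠ j) : V ≤ g.W hk hl := fun v hv =>
  ⟨v, hv, 1, one_mem _, 1, one_mem _, by group⟩

theorem D_le_W {i k : I} {j l : J} (hk : k ≠ i) (hl : l ≠ j) :
    Q i j ⊓ centralizer (V : Set G) ≤ g.W hk hl := fun a ha =>
  ⟨1, one_mem _, a, ha, 1, one_mem _, by group⟩

theorem D_le_W' {i k : I} {j l : J} (hk : k ≠ i) (hl : l ≠ j) :
    Q k l ⊓ centralizer (V : Set G) ≤ g.W hk hl := fun b hb =>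
  ⟨1, one_mem _, 1, one_mem _, b, hb, by group⟩

theorem W_le {i k : I} {j l : J} (hk : k ≠ i) (hl : l ≠ j) {X : Subgroup G} (hV : V ≤ X)
    (h1 : Q i j ⊓ centralizer (V : Set G) ≤ X) (h2 : Q k l ⊓ centralizer (V : Set G) ≤ X) :
    g.W hk hl ≤ X := by
  rintro _ ⟨v, hv, a, ha, b, hb, rfl⟩
  exact mul_mem (mul_mem (hV hv) (h1 ha)) (h2 hb)

theorem W_symm {i k : I} {j l : J} (hk : k ≠ i) (hl : l ≠ j) : g.W hk hl = g.W hk.symm hl.symm :=
  le_antisymm (g.W_le hk hl (g.V_le_W _ _) (g.D_le_W' _ _) (g.D_le_W _ _))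
    (g.W_le hk.symm hl.symm (g.V_le_W _ _) (g.D_le_W' _ _) (g.D_le_W _ _))

theorem W_le_W {i k m : I} {j l n : J} (hk : k ≠ i) (hl : l ≠ j) (hm : m ≠ i) (hn : n ≠ j) :
    g.W hm hn ≤ g.W hk hl := by
  apply g.W_le hm hn (g.V_le_W _ _) (g.D_le_W _ _)
  intro d hd
  obtain ⟨y, hy, hR⟩ := g.tran i j k l m n hk hm hl hn
  have hQ := g.conj y _ _ _ _ hR
  have h1 : y⁻¹ * d * y ∈ Q k l := mem_of_cj' hQ hd.1
  have h2 : y⁻¹ * d * y ∈ centralizer (V : Set G) := by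
    have := g.conj_C (inv_mem (g.Q_V i j hy)) hd.2
    rwa [inv_inv] at this
  have h3 := g.comm_CQ (inv_mem h2) hy
  refine ⟨1, one_mem _, d * (y⁻¹ * d * y)⁻¹, mem_inf.2 ⟨?_, ?_⟩, y⁻¹ * d * y, mem_inf.2 ⟨h1, h2⟩, by group⟩
  · have h5 := g.comm_CQ h2 hy
    have e : d * (y⁻¹ * d * y)⁻¹ = ((y⁻¹ * d * y) * y * (y⁻¹ * d * y)⁻¹ * y⁻¹)⁻¹ := by group
    rw [e]; exact inv_mem h5.1
  · exact mul_mem hd.2 (inv_mem h2)

theorem W_eq_W {i k m : I} {j l n : J} (hk : k ≠ i) (hl : l ≠ j) (hm : m ≠ i) (hn : n ≠ j) :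
    g.W hm hn = g.W hk hl := le_antisymm (g.W_le_W _ _ _ _) (g.W_le_W _ _ _ _)

/-- all `C_{Q m n}(V)` are in `W` -/
theorem D_le {i k : I} {j l : J} (hk : k ≠ i) (hl : l ≠ j) (m : I) (n : J) :
    Q m n ⊓ centralizer (V : Set G) ≤ g.W hk hl := by
  -- opposite to the first point
  have case1 : ∀ {i k : I} {j l : J} (hk : k ≠ i) (hl : l ≠ j), m ≠ i → n ≠ j →
      Q m n ⊓ centralizer (V : Set G) ≤ g.W hk hl := fun hk hl hm hn =>
    (g.D_le_W' hm hn).trans (g.W_le_W _ _ _ _)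
  by_cases h1 : m ≠ i ∧ n ≠ j
  · exact case1 hk hl h1.1 h1.2
  by_cases h2 : m ≠ k ∧ n ≠ l
  · rw [g.W_symm]
    exact case1 hk.symm hl.symm h2.1 h2.2
  -- a point opposite to everything
  obtain ⟨a, ha1, ha2⟩ := g.threeI i k
  obtain ⟨b, hb1, hb2⟩ := g.threeJ j l
  have hm : m = i ∨ m = k := by
    by_contra hcon
    push Not at hcon
    apply h1
    refine ⟨hcon.1, fun hn => ?_⟩
    exact h2 ⟨hcon.2, fun h => hl (h.symm.trans hn)⟩
  have hn : n = j ∨ n = l := by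
    by_contra hcon
    push Not at hcon
    apply h1
    refine ⟨fun hm => ?_, hcon.1⟩
    exact h2 ⟨fun h => hk (h.symm.trans hm), hcon.2⟩
  have hma : m ≠ a := by rcases hm with rfl | rfl <;> [exact ha1.symm; exact ha2.symm]
  have hnb : n ≠ b := by rcases hn with rfl | rfl <;> [exact hb1.symm; exact hb2.symm]
  have h3 : g.W ha1 hb1 ≤ g.W hk hl := g.W_le_W _ _ _ _
  refine le_trans ?_ h3
  rw [g.W_symm]
  exact case1 ha1.symm hb1.symm hma hnb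

/-- `L = V ∏ C_{Q m n}(V)` -/
theorem W_const {i k m p : I} {j l n q : J} (hk : k ≠ i) (hl : l ≠ j) (hp : p ≠ m) (hq : q ≠ n) :
    g.W hk hl = g.W hp hq :=
  le_antisymm (g.W_le _ _ (g.V_le_W _ _) (g.D_le _ _ _ _) (g.D_le _ _ _ _))
    (g.W_le _ _ (g.V_le_W _ _) (g.D_le _ _ _ _) (g.D_le _ _ _ _))

theorem W_C {i k : I} {j l : J} (hk : k ≠ i) (hl : l ≠ j) : g.W hk hl ≤ centralizer (V : Set G) :=
  g.W_le _ _ g.V_le_C inf_le_right inf_le_right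

/-- `L/V` is abelian -/
theorem W_comm {i k : I} {j l : J} (hk : k ≠ i) (hl : l ≠ j) {x y : G} (hx : x ∈ g.W hk hl)
    (hy : y ∈ g.W hk hl) : x * y * x⁻¹ * y⁻¹ ∈ V := by
  -- bilinearity
  have mulL : ∀ {a b y : G}, a ∈ centralizer (V : Set G) → a * y * a⁻¹ * y⁻¹ ∈ V → b * y * b⁻¹ * y⁻¹ ∈ V →
      (a * b) * y * (a * b)⁻¹ * y⁻¹ ∈ V := by
    intro a b y ha h1 h2
    have e : (a * b) * y * (a * b)⁻¹ * y⁻¹ = (a * (b * y * b⁻¹ * y⁻¹)) * a⁻¹ * (a * y * a⁻¹ * y⁻¹) := by group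
    rw [e, g.C_V ha h2]
    have e2 : b * y * b⁻¹ * y⁻¹ * a * a⁻¹ = b * y * b⁻¹ * y⁻¹ := by group
    rw [e2]
    exact mul_mem h2 h1
  have symm : ∀ {a b : G}, a * b * a⁻¹ * b⁻¹ ∈ V → b * a * b⁻¹ * a⁻¹ ∈ V := by
    intro a b h
    have e : b * a * b⁻¹ * a⁻¹ = (a * b * a⁻¹ * b⁻¹)⁻¹ := by group
    rw [e]; exact inv_mem h
  have key : ∀ {x : G}, x ∈ g.W hk hl → ∀ {y : G}, y ∈ centralizer (V : Set G) →
      (∀ a ∈ Q i j ⊓ centralizer (V : Set G), a * y * a⁻¹ * y⁻¹ ∈ V) →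
      (∀ b ∈ Q k l ⊓ centralizer (V : Set G), b * y * b⁻¹ * y⁻¹ ∈ V) → x * y * x⁻¹ * y⁻¹ ∈ V := by
    rintro _ ⟨v, hv, a, ha, b, hb, rfl⟩ y hyC h1 h2
    have hvy : v * y * v⁻¹ * y⁻¹ ∈ V := by
      rw [← g.C_V hyC hv]
      have e : y * v * v⁻¹ * y⁻¹ = 1 := by group
      rw [e]; exact one_mem _
    exact mulL (mul_mem (g.V_le_C hv) ha.2) (mulL (g.V_le_C hv) hvy (h1 a ha)) (h2 b hb)
  have hself : ∀ {m : I} {n : J} {a a' : G}, a ∈ Q m n → a' ∈ Q m n → a * a' * a⁻¹ * a'⁻¹ ∈ V :=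
    fun ha ha' => g.R_le _ _ (g.QQ _ _ _ ha _ ha')
  apply key hx (g.W_C _ _ hy)
  · intro a ha
    apply symm
    apply key hy ha.2
    · intro a' ha'
      exact hself ha'.1 ha.1
    · intro b' hb'
      exact symm (g.comm_DD hk hl ha.1 ha.2 hb'.1 hb'.2)
  · intro b hb
    apply symm
    apply key hy hb.2
    · intro a' ha'
      exact g.comm_DD hk hl ha'.1 ha'.2 hb.1 hb.2
    · intro b' hb'
      exact hself hb'.1 hb.1

theorem VE_mul {i k : I} {j l : J} (h : V ≤ (V ⊓ Q i j) ⊔ (V ⊓ Q k l)) {v : G} (hv : v ∈ V) :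
    ∃ e ∈ V ⊓ Q i j, ∃ f ∈ V ⊓ Q k l, v = e * f :=
  mem_sup_comm (fun a ha b hb => g.comm a (mem_inf.1 ha).1 b (mem_inf.1 hb).1) (h hv)

/-- `C_{Q i j}(V) V ∩ C_{Q k l}(V) V = V` for opposite points -/
theorem DD_V {i k : I} {j l : J} (hk : k ≠ i) (hl : l ≠ j) {a b : G} (ha : a ∈ Q i j)
    (haC : a ∈ centralizer (V : Set G)) (hb : b ∈ Q k l)
    (hab : a * b ∈ V) : a ∈ V ∧ b ∈ V := by
  obtain ⟨e, he, f, hf, hef⟩ := g.VE_mul (g.VE i j k l hk.symm hl.symm) hab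
  have h1 : a * b = f * e := by rw [hef, g.comm e he.1 f hf.1]
  have h2 : f⁻¹ * a = e * b⁻¹ := by
    calc f⁻¹ * a = f⁻¹ * (a * b) * b⁻¹ := by group
      _ = e * b⁻¹ := by rw [h1]; group
  have h3 : e⁻¹ * a ∈ V := by
    apply g.meet i j k l hk hl
    refine ⟨(Q i j).mul_mem ((Q i j).inv_mem he.2) ha, ?_⟩
    have h4 : e⁻¹ * a = f * b⁻¹ := by
      calc e⁻¹ * a = e⁻¹ * (a * b) * b⁻¹ := by group
        _ = f * b⁻¹ := by rw [hef]; group
    rw [h4]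
    exact (Q k l).mul_mem hf.2 ((Q k l).inv_mem hb)
  have h5 : a ∈ V := by
    have := mul_mem he.1 h3
    rwa [mul_inv_cancel_left] at this
  refine ⟨h5, ?_⟩
  have := V.mul_mem (V.inv_mem h5) hab
  rwa [inv_mul_cancel_left] at this

end Grid

end Cfsg.Agent.Omega.NO1.Gamma
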