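import Cfsg.Agent.Omega.NO1.Gamma.Grid

/-!
# Type (gamma): `Grid.rc : Grid V R Q → RC V R Q`
-/

set_option autoImplicit false
set_option linter.unusedVariables false
set_option linter.unusedSectionVars false

open Subgroup
open scoped Pointwise

namespace Cfsg.Agent.Omega.NO1.Gamma

open Cfsg.Agent.Omega.NO1.Beta.Meet (cj mem_cj conj_mem_cj cj_mul cj_inj cj_eq_of_comm cj_eq_of_mem
  mem_normalizer_of_cj cj_of_mem_normalizer)

variable {G : Type*} [Group G] {I J : Type*}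

namespace Grid

variable {V : Subgroup G} {R Q : I → J → Subgroup G} (g : Grid V R Q)
include g

/-- `[X, C(V)] ≤ L` -/
theorem X_act {i k : I} {j l : J} (hk : k ≠ i) (hl : l ≠ j) {h : G} (hh : h ∈ ⨆ k, ⨆ l, Q k l) :
    h ∈ normalizer (V : Set G) ∧ ∀ c ∈ centralizer (V : Set G), h * c * h⁻¹ * c⁻¹ ∈ g.W hk hl := by
  have hmul : ∀ {x y : G}, (∀ c ∈ centralizer (V : Set G), x * c * x⁻¹ * c⁻¹ ∈ g.W hk hl) →
      (∀ c ∈ centralizer (V : Set G), y * c * y⁻¹ * c⁻¹ ∈ g.W hk hl) →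
      ∀ c ∈ centralizer (V : Set G), x * y * c * (x * y)⁻¹ * c⁻¹ ∈ g.W hk hl := by
    intro x y hx hy c hc
    have h1 := hy c hc
    have h2 := hx _ (g.W_C hk hl h1)
    have e : x * y * c * (x * y)⁻¹ * c⁻¹ =
        (x * (y * c * y⁻¹ * c⁻¹) * x⁻¹ * (y * c * y⁻¹ * c⁻¹)⁻¹) * (y * c * y⁻¹ * c⁻¹) *
          (x * c * x⁻¹ * c⁻¹) := by group
    rw [e]
    exact mul_mem (mul_mem h2 h1) (hx c hc)
  have hP : ∀ h ∈ ⨆ k, ⨆ l, Q k l, h ∈ normalizer (V : Set G) ∧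
      (∀ c ∈ centralizer (V : Set G), h * c * h⁻¹ * c⁻¹ ∈ g.W hk hl) ∧
      (∀ c ∈ centralizer (V : Set G), h⁻¹ * c * h⁻¹⁻¹ * c⁻¹ ∈ g.W hk hl) := by
    intro h hh
    have hQ : ∀ i j, ∀ y ∈ Q i j, ∀ c ∈ centralizer (V : Set G), y * c * y⁻¹ * c⁻¹ ∈ g.W hk hl := by
      intro i j y hy c hc
      have h1 := g.comm_CQ hc hy
      have e : y * c * y⁻¹ * c⁻¹ = (c * y * c⁻¹ * y⁻¹)⁻¹ := by group
      rw [e]
      exact inv_mem (g.D_le hk hl i j (mem_inf.2 h1))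
    have hone : ∀ c ∈ centralizer (V : Set G), (1 : G) * c * 1⁻¹ * c⁻¹ ∈ g.W hk hl := by
      intro c _
      have e : (1 : G) * c * 1⁻¹ * c⁻¹ = 1 := by group
      rw [e]; exact one_mem _
    refine iSup_induction (S := fun k => ⨆ l, Q k l) (C := fun h => h ∈ normalizer (V : Set G) ∧
      (∀ c ∈ centralizer (V : Set G), h * c * h⁻¹ * c⁻¹ ∈ g.W hk hl) ∧
      (∀ c ∈ centralizer (V : Set G), h⁻¹ * c * h⁻¹⁻¹ * c⁻¹ ∈ g.W hk hl)) hh ?_ ?_ ?_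
    · intro i x hx
      refine iSup_induction (S := fun l => Q i l) (C := fun h => h ∈ normalizer (V : Set G) ∧
        (∀ c ∈ centralizer (V : Set G), h * c * h⁻¹ * c⁻¹ ∈ g.W hk hl) ∧
        (∀ c ∈ centralizer (V : Set G), h⁻¹ * c * h⁻¹⁻¹ * c⁻¹ ∈ g.W hk hl)) hx ?_ ?_ ?_
      · intro j y hy
        exact ⟨g.Q_V i j hy, hQ i j y hy, hQ i j _ (inv_mem hy)⟩
      · refine ⟨one_mem _, hone, ?_⟩
        rw [inv_one]; exact hone
      · rintro x y ⟨h1, h2, h3⟩ ⟨h1', h2', h3'⟩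
        refine ⟨mul_mem h1 h1', hmul h2 h2', ?_⟩
        rw [mul_inv_rev]
        exact hmul h3' h3
    · refine ⟨one_mem _, hone, ?_⟩
      rw [inv_one]; exact hone
    · rintro x y ⟨h1, h2, h3⟩ ⟨h1', h2', h3'⟩
      refine ⟨mul_mem h1 h1', hmul h2 h2', ?_⟩
      rw [mul_inv_rev]
      exact hmul h3' h3
  exact ⟨(hP h hh).1, (hP h hh).2.1⟩

/-- (a) `Q'_{ij} L = Q'_{ij'} L` -/
theorem rowL {i k m : I} {j l j' : J} (hk : k ≠ m) (hl : l ≠ j') {n : J} {x : G} (hx : x ∈ Q i j)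
    (hc : ∀ l, cj x (R i l) = R i l) : ∃ y ∈ Q i n, (∀ l, cj y (R i l) = R i l) ∧ ∃ w ∈ g.W hk hl,
      x = y * w := by
  obtain ⟨h, hh, hfix, hsur⟩ := g.tor₁ i j
  obtain ⟨z, hz, hzc, hzC⟩ := hsur x hx hc
  obtain ⟨w, hw, hwc, hwC⟩ := g.act₁ i j n z hz hzc
  obtain ⟨hV, hXL⟩ := g.X_act hk hl hh
  have hQn : cj h (Q i n) = Q i n := g.conj h i n i n (hfix n)
  have hQj : cj h (Q i j) = Q i j := g.conj h i j i j (hfix j)
  set c := w⁻¹ * z with hcdef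
  have hz' : z = w * c := by rw [hcdef]; group
  have h1 := hXL c hwC
  -- `y = [h, w]`
  have hyQ : h * w * h⁻¹ * w⁻¹ ∈ Q i n := mul_mem (mem_of_cj hQn hw) (inv_mem hw)
  have h2 : w * (h * c * h⁻¹ * c⁻¹) * w⁻¹ ∈ g.W hk hl := by
    have hwX : w ∈ ⨆ k, ⨆ l, Q k l :=
      (le_iSup_of_le (f := fun k => ⨆ l, Q k l) i (le_iSup (fun l => Q i l) n) : Q i n ≤ _) hw
    have h3 := (g.X_act hk hl hwX).2 _ (g.W_C hk hl h1)
    have := mul_mem h3 h1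
    have e : w * (h * c * h⁻¹ * c⁻¹) * w⁻¹ * (h * c * h⁻¹ * c⁻¹)⁻¹ * (h * c * h⁻¹ * c⁻¹) =
      w * (h * c * h⁻¹ * c⁻¹) * w⁻¹ := by group
    rwa [e] at this
  have h4 : h * z * h⁻¹ * z⁻¹ = (h * w * h⁻¹ * w⁻¹) * (w * (h * c * h⁻¹ * c⁻¹) * w⁻¹) := by
    rw [hz']; group
  have h5 : h * z * h⁻¹ * z⁻¹ ∈ Q i j := mul_mem (mem_of_cj hQj hz) (inv_mem hz)
  have h6 : x⁻¹ * (h * z * h⁻¹ * z⁻¹) ∈ g.W hk hl :=
    g.D_le hk hl i j (mem_inf.2 ⟨mul_mem (inv_mem hx) h5, hzC⟩)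
  refine ⟨h * w * h⁻¹ * w⁻¹, hyQ, fun l => ?_, (w * (h * c * h⁻¹ * c⁻¹) * w⁻¹) *
    (x⁻¹ * (h * z * h⁻¹ * z⁻¹))⁻¹, mul_mem h2 (inv_mem h6), ?_⟩
  · rw [cj_mul, cj_mul, cj_mul, cj_inv_of (hwc l), cj_inv_of (hfix l), hwc l, hfix l]
  · rw [← mul_assoc, ← h4]; group

/-- (b) `[L, Q'_{ij}] ≤ C_{Q_{ij} ⊓ Q_{ij'}}(V) (V ⊓ Q_{ij})` -/
theorem comm_row {i k m : I} {j l n : J} (hk : k ≠ m) (hl : l ≠ n) {j' : J} (hj : j ≠ j') {x w : G}
    (hx : x ∈ Q i j) (hc : ∀ l, cj x (R i l) = R i l) (hw : w ∈ g.W hk hl) :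
    ∃ a ∈ Q i j ⊓ Q i j' ⊓ centralizer (V : Set G), ∃ e ∈ V ⊓ Q i j, w * x * w⁻¹ * x⁻¹ = a * e := by
  obtain ⟨y, hy, hyc, u, hu, rfl⟩ := g.rowL hk hl (n := j') hx hc
  have hwC := g.W_C hk hl hw
  have hd := g.comm_CQ hwC hx
  set d := w * (y * u) * w⁻¹ * (y * u)⁻¹ with hddef
  have hd' := g.comm_CQ hwC hy
  -- `d = v' d'`
  have hv1 := g.W_comm hk hl hw hu
  have hv2 : y * (w * u * w⁻¹ * u⁻¹) * y⁻¹ ∈ V := g.conj_V hy hv1
  have hd1 : d = (w * y * w⁻¹ * y⁻¹) * (y * (w * u * w⁻¹ * u⁻¹) * y⁻¹) := by rw [hddef]; group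
  obtain ⟨e, he, f, hf, hef⟩ := g.VE_mul (g.VE₁ i j j' hj) hv2
  refine ⟨d * e⁻¹, ?_, e, he, by group⟩
  rw [mem_inf, mem_inf]
  refine ⟨⟨mul_mem hd.1 (inv_mem (mem_inf.1 he).2), ?_⟩, mul_mem hd.2 (inv_mem (g.V_le_C (mem_inf.1 he).1))⟩
  have h1 : d * e⁻¹ = (w * y * w⁻¹ * y⁻¹) * f := by
    rw [hd1, hef, g.comm e (mem_inf.1 he).1 f (mem_inf.1 hf).1]; group
  rw [h1]
  exact mul_mem hd'.1 (mem_inf.1 hf).2

/-- `C_{Q_{ij}}(V)` is the product of its row part, its column part and `V ⊓ Q_{ij}` -/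
theorem D_mul {i k : I} {j l : J} (hk : k ≠ i) (hl : l ≠ j) {d : G} (hd : d ∈ Q i j)
    (hdC : d ∈ centralizer (V : Set G)) :
    ∃ a ∈ Q i j ⊓ Q i l ⊓ centralizer (V : Set G), ∃ b ∈ Q i j ⊓ Q k j ⊓ centralizer (V : Set G),
      ∃ e ∈ V ⊓ Q i j, d = a * b * e := by
  obtain ⟨k2, h1, h2⟩ := g.threeI i k
  obtain ⟨l2, h3, h4⟩ := g.threeJ j l
  obtain ⟨x, hx, hxR⟩ := g.tran i j k l k2 l2 hk h1 hl h3
  have hxQ := g.conj x _ _ _ _ hxR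
  have h5 := g.D_le h2 h4 i j (mem_inf.2 ⟨hd, hdC⟩)
  obtain ⟨v, hv, b₁, hb₁, b₂, hb₂, hdec⟩ := g.mem_W.1 h5
  rw [mem_inf] at hb₁ hb₂
  set b₃ := x⁻¹ * b₂ * x with hb₃def
  have hb₃ : b₃ ∈ Q k l := mem_of_cj' hxQ hb₂.1
  have hb₃C : b₃ ∈ centralizer (V : Set G) := by
    have := g.conj_C ((normalizer (V : Set G)).inv_mem (g.Q_V i j hx)) hb₂.2
    rwa [inv_inv] at this
  have hb₂' : b₂ = x * b₃ * x⁻¹ := by rw [hb₃def]; group
  -- `c = [b₃⁻¹, x]`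
  have hc := g.comm_CQ ((centralizer (V : Set G)).inv_mem hb₃C) hx
  set c := b₃⁻¹ * x * b₃⁻¹⁻¹ * x⁻¹ with hcdef
  have h6 : (b₁ * b₃) * c = b₁ * b₂ := by rw [hcdef, hb₂']; group
  have h7 : d * c⁻¹ * (b₁ * b₃)⁻¹ ∈ V := by
    have e : d * c⁻¹ * (b₁ * b₃)⁻¹ = v * ((b₁ * b₃) * c * c⁻¹ * (b₁ * b₃)⁻¹) := by
      rw [hdec, h6]; group
    rw [e]
    have e2 : (b₁ * b₃) * c * c⁻¹ * (b₁ * b₃)⁻¹ = 1 := by group
    rw [e2, mul_one]; exact hv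
  have h8 := g.DD_V hk hl (mul_mem hd (inv_mem hc.1)) (mul_mem hdC (inv_mem hc.2))
    (inv_mem (mul_mem hb₁.1 hb₃)) h7
  -- `d = e c`
  have he : d * c⁻¹ ∈ V ⊓ Q i j := mem_inf.2 ⟨h8.1, mul_mem hd (inv_mem hc.1)⟩
  -- split `x`
  obtain ⟨x', hx', hx'c, hx''⟩ := g.split hx
  have hx''Q : x'⁻¹ * x ∈ Q i j := mul_mem (inv_mem hx') hx
  have hwb : b₃⁻¹ ∈ g.W hk hl := inv_mem (g.D_le_W' hk hl (mem_inf.2 ⟨hb₃, hb₃C⟩))
  obtain ⟨a, ha, e₁, he₁, hae⟩ := g.comm_row hk hl hl.symm hx' hx'c hwb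
  have hwb' : b₃⁻¹ ∈ g.transpose.W hl hk := by
    obtain ⟨v, hv, a, ha, b, hb, h⟩ := hwb
    exact ⟨v, hv, a, ha, b, hb, h⟩
  obtain ⟨b, hb, e₂, he₂, hbe⟩ := g.transpose.comm_row hl hk hk.symm hx''Q hx'' hwb'
  rw [mem_inf, mem_inf] at ha hb
  rw [mem_inf] at he₁ he₂
  -- `c = [b₃⁻¹, x'] x' [b₃⁻¹, x''] x'⁻¹`
  have h9 : c = (b₃⁻¹ * x' * b₃⁻¹⁻¹ * x'⁻¹) * (x' * (b₃⁻¹ * (x'⁻¹ * x) * b₃⁻¹⁻¹ * (x'⁻¹ * x)⁻¹) * x'⁻¹) := by
    rw [hcdef]; group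
  have h10 := g.QQ i j x' hx' (b * e₂) (mul_mem hb.1.1 he₂.2)
  have h10V := g.R_le i j h10
  set r := x' * (b * e₂) * x'⁻¹ * (b * e₂)⁻¹ with hrdef
  have h11 : c = a * e₁ * r * b * e₂ := by
    rw [h9, hae, hbe, hrdef]; group
  have h12 : d = (d * c⁻¹) * (a * e₁ * r * b * e₂) := by rw [← h11]; group
  have hrQ : r ∈ Q i j := g.R_Q i j h10
  refine ⟨a, mem_inf.2 ⟨mem_inf.2 ha.1, ha.2⟩, b, mem_inf.2 ⟨mem_inf.2 hb.1, hb.2⟩,
    (d * c⁻¹) * (e₁ * r) * e₂, mem_inf.2 ⟨mul_mem (mul_mem h8.1 (mul_mem he₁.1 h10V)) he₂.1,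
      mul_mem (mul_mem (mem_inf.1 he).2 (mul_mem he₁.2 hrQ)) he₂.2⟩, ?_⟩
  have c1 : a * (d * c⁻¹) = (d * c⁻¹) * a := g.C_V ha.2 h8.1
  have c2 : b * (d * c⁻¹) = (d * c⁻¹) * b := g.C_V hb.2 h8.1
  have c3 : b * (e₁ * r) = (e₁ * r) * b := g.C_V hb.2 (mul_mem he₁.1 h10V)
  calc d = (d * c⁻¹) * (a * e₁ * r * b * e₂) := h12
    _ = ((d * c⁻¹) * a) * ((e₁ * r) * b) * e₂ := by group
    _ = (a * (d * c⁻¹)) * (b * (e₁ * r)) * e₂ := by rw [c1, c3]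
    _ = a * ((d * c⁻¹) * b) * (e₁ * r) * e₂ := by group
    _ = a * (b * (d * c⁻¹)) * (e₁ * r) * e₂ := by rw [← c2]
    _ = a * b * (d * c⁻¹ * (e₁ * r) * e₂) := by group

/-- `L/V` is abelian: reordering -/
theorem W_swap {i k : I} {j l : J} (hk : k ≠ i) (hl : l ≠ j) {x y : G} (hx : x ∈ g.W hk hl)
    (hy : y ∈ g.W hk hl) : ∃ v ∈ V, x * y = y * x * v := by
  have h := g.W_comm hk hl (inv_mem hx) (inv_mem hy)
  refine ⟨x⁻¹ * y⁻¹ * x * y, by simpa using h, by group⟩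

/-- (c) `Q'_{ij} = (Q_{ij} ⊓ Q_{ij'}) C_{Q_{ij}}(V)` -/
theorem row_mul {i : I} {j j' : J} (hj : j' ≠ j) {x : G} (hx : x ∈ Q i j)
    (hc : ∀ l, cj x (R i l) = R i l) : ∃ f ∈ Q i j ⊓ Q i j', ∃ d ∈ Q i j ⊓ centralizer (V : Set G),
      x = f * d := by
  obtain ⟨k, hk⟩ := g.exists_ne_row i
  obtain ⟨y, hy, hyc, w, hw, hxy⟩ := g.rowL hk hj (n := j') hx hc
  obtain ⟨v, hv, a, ha, b, hb, hdec⟩ := g.mem_W.1 hw
  rw [mem_inf] at ha hb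
  obtain ⟨a₁, ha₁, a₂, ha₂, e, he, hae⟩ := g.D_mul hk hj ha.1 ha.2
  obtain ⟨b₂, hb₂, b₁, hb₁, e', he', hbe⟩ := g.D_mul hk.symm hj.symm hb.1 hb.2
  rw [mem_inf, mem_inf] at ha₁ ha₂ hb₁ hb₂
  rw [mem_inf] at he he'
  -- all in `L`
  have La₁ : a₁ ∈ g.W hk hj := g.D_le_W hk hj (mem_inf.2 ⟨ha₁.1.1, ha₁.2⟩)
  have La₂ : a₂ ∈ g.W hk hj := g.D_le_W hk hj (mem_inf.2 ⟨ha₂.1.1, ha₂.2⟩)
  have Lb₁ : b₁ ∈ g.W hk hj := g.D_le_W' hk hj (mem_inf.2 ⟨hb₁.1.1, hb₁.2⟩)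
  have Lb₂ : b₂ ∈ g.W hk hj := g.D_le_W' hk hj (mem_inf.2 ⟨hb₂.1.1, hb₂.2⟩)
  obtain ⟨w1, hw1, s1⟩ := g.W_swap hk hj Lb₂ Lb₁
  obtain ⟨w2, hw2, s2⟩ := g.W_swap hk hj La₂ Lb₁
  obtain ⟨w3, hw3, s3⟩ := g.W_swap hk hj La₂ Lb₂
  -- `w = a₁ b₁ b₂ a₂ v''`
  have cV : ∀ {c u : G}, c ∈ g.W hk hj → u ∈ V → c * u = u * c := fun hc hu => g.C_V (g.W_C hk hj hc) hu
  have hw' : w = a₁ * b₁ * b₂ * a₂ * (v * e * e' * w1 * w2 * w3) := by
    have VV : ∀ {x y : G}, x ∈ V → y ∈ V → x * y = y * x := fun hx hy => g.comm _ hx _ hy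
    calc w = v * (a₁ * a₂ * e) * (b₂ * b₁ * e') := by rw [hdec, hae, hbe]
      _ = v * (a₁ * a₂) * (e * (b₂ * b₁)) * e' := by group
      _ = v * (a₁ * a₂) * ((b₂ * b₁) * e) * e' := by rw [cV (mul_mem Lb₂ Lb₁) he.1]
      _ = v * (a₁ * a₂ * b₂ * b₁) * e * e' := by group
      _ = (a₁ * a₂ * b₂ * b₁) * v * e * e' := by
          rw [cV (mul_mem (mul_mem (mul_mem La₁ La₂) Lb₂) Lb₁) hv]
      _ = a₁ * a₂ * (b₂ * b₁) * v * e * e' := by group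
      _ = a₁ * a₂ * (b₁ * b₂ * w1) * v * e * e' := by rw [s1]
      _ = a₁ * (a₂ * b₁) * b₂ * w1 * v * e * e' := by group
      _ = a₁ * (b₁ * a₂ * w2) * b₂ * w1 * v * e * e' := by rw [s2]
      _ = a₁ * b₁ * a₂ * (w2 * b₂) * w1 * v * e * e' := by group
      _ = a₁ * b₁ * a₂ * (b₂ * w2) * w1 * v * e * e' := by rw [cV Lb₂ hw2]
      _ = a₁ * b₁ * (a₂ * b₂) * w2 * w1 * v * e * e' := by group
      _ = a₁ * b₁ * (b₂ * a₂ * w3) * w2 * w1 * v * e * e' := by rw [s3]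
      _ = a₁ * b₁ * b₂ * a₂ * ((w3 * (w2 * w1)) * (v * e * e')) := by group
      _ = a₁ * b₁ * b₂ * a₂ * ((v * e * e') * (w3 * (w2 * w1))) := by
          rw [VV (mul_mem hw3 (mul_mem hw2 hw1)) (mul_mem (mul_mem hv he.1) he'.1)]
      _ = a₁ * b₁ * b₂ * a₂ * (v * e * e' * (w3 * (w2 * w1))) := by group
      _ = a₁ * b₁ * b₂ * a₂ * (v * e * e' * (w1 * w2 * w3)) := by
          rw [VV hw2 hw1, VV hw3 (mul_mem hw1 hw2)]
      _ = _ := by group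
  set u := v * e * e' * w1 * w2 * w3 with hu
  have huV : u ∈ V := mul_mem (mul_mem (mul_mem (mul_mem (mul_mem hv he.1) he'.1) hw1) hw2) hw3
  obtain ⟨er, her, ep, hep, huer⟩ := g.VE_mul (g.VE₁ i j' j hj) huV
  rw [mem_inf] at her hep
  -- `x₁ = x (a₂ ep)⁻¹ = y₁ b₂`
  set y₁ := y * (a₁ * b₁ * er) with hy₁
  have hy₁Q : y₁ ∈ Q i j' := mul_mem hy (mul_mem (mul_mem ha₁.1.2 hb₁.1.2) her.2)
  have hx₁ : x = y₁ * b₂ * (a₂ * ep) := by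
    rw [hxy, hw', huer, hy₁]
    have c1 : (b₂ * a₂) * er = er * (b₂ * a₂) := cV (mul_mem Lb₂ La₂) her.1
    calc y * (a₁ * b₁ * b₂ * a₂ * (er * ep)) = y * (a₁ * b₁ * ((b₂ * a₂) * er) * ep) := by group
      _ = y * (a₁ * b₁ * (er * (b₂ * a₂)) * ep) := by rw [c1]
      _ = _ := by group
  have ha₂ep : a₂ * ep ∈ Q i j := mul_mem ha₂.1.1 hep.2
  have ha₂epC : a₂ * ep ∈ centralizer (V : Set G) := mul_mem ha₂.2 (g.V_le_C hep.1)
  set x₁ := y₁ * b₂ with hx₁def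
  have hx₁Q : x₁ ∈ Q i j := by
    have : x₁ = x * (a₂ * ep)⁻¹ := by rw [hx₁]; group
    rw [this]; exact mul_mem hx (inv_mem ha₂ep)
  -- squares
  have sq : y₁⁻¹ * b₂ * y₁ * b₂ ∈ V := by
    have h1 := g.R_le i j (g.Qsq i j x₁ hx₁Q)
    have h2 := g.R_le i j' (g.Qsq i j' y₁ hy₁Q)
    have e : y₁⁻¹ * b₂ * y₁ * b₂ = (y₁ * y₁)⁻¹ * (x₁ * x₁) := by rw [hx₁def]; group
    rw [e]; exact mul_mem (inv_mem h2) h1
  -- `y₁` fixes the columns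
  have hy₁c : ∀ l, cj y₁ (R i l) = R i l := by
    intro l
    have hC : a₁ * b₁ * er ∈ centralizer (V : Set G) := mul_mem (mul_mem ha₁.2 hb₁.2) (g.V_le_C her.1)
    rw [hy₁, cj_mul, g.C_R hC, hyc]
  have hy₁c' : ∀ l, cj y₁⁻¹ (R i l) = R i l := fun l => cj_inv_of (hy₁c l)
  have hy₁Q' : y₁⁻¹ ∈ Q i j' := (Q i j').inv_mem hy₁Q
  obtain ⟨σ, hσi, hσ⟩ := g.fixc hy₁Q' hy₁c'
  by_cases hσk : σ k = k
  · -- `y₁` centralises `V`
    have h1 : cj y₁⁻¹ (R k j) = R k j := by rw [hσ k j, hσk]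
    have h2 : y₁⁻¹ ∈ centralizer (V : Set G) := g.fix i j' k j hk hj.symm _ hy₁Q' h1
    have h3 : y₁ ∈ centralizer (V : Set G) := by
      have := (centralizer (V : Set G)).inv_mem h2
      rwa [inv_inv] at this
    refine ⟨1, one_mem _, x, mem_inf.2 ⟨hx, ?_⟩, (one_mul x).symm⟩
    rw [hx₁]
    exact mul_mem (mul_mem h3 hb₂.2) ha₂epC
  · have h1 : cj y₁⁻¹ (Q k j) = Q (σ k) j := g.conj _ _ _ _ _ (hσ k j)
    have h2 : y₁⁻¹ * b₂ * y₁ ∈ Q (σ k) j := by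
      have := mem_of_cj h1 hb₂.1.2
      rwa [inv_inv] at this
    have h2C : y₁⁻¹ * b₂ * y₁ ∈ centralizer (V : Set G) := by
      have := g.conj_C (g.Q_V i j' hy₁Q') hb₂.2
      rwa [inv_inv] at this
    have h3 := g.DD_V (i := σ k) (k := k) (j := j) (l := j') (fun h => hσk h.symm) hj h2 h2C hb₂.1.1
      (by have e : y₁⁻¹ * b₂ * y₁ * b₂ = (y₁⁻¹ * b₂ * y₁) * b₂ := by group
          rw [← e]; exact sq)
    obtain ⟨er', her', ep', hep', hb⟩ := g.VE_mul (g.VE₁ i j' j hj) h3.2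
    rw [mem_inf] at her' hep'
    refine ⟨x₁ * ep'⁻¹, mem_inf.2 ⟨mul_mem hx₁Q (inv_mem hep'.2), ?_⟩, ep' * (a₂ * ep),
      mem_inf.2 ⟨mul_mem hep'.2 ha₂ep, mul_mem (g.V_le_C hep'.1) ha₂epC⟩, ?_⟩
    · have e : x₁ * ep'⁻¹ = y₁ * er' := by rw [hx₁def, hb]; group
      rw [e]; exact mul_mem hy₁Q her'.2
    · rw [hx₁]; group

/-- `Q i j ⊓ Q i l` is independent of `l` -/
theorem inter_le {i : I} {j l : J} (hl : l ≠ j) (m : J) : Q i j ⊓ Q i l ≤ Q i m := by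
  intro x hx
  rw [mem_inf] at hx
  by_cases hm : m = j
  · rw [hm]; exact hx.1
  obtain ⟨k, hk⟩ := g.exists_ne_row i
  obtain ⟨y, hy, hyR⟩ := g.tran i j k l k m hk hk hl hm
  obtain ⟨σ, τ, h1, h2, h3⟩ := g.perm i j y hy
  have h4 : cj y (R i l) = R i m := by
    have h5 := h3 k l
    rw [hyR] at h5
    rw [h3 i l, h1, (g.inj h5).2]
  have h5 := mem_of_cj (g.conj y _ _ _ _ h4) hx.2
  have h6 := g.row i j m (g.QQ i j y hy x hx.1)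
  have e : x = (y * x * y⁻¹ * x⁻¹)⁻¹ * (y * x * y⁻¹) := by group
  rw [e]
  exact mul_mem (inv_mem h6) h5

theorem row_eq (i : I) {j l : J} (hl : j ≠ l) : Q i j ⊓ Q i l = rowG Q i := by
  apply le_antisymm
  · exact le_iInf fun m => g.inter_le hl.symm m
  · exact le_inf (iInf_le _ j) (iInf_le _ l)

theorem rowG_le (i : I) (j : J) : rowG Q i ≤ Q i j := iInf_le _ j

theorem R_row (i : I) (j : J) : R i j ≤ rowG Q i := le_iInf fun m => g.row i j m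

theorem rowG_comm_sq [Nonempty J] {i : I} {x y : G} (hx : x ∈ rowG Q i) (hy : y ∈ rowG Q i) :
    x * y = y * x ∧ x * x = 1 := by
  obtain ⟨j⟩ := ‹Nonempty J›
  obtain ⟨l, hl⟩ := g.exists_ne_col j
  have hd : R i j ⊓ R i l = ⊥ := by
    by_contra h
    exact hl (g.disj i j i l h).2.symm
  constructor
  · have h1 := g.QQ i j x (g.rowG_le i j hx) y (g.rowG_le i j hy)
    have h2 := g.QQ i l x (g.rowG_le i l hx) y (g.rowG_le i l hy)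
    have h3 : x * y * x⁻¹ * y⁻¹ ∈ R i j ⊓ R i l := mem_inf.2 ⟨h1, h2⟩
    rw [hd, mem_bot] at h3
    calc x * y = (x * y * x⁻¹ * y⁻¹) * (y * x) := by group
      _ = y * x := by rw [h3, one_mul]
  · have h3 : x * x ∈ R i j ⊓ R i l := mem_inf.2 ⟨g.Qsq i j x (g.rowG_le i j hx), g.Qsq i l x (g.rowG_le i l hx)⟩
    rw [hd, mem_bot] at h3
    exact h3

theorem rowG_fix {i : I} {x : G} (hx : x ∈ rowG Q i) (l : J) : cj x (R i l) = R i l :=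
  g.fix_R (g.rowG_le i l hx)

/-- `C_{Q i j}(V)` is in the product -/
theorem D_rc {i : I} {j : J} {x : G} (hx : x ∈ Q i j) (hxC : x ∈ centralizer (V : Set G)) :
    ∃ a ∈ rowG Q i, ∃ b ∈ colG Q j, a ∈ centralizer (V : Set G) ∧ b ∈ centralizer (V : Set G) ∧ x = a * b := by
  obtain ⟨k, hk⟩ := g.exists_ne_row i
  obtain ⟨l, hl⟩ := g.exists_ne_col j
  obtain ⟨a, ha, b, hb, e, he, h⟩ := g.D_mul hk hl hx hxC
  rw [mem_inf] at ha hb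
  have ha' : a ∈ rowG Q i := by rw [← g.row_eq i hl.symm]; exact ha.1
  have hb' : b ∈ colG Q j := by
    have := g.transpose.row_eq j hk.symm
    change Q i j ⊓ Q k j = colG Q j at this
    rw [← this]; exact hb.1
  have h1 := g.EE i j k l hk hl he
  have hRV : ∀ {i : I} {j : J} {x : G}, x ∈ R i j → x ∈ V := fun h => g.R_le _ _ h
  have hs : R i j ⊔ R i l ≤ V := sup_le (g.R_le _ _) (g.R_le _ _)
  obtain ⟨e₁, he₁, e₂, he₂, hee⟩ := mem_sup_comm (fun a ha b hb => g.comm a (hs ha) b (g.R_le _ _ hb)) h1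
  have he₁' : e₁ ∈ rowG Q i := (sup_le (g.R_row i j) (g.R_row i l)) he₁
  have he₂' : e₂ ∈ colG Q j := g.transpose.R_row j k he₂
  have he₁V := hs he₁
  have he₂V := g.R_le _ _ he₂
  refine ⟨a * e₁, mul_mem ha' he₁', b * e₂, mul_mem hb' he₂', mul_mem ha.2 (g.V_le_C he₁V),
    mul_mem hb.2 (g.V_le_C he₂V), ?_⟩
  rw [h, hee]
  have c : b * e₁ = e₁ * b := g.C_V hb.2 he₁V
  calc a * b * (e₁ * e₂) = a * (b * e₁) * e₂ := by group
    _ = a * (e₁ * b) * e₂ := by rw [c]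
    _ = _ := by group

/-- a subgroup of `Q i j` containing `R i j` is normal -/
theorem mul_of_sup {i : I} {j : J} {A B : Subgroup G} (hA : A ≤ Q i j) (hB : B ≤ Q i j) (hRB : R i j ≤ B)
    {x : G} (hx : x ∈ A ⊔ B) : ∃ a ∈ A, ∃ b ∈ B, x = a * b := by
  have hn : A ≤ normalizer (B : Set G) := by
    have h1 : ∀ a ∈ Q i j, ∀ b ∈ B, a * b * a⁻¹ ∈ B := by
      intro a ha b hb
      have h2 := hRB (g.QQ i j a ha b (hB hb))
      have e : a * b * a⁻¹ = (a * b * a⁻¹ * b⁻¹) * b := by group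
      rw [e]; exact mul_mem h2 hb
    intro a ha
    rw [mem_normalizer_iff]
    intro b
    constructor
    · intro hb; exact h1 a (hA ha) b hb
    · intro hb
      have := h1 a⁻¹ (inv_mem (hA ha)) _ hb
      have e : a⁻¹ * (a * b * a⁻¹) * a⁻¹⁻¹ = b := by group
      rwa [e] at this
  have h1 := Subgroup.coe_mul_of_left_le_normalizer_right A B hn
  rw [← SetLike.mem_coe, h1, Set.mem_mul] at hx
  obtain ⟨a, ha, b, hb, rfl⟩ := hx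
  exact ⟨a, ha, b, hb, rfl⟩

theorem Q_sup (i : I) (j : J) : Q i j = rowG Q i ⊔ colG Q j := by
  apply le_antisymm
  · intro x hx
    obtain ⟨k, hk⟩ := g.exists_ne_row i
    obtain ⟨l, hl⟩ := g.exists_ne_col j
    obtain ⟨x', hx', hc, hr⟩ := g.split hx
    obtain ⟨f, hf, d, hd, h1⟩ := g.row_mul hl hx' hc
    obtain ⟨f', hf', d', hd', h2⟩ := g.transpose.row_mul (i := j) (j := i) hk (mul_mem (inv_mem hx') hx) hr
    rw [mem_inf] at hd hd'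
    have hf1 : f ∈ rowG Q i := by rw [← g.row_eq i hl.symm]; exact hf
    have hf2 : f' ∈ colG Q j := by
      have := g.transpose.row_eq j hk.symm
      change Q i j ⊓ Q k j = colG Q j at this
      rw [← this]; exact hf'
    obtain ⟨a, ha, b, hb, -, -, h3⟩ := g.D_rc hd.1 hd.2
    obtain ⟨a', ha', b', hb', -, -, h4⟩ := g.D_rc hd'.1 hd'.2
    have e : x = x' * (x'⁻¹ * x) := by group
    rw [e, h2, h1, h3, h4]
    have hA : rowG Q i ≤ rowG Q i ⊔ colG Q j := le_sup_left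
    have hB : colG Q j ≤ rowG Q i ⊔ colG Q j := le_sup_right
    exact mul_mem (mul_mem (hA hf1) (mul_mem (hA ha) (hB hb))) (mul_mem (hB hf2) (mul_mem (hA ha') (hB hb')))
  · exact sup_le (iInf_le _ j) (iInf_le _ i)

theorem Q_mul {i : I} {j : J} {x : G} (hx : x ∈ Q i j) : ∃ a ∈ rowG Q i, ∃ b ∈ colG Q j, x = a * b := by
  rw [g.Q_sup] at hx
  exact g.mul_of_sup (g.rowG_le i j) (g.transpose.rowG_le j i) (g.transpose.R_row j i) hx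

theorem inf_eq [Nonempty I] [Nonempty J] (i : I) (j : J) : rowG Q i ⊓ colG Q j = R i j := by
  apply le_antisymm
  · intro x hx
    rw [mem_inf] at hx
    apply g.cen i j x (g.rowG_le i j hx.1)
    intro z hz
    obtain ⟨a, ha, b, hb, rfl⟩ := g.Q_mul hz
    have h1 := (g.rowG_comm_sq hx.1 ha).1
    have h2 := (g.transpose.rowG_comm_sq hx.2 hb).1
    calc x * (a * b) = (x * a) * b := by group
      _ = a * (x * b) := by rw [h1]; group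
      _ = a * b * x := by rw [h2]; group
  · exact le_inf (g.R_row i j) (g.transpose.R_row j i)

theorem row_cent [Nonempty I] [Nonempty J] {i : I} {j : J} {x : G} (hx : x ∈ Q i j)
    (h : ∀ y ∈ rowG Q i, x * y = y * x) : x ∈ rowG Q i := by
  obtain ⟨a, ha, b, hb, rfl⟩ := g.Q_mul hx
  have hbR : b ∈ R i j := by
    apply g.cen i j b (g.transpose.rowG_le j i hb)
    intro z hz
    obtain ⟨a', ha', b', hb', rfl⟩ := g.Q_mul hz
    have h1 := (g.transpose.rowG_comm_sq hb hb').1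
    have h2 : b * a' = a' * b := by
      have h3 := h a' ha'
      have h4 := (g.rowG_comm_sq ha ha').1
      have h5 : a * (b * a') = a * (a' * b) := by
        calc a * (b * a') = a * b * a' := by group
          _ = a' * (a * b) := h3
          _ = (a' * a) * b := by group
          _ = a * (a' * b) := by rw [← h4]; group
      exact mul_left_cancel h5
    calc b * (a' * b') = (b * a') * b' := by group
      _ = a' * (b * b') := by rw [h2]; group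
      _ = a' * b' * b := by rw [h1]; group
  exact mul_mem ha (g.R_row i j hbR)

theorem row_row [Nonempty I] [Nonempty J] {i k : I} (h : i ≠ k) {x y : G} (hx : x ∈ rowG Q i)
    (hxC : x ∈ centralizer (V : Set G)) (hy : y ∈ rowG Q k) (hyC : y ∈ centralizer (V : Set G)) :
    x * y = y * x := by
  obtain ⟨j⟩ := ‹Nonempty J›
  obtain ⟨l, hl⟩ := g.exists_ne_col j
  have h1 : ∀ j, x * y * x⁻¹ * y⁻¹ ∈ Q i j ⊓ Q k j := by
    intro j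
    refine mem_inf.2 ⟨?_, (g.comm_CQ hxC (g.rowG_le k j hy)).1⟩
    have := (g.comm_CQ hyC (g.rowG_le i j hx)).1
    have e : x * y * x⁻¹ * y⁻¹ = (y * x * y⁻¹ * x⁻¹)⁻¹ := by group
    rw [e]; exact inv_mem this
  have h2 : ∀ j, x * y * x⁻¹ * y⁻¹ ∈ R i j := by
    intro j
    have : Nonempty J := ⟨j⟩
    have h3 := g.transpose.row_eq j h
    change Q i j ⊓ Q k j = colG Q j at h3
    rw [← g.inf_eq i j, mem_inf, ← h3]
    refine ⟨?_, h1 j⟩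
    rw [rowG, mem_iInf]
    exact fun j => (mem_inf.1 (h1 j)).1
  have h4 : x * y * x⁻¹ * y⁻¹ ∈ R i j ⊓ R i l := mem_inf.2 ⟨h2 j, h2 l⟩
  have hd : R i j ⊓ R i l = ⊥ := by
    by_contra h
    exact hl (g.disj i j i l h).2.symm
  rw [hd, mem_bot] at h4
  calc x * y = (x * y * x⁻¹ * y⁻¹) * (y * x) := by group
    _ = y * x := by rw [h4, one_mul]

theorem opp' {i : I} {j : J} {x : G} (hx : x ∈ Q i j) (hxC : x ∈ centralizer (V : Set G))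
    (h : ∀ k l, k ≠ i → l ≠ j → ∀ y ∈ Q k l, y ∈ centralizer (V : Set G) → x * y = y * x)
    {y : G} (hy : y ∈ Q i j) (hyC : y ∈ centralizer (V : Set G)) : x * y = y * x := by
  obtain ⟨k, hk⟩ := g.exists_ne_row i
  obtain ⟨l, hl⟩ := g.exists_ne_col j
  obtain ⟨m, hm, hmk⟩ := g.threeI i k
  obtain ⟨n, hn, hnl⟩ := g.threeJ j l
  obtain ⟨v, hv, a, ha, b, hb, rfl⟩ := g.D_le hmk hnl i j (mem_inf.2 ⟨hy, hyC⟩)
  rw [mem_inf] at ha hb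
  have h1 := h k l hk hl a ha.1 ha.2
  have h2 := h m n hm hn b hb.1 hb.2
  have h3 := g.C_V hxC hv
  calc x * (v * a * b) = (x * v) * a * b := by group
    _ = v * (x * a) * b := by rw [h3]; group
    _ = v * a * (x * b) := by rw [h1]; group
    _ = v * a * b * x := by rw [h2]; group

/-- **(I1).** -/
theorem rc [Nonempty I] [Nonempty J] : RC V R Q where
  row_eq i j l h := g.row_eq i h
  col_eq i k j h := g.transpose.row_eq j h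
  sup := g.Q_sup
  mul i j x hx := g.Q_mul hx
  inf := g.inf_eq
  R_row := g.R_row
  R_col i j := g.transpose.R_row j i
  row_comm i x hx y hy := (g.rowG_comm_sq hx hy).1
  col_comm j x hx y hy := (g.transpose.rowG_comm_sq hx hy).1
  row_sq i x hx := (g.rowG_comm_sq hx hx).2
  col_sq j x hx := (g.transpose.rowG_comm_sq hx hx).2
  row_cent i j x hx h := g.row_cent hx h
  col_cent i j x hx h := g.transpose.row_cent (i := j) (j := i) hx h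
  row_fix i x hx k l := by
    obtain ⟨j⟩ := ‹Nonempty J›
    obtain ⟨σ, -, h⟩ := g.fixc (g.rowG_le i j hx) (g.rowG_fix hx)
    exact ⟨σ k, h k l⟩
  col_fix j x hx k l := by
    obtain ⟨i⟩ := ‹Nonempty I›
    obtain ⟨σ, -, h⟩ := g.transpose.fixc (g.transpose.rowG_le j i hx) (g.transpose.rowG_fix hx)
    exact ⟨σ l, h l k⟩
  row_row i k h x hx hxC y hy hyC := g.row_row h hx hxC hy hyC
  col_col j l h x hx hxC y hy hyC := g.transpose.row_row h hx hxC hy hyC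
  cenV i j x hx hxC := g.D_rc hx hxC
  opp i j x hx hxC h y hy hyC := g.opp' hx hxC h hy hyC

end Grid

end Cfsg.Agent.Omega.NO1.Gamma
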