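import Cfsg.Agent.Omega.NO1.Gamma.Gen
import Cfsg.Agent.Omega.NO1.Gamma.Row
import Cfsg.Agent.Omega.NOne.SL.OfDec

/-!
# Type (gamma), `q ≥ 4`: from `Gin` to the input of THEOREM SL

(I2) of bb #15588, second part.
-/

set_option autoImplicit false
set_option linter.unusedVariables false
set_option linter.unusedSectionVars false

open Subgroup
open scoped Pointwise commutatorElement

namespace Cfsg.Agent.Omega.NO1.Gamma

open Cfsg.Agent.Omega.NO1.Beta.Meet (cj mem_cj conj_mem_cj cj_mul cj_inj cj_eq_of_comm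
  mem_normalizer_of_cj cj_of_mem_normalizer)
open Cfsg.Agent.Omega.NOne

/-! ### the group-theoretic part of (J1), (J2) -/

namespace Grid

variable {G : Type*} [Group G] {I J : Type*} {V : Subgroup G} {R Q : I → J → Subgroup G} (g : Grid V R Q)
include g

theorem R_inj {i k : I} {j l : J} (h : R i j = R k l) : i = k ∧ j = l := by
  refine g.disj i j k l ?_
  rw [← h, inf_idem]
  exact g.ne i j

/-- an element of `⨆ colG` fixes the rows -/
theorem col_perm (rc : RC V R Q) {c : G} (hc : c ∈ ⨆ l, colG Q l) :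
    ∃ τ : J → J, ∀ k l, cj c (R k l) = R k (τ l) := by
  rcases isEmpty_or_nonempty I with hI | ⟨⟨i⟩⟩
  · exact ⟨id, fun k => hI.elim k⟩
  refine Subgroup.iSup_induction (fun l => colG Q l) (C := fun c => ∃ τ : J → J, ∀ k l, cj c (R k l) = R k (τ l))
    hc ?_ ?_ ?_
  · intro j y hy
    have hyQ : y ∈ Q i j := (mem_iInf.1 hy) i
    obtain ⟨σ, τ, -, -, h⟩ := g.perm i j y hyQ
    refine ⟨τ, fun k l => ?_⟩
    obtain ⟨l', h1⟩ := rc.col_fix j y hy k l
    rw [h k l] at h1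
    rw [h k l, (g.R_inj h1).1]
  · refine ⟨id, fun k l => ?_⟩
    exact cj_eq_of_comm fun r hr => by rw [one_mul, mul_one]
  · rintro x y ⟨τ, h1⟩ ⟨τ', h2⟩
    refine ⟨fun l => τ (τ' l), fun k l => ?_⟩
    rw [cj_mul, h2, h1]

/-- an element `c` of `⨆ colG` centralises `C_{A_i}(V)` modulo `V`. -/
theorem col_mod (rc : RC V R Q) {c : G} (hc : c ∈ ⨆ l, colG Q l) (i : I) :
    c ∈ normalizer (V : Set G) ∧ ∀ a ∈ rowG Q i, a ∈ centralizer (V : Set G) → a⁻¹ * (c * a * c⁻¹) ∈ V := by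
  refine Subgroup.iSup_induction (fun l => colG Q l) (C := fun c => c ∈ normalizer (V : Set G) ∧
    ∀ a ∈ rowG Q i, a ∈ centralizer (V : Set G) → a⁻¹ * (c * a * c⁻¹) ∈ V) hc ?_ ?_ ?_
  · intro j y hy
    have hyQ : y ∈ Q i j := (mem_iInf.1 hy) i
    refine ⟨g.Q_V i j hyQ, fun a ha haV => ?_⟩
    have haQ : a ∈ Q i j := (mem_iInf.1 ha) j
    have h1 := g.QQ i j _ hyQ _ haQ
    have h2 := g.RQ i j _ h1 _ haQ
    have h3 : a⁻¹ * (y * a * y⁻¹) = y * a * y⁻¹ * a⁻¹ := by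
      have : a⁻¹ * (y * a * y⁻¹) = a⁻¹ * ((y * a * y⁻¹ * a⁻¹) * a) := by group
      rw [this, h2]
      group
    rw [h3]
    exact g.R_le i j h1
  · refine ⟨one_mem _, fun a ha haV => ?_⟩
    simp
  · rintro x y ⟨h1, h2⟩ ⟨h3, h4⟩
    refine ⟨mul_mem h1 h3, fun a ha haV => ?_⟩
    have e : a⁻¹ * (x * y * a * (x * y)⁻¹) = (a⁻¹ * (x * a * x⁻¹)) * (x * (a⁻¹ * (y * a * y⁻¹)) * x⁻¹) := by
      group
    rw [e]
    exact mul_mem (h2 a ha haV) ((mem_normalizer_iff.1 h1 _).1 (h4 a ha haV))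

/-- **(J1), group-theoretically.** -/
theorem weyl (rc : RC V R Q) {i : I} {j j' : J} (hj : j ≠ j') {w : G} (hw : w ∈ ⨆ l, colG Q l)
    (hR : cj w (R i j) = R i j') {y : G} (hy : y ∈ colG Q j) (hyV : y ∈ centralizer (V : Set G)) :
    w * y * w⁻¹ ∈ centralizer (V : Set G) ∧ ∀ a ∈ rowG Q i, a ∈ centralizer (V : Set G) → ∀ b ∈ colG Q j,
      b ∈ centralizer (V : Set G) → ⁅w * y * w⁻¹, a * b⁆ = w * ⁅y, a⁆ * w⁻¹ := by
  obtain ⟨τ, hτ⟩ := g.col_perm rc hw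
  obtain ⟨hN, -⟩ := g.col_mod rc hw i
  have hτj : τ j = j' := by
    have h1 := hτ i j
    rw [hR] at h1
    exact (g.R_inj h1).2.symm
  have hz : w * y * w⁻¹ ∈ colG Q j' := by
    refine mem_iInf.2 fun k => ?_
    have h1 := g.conj w k j k (τ j) (hτ k j)
    rw [hτj] at h1
    rw [← h1]
    exact conj_mem_cj ((mem_iInf.1 hy) k)
  have hzV : w * y * w⁻¹ ∈ centralizer (V : Set G) := by
    rw [mem_centralizer_iff]
    intro x hx
    have h1 : w⁻¹ * x * w ∈ V := by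
      have := (mem_normalizer_iff.1 (inv_mem hN) x).1 hx
      rwa [inv_inv] at this
    have h2 := mem_centralizer_iff.1 hyV _ h1
    calc x * (w * y * w⁻¹) = w * ((w⁻¹ * x * w) * y) * w⁻¹ := by group
      _ = w * (y * (w⁻¹ * x * w)) * w⁻¹ := by rw [h2]
      _ = w * y * w⁻¹ * x := by group
  refine ⟨hzV, fun a ha haV b hb hbV => ?_⟩
  have h1 : w * y * w⁻¹ * b = b * (w * y * w⁻¹) := rc.col_col j' j hj.symm _ hz hzV _ hb hbV
  have h2 : ⁅w * y * w⁻¹, a * b⁆ = ⁅w * y * w⁻¹, a⁆ := by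
    have h3 : (w * y * w⁻¹)⁻¹ * b⁻¹ = b⁻¹ * (w * y * w⁻¹)⁻¹ := by
      rw [← mul_inv_rev, ← mul_inv_rev, h1]
    calc ⁅w * y * w⁻¹, a * b⁆ = (w * y * w⁻¹) * a * (b * ((w * y * w⁻¹)⁻¹ * b⁻¹)) * a⁻¹ := by
          simp only [commutatorElement_def]; group
      _ = (w * y * w⁻¹) * a * (b * (b⁻¹ * (w * y * w⁻¹)⁻¹)) * a⁻¹ := by rw [h3]
      _ = ⁅w * y * w⁻¹, a⁆ := by simp only [commutatorElement_def]; group
  rw [h2]
  -- `w⁻¹ a w = a u`
  have h4 := (g.col_mod rc (inv_mem hw) i).2 a ha haV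
  rw [inv_inv] at h4
  set u := a⁻¹ * (w⁻¹ * a * w) with hu
  have h5 : w⁻¹ * a * w = a * u := by rw [hu]; group
  have h6 : u * y = y * u := mem_centralizer_iff.1 hyV u h4
  have h7 : u * a = a * u := mem_centralizer_iff.1 haV u h4
  have h8 : u * y⁻¹ = y⁻¹ * u := by
    calc u * y⁻¹ = y⁻¹ * (y * u) * y⁻¹ := by group
      _ = y⁻¹ * (u * y) * y⁻¹ := by rw [h6]
      _ = y⁻¹ * u := by group
  calc ⁅w * y * w⁻¹, a⁆ = w * (y * (w⁻¹ * a * w) * y⁻¹ * (w⁻¹ * a * w)⁻¹) * w⁻¹ := by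
        simp only [commutatorElement_def]; group
    _ = w * (y * a * (u * y⁻¹) * u⁻¹ * a⁻¹) * w⁻¹ := by rw [h5]; group
    _ = w * (y * a * (y⁻¹ * u) * u⁻¹ * a⁻¹) * w⁻¹ := by rw [h8]
    _ = w * ⁅y, a⁆ * w⁻¹ := by simp only [commutatorElement_def]; group

end Grid

theorem RC.transpose {G : Type*} [Group G] {I J : Type*} {V : Subgroup G} {R Q : I → J → Subgroup G}
    (g : Grid V R Q) (rc : RC V R Q) : RC V (fun j i => R i j) (fun j i => Q i j) where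
  row_eq := fun j i k h => rc.col_eq i k j h
  col_eq := fun j l i h => rc.row_eq i j l h
  sup := fun j i => by rw [rc.sup i j, sup_comm]; rfl
  mul := fun j i x hx => by
    obtain ⟨a, ha, b, hb, h⟩ := rc.mul i j _ (inv_mem hx)
    exact ⟨b⁻¹, inv_mem hb, a⁻¹, inv_mem ha, by rw [← mul_inv_rev, ← h, inv_inv]⟩
  inf := fun j i => by rw [← rc.inf i j, inf_comm]; rfl
  R_row := fun j i => rc.R_col i j
  R_col := fun j i => rc.R_row i j
  row_comm := rc.col_comm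
  col_comm := rc.row_comm
  row_sq := rc.col_sq
  col_sq := rc.row_sq
  row_cent := fun j i x hx h => rc.col_cent i j x hx h
  col_cent := fun j i x hx h => rc.row_cent i j x hx h
  row_fix := fun j x hx k l => rc.col_fix j x hx l k
  col_fix := fun i x hx k l => rc.row_fix i x hx l k
  row_row := rc.col_col
  col_col := rc.row_row
  cenV := fun j i x hx hV => by
    obtain ⟨a, ha, b, hb, h1, h2, h⟩ := rc.cenV i j _ (inv_mem hx) (inv_mem hV)
    exact ⟨b⁻¹, inv_mem hb, a⁻¹, inv_mem ha, inv_mem h2, inv_mem h1, by rw [← mul_inv_rev, ← h, inv_inv]⟩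
  opp := fun j i x hx hV h => rc.opp i j x hx hV fun k l hk hl => h l k hl hk

end Cfsg.Agent.Omega.NO1.Gamma
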