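import Cfsg.Agent.Omega.NO1.Gamma.DecOf

/-!
# Type (gamma), `q ≥ 4`: the input of THEOREM SL

(I2) of bb #15588, last part.
-/

set_option autoImplicit false
set_option linter.unusedVariables false
set_option linter.unusedSectionVars false
set_option linter.unusedSimpArgs false

open Subgroup
open scoped Pointwise commutatorElement

namespace Cfsg.Agent.Omega.NO1.Gamma

open Cfsg.Agent.Omega.NO1.Beta.Meet (cj mem_cj conj_mem_cj cj_mul cj_inj cj_eq_of_comm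
  mem_normalizer_of_cj cj_of_mem_normalizer)
open Cfsg.Agent.Omega.NOne

namespace Gin

variable {F : Type*} [Field F] {G : Type*} [Group G] {I J : Type*} {S : Sylow 2 G} {V : Subgroup G}
  {R Q : I → J → Subgroup G} {i0 i1 : I} {j0 j1 : J} {v : F → F → F → F → G} {p p' : G → F}
  (D : Gin F S V R Q i0 i1 j0 j1 v p p') [Finite G]

include D

omit D in
theorem cj_eq_of_le {g : G} {H : Subgroup G} (h : ∀ x ∈ H, g * x * g⁻¹ ∈ H) : cj g H = H := by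
  refine Subgroup.eq_of_le_of_card_ge ?_ ?_
  · intro x hx
    rw [mem_cj] at hx
    have := h _ hx
    have e : g * (g⁻¹ * x * g) * g⁻¹ = x := by group
    rwa [e] at this
  · exact Nat.card_le_card_of_injective (fun x : H => (⟨g * x * g⁻¹, conj_mem_cj x.2⟩ : cj g H)) fun x y h => by
      have h1 : g * (x : G) * g⁻¹ = g * y * g⁻¹ := congrArg Subtype.val h
      exact Subtype.ext (mul_left_cancel (mul_right_cancel h1))

/-- the root group of `e` -/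
theorem ac_v (d : F) (m : D.Mo) : D.ac (D.V_le_K (D.v_mem 0 0 0 d)) m =
    m + d • (D.ff m D.e₁ • D.e₂ + D.ff m D.e₂ • D.e₁) := by
  obtain ⟨x, hx, rfl⟩ := D.pi_surj m
  rw [D.ac_pi, D.ff_e₁, D.ff_e₂]
  have h1 : v 0 0 0 d * x * (v 0 0 0 d)⁻¹ = v (p x * p' x * d) (p x * d) (p' x * d) 0 * x := by
    have h2 := D.comm_v hx 0 0 0 d
    rw [mul_zero, mul_zero, zero_add, zero_add] at h2
    rw [← h2]
    simp only [commutatorElement_def]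
    group
  rw [D.pi_congr _ h1 (mul_mem (D.v_Q _ _ _) hx), D.pi_mul (D.v_Q _ _ _) hx, D.pi_v]
  module

/-- **An element which normalises `R` and `E` normalises `V`.** -/
theorem cjV {g : G} (hR : cj g (R i0 j0) = R i0 j0) (hE : ∀ x ∈ V ⊓ Q i0 j0, g * x * g⁻¹ ∈ V) :
    cj g V = V := by
  have hQ := D.cj_Q hR
  have hE' : cj g (V ⊓ Q i0 j0) = V ⊓ Q i0 j0 :=
    cj_eq_of_le fun x hx => ⟨hE x hx, conj_of_cj hQ hx.2⟩
  refine cj_eq_of_le fun w hw => ?_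
  have hK : g * w * g⁻¹ ∈ centralizer (R i0 j0 : Set G) := by
    rw [D.mem_K]
    intro r hr
    have h1 := D.V_comm hw (D.R_le_V (conj_of_cj' hR hr))
    calc g * w * g⁻¹ * r = g * (w * (g⁻¹ * r * g)) * g⁻¹ := by group
      _ = g * ((g⁻¹ * r * g) * w) * g⁻¹ := by rw [h1]
      _ = r * (g * w * g⁻¹) := by group
  have hC : ∀ x ∈ Q i0 j0, x ∈ centralizer (V : Set G) → g * w * g⁻¹ * x = x * (g * w * g⁻¹) := by
    intro x hx hxV
    have h1 : g⁻¹ * x * g ∈ centralizer (V : Set G) := by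
      refine D.mem_CV_of_E (conj_of_cj' hQ hx) fun e he => ?_
      have h2 := mem_centralizer_iff.1 hxV (g * e * g⁻¹) (hE e he)
      calc g⁻¹ * x * g * e = g⁻¹ * (x * (g * e * g⁻¹)) * g := by group
        _ = g⁻¹ * ((g * e * g⁻¹) * x) * g := by rw [h2]
        _ = e * (g⁻¹ * x * g) := by group
    have h2 := mem_centralizer_iff.1 h1 w hw
    calc g * w * g⁻¹ * x = g * (w * (g⁻¹ * x * g)) * g⁻¹ := by group
      _ = g * ((g⁻¹ * x * g) * w) * g⁻¹ := by rw [h2]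
      _ = x * (g * w * g⁻¹) := by group
  obtain ⟨a, ha⟩ := D.isom_P (g := D.ac hK) (D.ac_ss hK) (fun m h1 h2 => by
    obtain ⟨x, hx, rfl⟩ := D.pi_surj m
    have h3 := hC x hx ((D.mem_P hx).1 ⟨h1, h2⟩)
    rw [D.ac_pi]
    refine D.pi_congr _ ?_ _
    rw [h3]
    group)
  have hvK := D.V_le_K (D.v_mem 0 0 0 a)
  have h1 : D.ac hK = D.ac hvK := LinearEquiv.ext fun m => by rw [ha, D.ac_v]
  have h2 : D.ac (mul_mem hK (inv_mem hvK)) = 1 := by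
    rw [D.ac_mul hK (inv_mem hvK), D.ac_inv hvK, h1, mul_inv_cancel]
  have h3 := D.mem_Q_of_ac _ h2
  have h4 : g * w * g⁻¹ * (v 0 0 0 a)⁻¹ ∈ V := by
    refine D.cent_CV h3 fun y hy hyV => ?_
    have e1 := hC y hy hyV
    have e2 := mem_centralizer_iff.1 hyV _ (inv_mem (D.v_mem 0 0 0 a))
    rw [mul_assoc, e2, ← mul_assoc, e1, mul_assoc]
  have h5 := mul_mem h4 (D.v_mem 0 0 0 a)
  rwa [inv_mul_cancel_right] at h5

/-! ### the action on `N₁`, `N₂` -/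

theorem ac_N₁₁ {k : G} (hk : k ∈ centralizer (R i0 j0 : Set G)) (h : cj k (rowG Q i0) = rowG Q i0)
    {m : D.Mo} (hm : m ∈ D.N₁) : D.ac hk m ∈ D.N₁ := by
  obtain ⟨x, hx, rfl⟩ := D.pi_surj m
  rw [D.mem_N₁] at hm
  rw [D.ac_pi, D.mem_N₁, ← h]
  exact conj_mem_cj hm

theorem ac_N₂₂ {k : G} (hk : k ∈ centralizer (R i0 j0 : Set G)) (h : cj k (colG Q j0) = colG Q j0)
    {m : D.Mo} (hm : m ∈ D.N₂) : D.ac hk m ∈ D.N₂ := by
  obtain ⟨x, hx, rfl⟩ := D.pi_surj m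
  rw [D.mem_N₂] at hm
  rw [D.ac_pi, D.mem_N₂, ← h]
  exact conj_mem_cj hm

theorem ac_N₁₂ {k : G} (hk : k ∈ centralizer (R i0 j0 : Set G)) (h : cj k (rowG Q i0) = colG Q j0)
    {m : D.Mo} (hm : m ∈ D.N₁) : D.ac hk m ∈ D.N₂ := by
  obtain ⟨x, hx, rfl⟩ := D.pi_surj m
  rw [D.mem_N₁] at hm
  rw [D.ac_pi, D.mem_N₂, ← h]
  exact conj_mem_cj hm

theorem ac_N₂₁ {k : G} (hk : k ∈ centralizer (R i0 j0 : Set G)) (h : cj k (colG Q j0) = rowG Q i0)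
    {m : D.Mo} (hm : m ∈ D.N₂) : D.ac hk m ∈ D.N₁ := by
  obtain ⟨x, hx, rfl⟩ := D.pi_surj m
  rw [D.mem_N₂] at hm
  rw [D.ac_pi, D.mem_N₁, ← h]
  exact conj_mem_cj hm

theorem mem_e_of_N₁ {a c : F} (h : a • D.e₁ + c • D.e₂ ∈ D.N₁) : c • D.e₂ = 0 := by
  have h1 : c • D.e₂ ∈ D.N₁ := by
    have := sub_mem h (Submodule.smul_mem _ a D.e₁_N₁)
    rwa [add_sub_cancel_left] at this
  exact (Submodule.disjoint_def.1 D.isCompl.disjoint) _ h1 (Submodule.smul_mem _ _ D.e₂_N₂)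

theorem mem_e_of_N₂ {a c : F} (h : a • D.e₁ + c • D.e₂ ∈ D.N₂) : a • D.e₁ = 0 := by
  have h1 : a • D.e₁ ∈ D.N₂ := by
    have := sub_mem h (Submodule.smul_mem _ c D.e₂_N₂)
    rwa [add_sub_cancel_right] at this
  exact (Submodule.disjoint_def.1 D.isCompl.disjoint) _ (Submodule.smul_mem _ _ D.e₁_N₁) h1

theorem ac_e₁ {k : G} (hk : k ∈ centralizer (V : Set G)) : D.ac (D.CV_le_K hk) D.e₁ = D.e₁ := by
  rw [e₁, D.ac_pi]
  refine D.pi_congr _ ?_ _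
  rw [← mem_centralizer_iff.1 hk _ (D.v_mem 0 1 0 0)]
  group

theorem ac_e₂ {k : G} (hk : k ∈ centralizer (V : Set G)) : D.ac (D.CV_le_K hk) D.e₂ = D.e₂ := by
  rw [e₂, D.ac_pi]
  refine D.pi_congr _ ?_ _
  rw [← mem_centralizer_iff.1 hk _ (D.v_mem 0 0 1 0)]
  group

theorem ac_CV {k : G} (hk : k ∈ centralizer (V : Set G)) (m : D.Mo) :
    D.ff D.e₁ (D.ac (D.CV_le_K hk) m - m) = 0 ∧ D.ff D.e₂ (D.ac (D.CV_le_K hk) m - m) = 0 := by
  constructor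
  · have h := D.ac_ff (D.CV_le_K hk) D.e₁ m
    rw [D.ac_e₁ hk] at h
    rw [map_sub, h, sub_self]
  · have h := D.ac_ff (D.CV_le_K hk) D.e₂ m
    rw [D.ac_e₂ hk] at h
    rw [map_sub, h, sub_self]

theorem J1 {φ : D.Mo} (hφ : φ ∈ D.N₂) (h0 : D.ff D.e₁ φ = 0) : ∃ z, ∃ hz : z ∈ centralizer (V : Set G),
    ∀ m, D.ff D.e₁ m = 0 → D.ff D.e₂ m = 0 → D.ac (D.CV_le_K hz) m = m + D.ff m φ • D.e₁ := by
  obtain ⟨y, hy, rfl⟩ := D.pi_surj φ
  rw [D.mem_N₂] at hφ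
  rw [D.ff_symm, D.ff_e₁] at h0
  have hyV : y ∈ centralizer (V : Set G) := (D.mem_CV hy).2 ⟨D.col_p y hφ, h0⟩
  obtain ⟨w, hw, hv⟩ := D.wey
  have hR : cj w (R i0 j0) = R i0 j1 := by
    ext x
    rw [mem_cj, D.R00, D.R01]
    constructor
    · rintro ⟨a, ha⟩
      refine ⟨a, ?_⟩
      rw [← hv a 0 0 0, ← ha]
      group
    · rintro ⟨a, rfl⟩
      refine ⟨a, ?_⟩
      rw [← hv a 0 0 0]
      group
  obtain ⟨hz, h1⟩ := D.grid.weyl D.rc D.hj hw hR hφ hyV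
  refine ⟨_, hz, fun m hm1 hm2 => ?_⟩
  obtain ⟨x, hx, rfl⟩ := D.pi_surj m
  have hxV := (D.mem_P hx).1 ⟨hm1, hm2⟩
  obtain ⟨a, ha, b, hb, haV, hbV, rfl⟩ := D.rc.cenV i0 j0 x hx hxV
  have haQ := D.rowG_le ha
  have hbQ := D.colG_le hb
  have h2 := h1 a ha haV b hb hbV
  obtain ⟨r, hr⟩ := (D.R00 _).1 (D.grid.QQ i0 j0 y hy a haQ)
  have hr' : ⁅y, a⁆ = v r 0 0 0 := hr
  rw [hr', hv] at h2
  have h3 : w * y * w⁻¹ * (a * b) * (w * y * w⁻¹)⁻¹ = v 0 r 0 0 * (a * b) := by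
    rw [← h2]
    simp only [commutatorElement_def]
    group
  have h4 : D.ff (D.pi hx) (D.pi hy) = r := by
    rw [D.pi_mul haQ hbQ, map_add, LinearMap.add_apply, D.ff_N₂ ((D.mem_N₂ hbQ).2 hb) ((D.mem_N₂ hy).2 hφ), add_zero,
      D.ff_symm, D.ff_pi, hr', D.ρ_v]
  rw [h4, D.ac_pi, D.pi_congr _ h3 (mul_mem (D.v_Q 0 r 0) hx), D.pi_mul (D.v_Q 0 r 0) hx, D.pi_v, zero_smul, add_zero,
    add_comm]

theorem J2 {φ : D.Mo} (hφ : φ ∈ D.N₁) (h0 : D.ff D.e₂ φ = 0) : ∃ z, ∃ hz : z ∈ centralizer (V : Set G),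
    ∀ m, D.ff D.e₁ m = 0 → D.ff D.e₂ m = 0 → D.ac (D.CV_le_K hz) m = m + D.ff m φ • D.e₂ := by
  obtain ⟨y, hy, rfl⟩ := D.pi_surj φ
  rw [D.mem_N₁] at hφ
  rw [D.ff_symm, D.ff_e₂] at h0
  have hyV : y ∈ centralizer (V : Set G) := (D.mem_CV hy).2 ⟨h0, D.row_p y hφ⟩
  obtain ⟨w, hw, hv⟩ := D.wey'
  have hR : cj w (R i0 j0) = R i1 j0 := by
    ext x
    rw [mem_cj, D.R00, D.R10]
    constructor
    · rintro ⟨a, ha⟩
      refine ⟨a, ?_⟩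
      rw [← hv a 0 0 0, ← ha]
      group
    · rintro ⟨a, rfl⟩
      refine ⟨a, ?_⟩
      rw [← hv a 0 0 0]
      group
  obtain ⟨hz, h1⟩ := D.grid.transpose.weyl (RC.transpose D.grid D.rc) D.hi hw hR hφ hyV
  refine ⟨_, hz, fun m hm1 hm2 => ?_⟩
  obtain ⟨x, hx, rfl⟩ := D.pi_surj m
  have hxV := (D.mem_P hx).1 ⟨hm1, hm2⟩
  obtain ⟨b, hb, a, ha, hbV, haV, rfl⟩ := (RC.transpose D.grid D.rc).cenV j0 i0 x hx hxV
  have haQ : a ∈ Q i0 j0 := D.rowG_le ha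
  have hbQ : b ∈ Q i0 j0 := D.colG_le hb
  have h2 := h1 b hb hbV a ha haV
  obtain ⟨r, hr⟩ := (D.R00 _).1 (D.grid.QQ i0 j0 y hy b hbQ)
  have hr' : ⁅y, b⁆ = v r 0 0 0 := hr
  rw [hr', hv] at h2
  have h3 : w * y * w⁻¹ * (b * a) * (w * y * w⁻¹)⁻¹ = v 0 0 r 0 * (b * a) := by
    rw [← h2]
    simp only [commutatorElement_def]
    group
  have h4 : D.ff (D.pi hx) (D.pi hy) = r := by
    rw [D.pi_mul hbQ haQ, map_add, LinearMap.add_apply, D.ff_N₁ ((D.mem_N₁ haQ).2 ha) ((D.mem_N₁ hy).2 hφ), add_zero,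
      D.ff_symm, D.ff_pi, hr', D.ρ_v]
  rw [h4, D.ac_pi, D.pi_congr _ h3 (mul_mem (D.v_Q 0 0 r) hx), D.pi_mul (D.v_Q 0 0 r) hx, D.pi_v, zero_smul, zero_add,
    add_comm]

/-- an element of `K` whose image preserves `e` -/
theorem norm_e {k : G} (hk : k ∈ centralizer (R i0 j0 : Set G))
    (h₁ : ∃ a c : F, D.ac hk D.e₁ = a • D.e₁ + c • D.e₂) (h₂ : ∃ a c : F, D.ac hk D.e₂ = a • D.e₁ + c • D.e₂) :
    cj k V = V := by
  refine D.cjV (D.cj_R_of_K hk) fun x hx => ?_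
  obtain ⟨a, b, c, rfl⟩ := D.mem_E.1 hx
  obtain ⟨a₁, c₁, h₁⟩ := h₁
  obtain ⟨a₂, c₂, h₂⟩ := h₂
  rw [← D.mem_e_E (D.K_norm hk hx.2), ← D.ac_pi hk hx.2]
  refine ⟨b * a₁ + c * a₂, b * c₁ + c * c₂, ?_⟩
  have h3 : D.pi hx.2 = b • D.e₁ + c • D.e₂ := D.pi_v a b c
  rw [h3, map_add, map_smul, map_smul, h₁, h₂]
  module

theorem Se {k : G} (hk : k ∈ centralizer (R i0 j0 : Set G))
    (h₁ : ∃ a c : F, D.ac hk D.e₁ = a • D.e₁ + c • D.e₂) (h₂ : ∃ a c : F, D.ac hk D.e₂ = a • D.e₁ + c • D.e₂) :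
    ((∃ a : F, D.ac hk D.e₁ = a • D.e₁) ∧ ∃ a : F, D.ac hk D.e₂ = a • D.e₂) ∨
      ((∃ a : F, D.ac hk D.e₁ = a • D.e₂) ∧ ∃ a : F, D.ac hk D.e₂ = a • D.e₁) := by
  have hV := D.norm_e hk h₁ h₂
  obtain ⟨a₁, c₁, h₁⟩ := h₁
  obtain ⟨a₂, c₂, h₂⟩ := h₂
  rcases D.norm k hV (D.cj_R_of_K hk) with ⟨hA, hB⟩ | ⟨hA, hB⟩
  · left
    have k1 := D.ac_N₁₁ hk hA D.e₁_N₁
    have k2 := D.ac_N₂₂ hk hB D.e₂_N₂
    rw [h₁] at k1
    rw [h₂] at k2
    refine ⟨⟨a₁, ?_⟩, c₂, ?_⟩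
    · rw [h₁, D.mem_e_of_N₁ k1, add_zero]
    · rw [h₂, D.mem_e_of_N₂ k2, zero_add]
  · right
    have k1 := D.ac_N₁₂ hk hA D.e₁_N₁
    have k2 := D.ac_N₂₁ hk hB D.e₂_N₂
    rw [h₁] at k1
    rw [h₂] at k2
    refine ⟨⟨c₁, ?_⟩, a₂, ?_⟩
    · rw [h₁, D.mem_e_of_N₂ k1, zero_add]
    · rw [h₂, D.mem_e_of_N₁ k2, add_zero]

/-- `C_G(V)` normalises the row group and the column group -/
theorem CV_norm {c : G} (hc : c ∈ centralizer (V : Set G)) : cj c (rowG Q i0) = rowG Q i0 ∧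
    cj c (colG Q j0) = colG Q j0 := by
  have h1 : ∀ i j, cj c (Q i j) = Q i j := fun i j => D.grid.conj c i j i j
    (cj_eq_of_comm fun r hr => (mem_centralizer_iff.1 hc r (D.grid.R_le _ _ hr)).symm)
  constructor
  · refine cj_eq_of_le fun x hx => mem_iInf.2 fun j => ?_
    rw [← h1 i0 j]
    exact conj_mem_cj (mem_iInf.1 hx j)
  · refine cj_eq_of_le fun x hx => mem_iInf.2 fun i => ?_
    rw [← h1 i j0]
    exact conj_mem_cj (mem_iInf.1 hx i)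

/-- `Q` normalises the row group and the column group -/
theorem Q_norm {c : G} (hc : c ∈ Q i0 j0) : cj c (rowG Q i0) = rowG Q i0 ∧ cj c (colG Q j0) = colG Q j0 := by
  constructor
  · refine cj_eq_of_le fun x hx => ?_
    have h1 := D.rc.R_row i0 j0 (D.grid.QQ i0 j0 c hc x (D.rowG_le hx))
    have h2 := mul_mem h1 hx
    rwa [inv_mul_cancel_right] at h2
  · refine cj_eq_of_le fun x hx => ?_
    have h1 := D.rc.R_col i0 j0 (D.grid.QQ i0 j0 c hc x (D.colG_le hx))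
    have h2 := mul_mem h1 hx
    rwa [inv_mul_cancel_right] at h2

theorem Jpres {k : G} (hk : k ∈ centralizer (R i0 j0 : Set G)) (h₁ : D.ac hk D.e₁ = D.e₁)
    (h₂ : D.ac hk D.e₂ = D.e₂) : cj k (rowG Q i0) = rowG Q i0 ∧ cj k (colG Q j0) = colG Q j0 := by
  have hV := D.norm_e hk ⟨1, 0, by rw [h₁]; module⟩ ⟨0, 1, by rw [h₂]; module⟩
  have hN := mem_normalizer_of_cj hV
  obtain ⟨x, hx, h3⟩ := D.actU k hN
    (fun a => by
      have := D.mem_K.1 hk _ ((D.R00 _).2 ⟨a, rfl⟩)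
      rw [this]; group)
    (fun b c => by
      have h4 : D.pi (D.K_norm hk (D.v_Q 0 b c)) = b • D.e₁ + c • D.e₂ := by
        rw [← D.ac_pi hk (D.v_Q 0 b c), D.pi_v, map_add, map_smul, map_smul, h₁, h₂]
      obtain ⟨a, ha⟩ := D.mem_e b c rfl (D.K_norm hk (D.v_Q 0 b c)) h4
      exact ⟨a, ha⟩)
    (fun d => by
      have h4 := conj_of_cj hV (D.v_mem 0 0 0 d)
      obtain ⟨a, b, c, d', h5⟩ := D.v_surj _ h4
      have h6 : d' = d := by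
        -- compare the actions
        obtain ⟨c₁, hc₁, k1⟩ := D.exists_c₁
        have k2 : D.ff c₁ D.e₁ = 0 := D.ff_N₁ hc₁ D.e₁_N₁
        have hkinv : ∀ m, D.ac (inv_mem hk) m = (D.ac hk)⁻¹ m := fun m => by rw [D.ac_inv hk]
        have hconj : k * v 0 0 0 d = (v a b c d') * k := by rw [h5]; group
        have hvK := D.V_le_K (D.v_mem 0 0 0 d)
        have hvK' := D.V_le_K (D.v_mem a b c d')
        have hvK'' := D.V_le_K (D.v_mem 0 0 0 d')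
        have e1 : D.ac hk * D.ac hvK = D.ac hvK' * D.ac hk := by
          rw [← D.ac_mul hk hvK, ← D.ac_mul hvK' hk]
          congr 1
        have e2 : D.ac hvK' = D.ac hvK'' := by
          have e3 : v a b c d' = v a b c 0 * v 0 0 0 d' := by
            rw [D.v_mul]; simp
          have e4 : D.ac hvK' = D.ac (D.Q_le_K (D.v_Q a b c)) * D.ac hvK'' := by
            rw [← D.ac_mul]
            congr 1
          rw [e4, D.ac_Q (D.v_Q a b c), one_mul]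
        -- evaluate
        have hc : ∃ m, D.ac hk m = c₁ := ⟨(D.ac hk)⁻¹ c₁, (D.ac hk).apply_symm_apply c₁⟩
        obtain ⟨m, hm⟩ := hc
        have e5 := LinearEquiv.congr_fun e1 m
        rw [LinearEquiv.mul_apply, LinearEquiv.mul_apply, e2, D.ac_v, D.ac_v, hm, map_add, hm, map_smul, map_add,
          map_smul, map_smul, h₁, h₂] at e5
        have e6 : D.ff m D.e₁ = 0 := by
          rw [← D.ac_ff hk, h₁, hm, k2]
        have e7 : D.ff m D.e₂ = 1 := by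
          rw [← D.ac_ff hk, h₂, hm, k1]
        rw [e6, e7, k1, k2, zero_smul, zero_add, one_smul] at e5
        have e8 : d • D.e₁ = d' • D.e₁ := add_left_cancel e5
        exact (smul_left_injective F D.e₁_ne e8).symm
      rw [← h5, h6]
      exact ⟨a, b, c, rfl⟩)
  obtain ⟨q1, q2⟩ := D.Q_norm hx
  obtain ⟨q3, q4⟩ := D.CV_norm h3
  have e : k = k * x⁻¹ * x := by group
  constructor
  · rw [e, cj_mul, q1, q3]
  · rw [e, cj_mul, q2, q4]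

/-- **The input of THEOREM SL.** -/
noncomputable def dec : SL.Dec F D.Mo where
  two := D.two
  four := D.four
  f := D.ff
  s := D.ss
  s_add := D.ss_add
  s_smul := D.ss_smul
  nondeg := D.ff_nondeg
  H := D.inp.act.range
  isom := by
    rintro _ ⟨k, rfl⟩ m
    exact D.ac_ss k.2 m
  N₁ := D.N₁
  N₂ := D.N₂
  isCompl := D.isCompl
  sing₁ := fun _ => D.sing₁
  sing₂ := fun _ => D.sing₂
  e₁ := D.e₁
  e₂ := D.e₂
  e₁_mem := D.e₁_N₁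
  e₂_mem := D.e₂_N₂
  e₁_ne := D.e₁_ne
  e₂_ne := D.e₂_ne
  perp := D.perp
  Jpres := by
    rintro _ ⟨k, rfl⟩ h1 h2 _ _
    obtain ⟨h3, h4⟩ := D.Jpres k.2 h1 h2
    exact ⟨fun m hm => D.ac_N₁₁ k.2 h3 hm, fun m hm => D.ac_N₂₂ k.2 h4 hm⟩
  J0 := fun a => ⟨D.ac (D.V_le_K (D.v_mem 0 0 0 a)), ⟨_, rfl⟩, D.ac_v a⟩
  J1 := fun φ hφ h0 => by
    obtain ⟨z, hz, h⟩ := D.J1 hφ h0
    exact ⟨_, ⟨_, rfl⟩, h, D.ac_CV hz⟩
  J2 := fun φ hφ h0 => by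
    obtain ⟨z, hz, h⟩ := D.J2 hφ h0
    exact ⟨_, ⟨_, rfl⟩, h, D.ac_CV hz⟩
  Se := by
    rintro _ ⟨k, rfl⟩ h1 h2
    exact D.Se k.2 h1 h2
  Om := fun N h => by
    refine D.inp.span N fun k x hx => ?_
    obtain ⟨a, b, c, rfl⟩ := D.mem_E.1 hx
    have h1 := h (D.inp.act k) ⟨k, rfl⟩
    have h2 : D.inp.π (v a b c 0) (D.inp.E_le hx) = b • D.e₁ + c • D.e₂ := D.pi_v a b c
    rw [h2, map_add, map_smul, map_smul]
    exact add_mem (Submodule.smul_mem _ _ h1.1) (Submodule.smul_mem _ _ h1.2)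

end Gin

end Cfsg.Agent.Omega.NO1.Gamma
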